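import Groth.Agent.DelIll.K905.GeoX
import Groth.Agent.DelIll.K904.GeoUp
import Mathlib.RingTheory.Flat.EquationalCriterion

/-!
# Liftings modulo `p²` over arbitrary bases
-/

set_option autoImplicit false
set_option linter.unusedSectionVars false
set_option linter.style.haveILetI false
universe u

open CategoryTheory CategoryTheory.Limits AlgebraicGeometry Opposite TopologicalSpace
open K905.GeoX

namespace K224.RelBase

/-- `θ : Ct → C` is the reduction modulo `p` of a flat `ℤ/p²`-algebra. -/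
structure IsLft (p : ℕ) {Ct C : Type*} [CommRing Ct] [CommRing C] (θ : Ct →+* C) : Prop where
  surj : Function.Surjective θ
  ker : ∀ b, θ b = 0 → ∃ c, b = p • c
  pp : (p : Ct) * p = 0
  tor : ∀ b, p • b = 0 → θ b = 0

theorem IsLft.natCast {p : ℕ} {Ct C : Type*} [CommRing Ct] [CommRing C] {θ : Ct →+* C} (h : IsLft p θ) :
    (p : C) = 0 := by
  have h1 := h.tor (p : Ct) (by rw [nsmul_eq_mul, h.pp])
  rwa [map_natCast] at h1

theorem IsLft.θ_p {p : ℕ} {Ct C : Type*} [CommRing Ct] [CommRing C] {θ : Ct →+* C} (h : IsLft p θ) (c : Ct) :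
    θ (p • c) = 0 := by
  rw [nsmul_eq_mul, map_mul, map_natCast, h.natCast, zero_mul]

theorem IsLft.of_isPushout {p : ℕ} {A B : Type u} [CommRing A] [CommRing B] {φ : A →+* B} {C D : CommRingCat.{u}}
    {ψ : A →+* C} {ψ' : B →+* D} {s : C ⟶ D} (h : IsLft p φ)
    (po : IsPushout (CommRingCat.ofHom φ) (CommRingCat.ofHom ψ) (CommRingCat.ofHom ψ') s) (hψ : ψ.Flat) :
    IsLft p s.hom where
  surj := surjective_of_isPushout po h.surj
  ker b hb := by
    have h1 := ker_of_isPushout po h.surj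
    have h2 : RingHom.ker φ = Ideal.span {(p : A)} := by
      apply le_antisymm
      · intro a ha
        obtain ⟨c, rfl⟩ := h.ker a ha
        rw [nsmul_eq_mul]
        exact Ideal.mul_mem_right _ _ (Ideal.mem_span_singleton_self _)
      · rw [Ideal.span_singleton_le_iff_mem, RingHom.mem_ker, map_natCast, h.natCast]
    rw [h2, Ideal.map_span, Set.image_singleton, map_natCast] at h1
    have h3 : b ∈ RingHom.ker s.hom := hb
    rw [h1, Ideal.mem_span_singleton'] at h3
    obtain ⟨c, rfl⟩ := h3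
    exact ⟨c, by rw [nsmul_eq_mul, mul_comm]⟩
  pp := by
    have := congrArg ψ h.pp
    rwa [map_mul, map_natCast, map_zero] at this
  tor b hb := by
    letI : Algebra A C := ψ.toAlgebra
    haveI : Module.Flat A C := hψ
    obtain ⟨k, a, y, h2, h3⟩ := Module.Flat.isTrivialRelation_of_sum_smul_eq_zero (R := A) (M := C)
      (f := fun _ : Unit => (p : A)) (x := fun _ : Unit => b) (by
        simp only [Finset.univ_unique, Finset.sum_singleton]
        have h8 : ((p : A) • b : C) = ψ p * b := rfl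
        rw [h8, map_natCast, ← nsmul_eq_mul, hb])
    have h4 : b = ∑ j, a () j • y j := h2 ()
    rw [h4, map_sum]
    refine Finset.sum_eq_zero fun j _ => ?_
    have h5 := h3 j
    simp only [Finset.univ_unique, Finset.sum_singleton] at h5
    have h6 := h.tor (a default j) (by rw [nsmul_eq_mul]; exact h5)
    have h7 : s.hom (ψ (a () j)) = ψ' (φ (a () j)) := congr($(po.w.symm).hom (a () j))
    have h8 : (a () j • y j : C) = ψ (a () j) * y j := rfl
    rw [h8, map_mul, h7]
    have h9 : φ (a () j) = 0 := h6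
    rw [h9, map_zero, zero_mul]

/-- The reduction `ℤ/p² → ℤ/p`. -/
abbrev φ₀ (p : ℕ) : ULift.{u} (ZMod (p ^ 2)) →+* ULift.{u} (ZMod p) :=
  ULift.ringEquiv.symm.toRingHom.comp ((ZMod.castHom (dvd_pow_self p two_ne_zero) (ZMod p)).comp
        ULift.ringEquiv.toRingHom)

theorem isLft_φ₀ (p : ℕ) [hp : Fact p.Prime] : IsLft p (φ₀.{u} p) := by
  have hne : NeZero (p ^ 2) := ⟨pow_ne_zero 2 hp.1.ne_zero⟩
  have hc : ∀ n : ℕ, (ZMod.castHom (dvd_pow_self p two_ne_zero) (ZMod p)) (n : ZMod (p ^ 2)) = (n : ZMod p) :=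
    fun n => map_natCast _ n
  refine ⟨?_, ?_, ?_, ?_⟩
  · intro ⟨x⟩
    refine ⟨⟨(x.val : ZMod (p ^ 2))⟩, ?_⟩
    refine ULift.down_injective ?_
    change (ZMod.castHom (dvd_pow_self p two_ne_zero) (ZMod p)) (x.val : ZMod (p ^ 2)) = x
    rw [hc, ZMod.natCast_zmod_val]
  · rintro ⟨b⟩ hb
    have h1 : (ZMod.castHom (dvd_pow_self p two_ne_zero) (ZMod p)) b = 0 := congrArg ULift.down hb
    have h2 : ((b.val : ℕ) : ZMod (p ^ 2)) = b := ZMod.natCast_zmod_val b
    rw [← h2, hc, ZMod.natCast_eq_zero_iff] at h1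
    obtain ⟨c, hc'⟩ := h1
    refine ⟨⟨(c : ZMod (p ^ 2))⟩, ULift.down_injective ?_⟩
    change b = p • (c : ZMod (p ^ 2))
    rw [← h2, hc', nsmul_eq_mul, Nat.cast_mul]
  · refine ULift.down_injective ?_
    change ((p : ZMod (p ^ 2))) * (p : ZMod (p ^ 2)) = 0
    rw [← Nat.cast_mul, ← pow_two]
    exact ZMod.natCast_self _
  · rintro ⟨b⟩ hb
    have h1 : p • b = 0 := congrArg ULift.down hb
    have h2 : ((b.val : ℕ) : ZMod (p ^ 2)) = b := ZMod.natCast_zmod_val b
    rw [← h2, nsmul_eq_mul, ← Nat.cast_mul, ZMod.natCast_eq_zero_iff] at h1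
    have h3 : p ∣ b.val := Nat.dvd_of_mul_dvd_mul_left hp.1.pos (dvd_trans (dvd_of_eq (pow_two p).symm) h1)
    refine ULift.down_injective ?_
    change (ZMod.castHom (dvd_pow_self p two_ne_zero) (ZMod p)) b = 0
    rw [← h2, hc, ZMod.natCast_eq_zero_iff]
    exact h3

section geo

variable {p : ℕ} {A B : Type u} [CommRing A] [CommRing B] {φ : A →+* B} (hφ : IsLft p φ)
  {Y Y' : Scheme.{u}} {h : Y' ⟶ Y} {q : Y ⟶ Spec (CommRingCat.of A)} {q' : Y' ⟶ Spec (CommRingCat.of B)}
  (H : IsPullback h q' q (Spec.map (CommRingCat.ofHom φ)))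

include hφ H in
theorem isLft_sec [Flat q] {W : Y.Opens} (hW : IsAffineOpen W) {U : Y'.Opens} (e : h ⁻¹ᵁ W = U) (e' : U ≤ h ⁻¹ᵁ W) :
    IsLft p (h.appLE W U e').hom := by
  subst e
  exact hφ.of_isPushout (isPushout_co H hW) (co_flat q hW)

include hφ in
theorem surjective_spec : Surjective (Spec.map (CommRingCat.ofHom φ)) := by
  constructor
  intro x
  have h1 : x ∈ Set.range (PrimeSpectrum.comap φ) := by
    rw [_root_.range_comap_of_surjective _ _ hφ.surj]
    intro a ha
    obtain ⟨b, rfl⟩ := hφ.ker a ha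
    rw [nsmul_eq_mul]
    refine Ideal.mul_mem_right _ _ ?_
    refine (x.isPrime.mem_or_mem (x := (p : A)) (y := (p : A)) ?_).elim id id
    rw [hφ.pp]
    exact Ideal.zero_mem _
  exact h1

include hφ in
theorem isClosedImmersion_spec : IsClosedImmersion (Spec.map (CommRingCat.ofHom φ)) :=
  IsClosedImmersion.spec_of_surjective _ hφ.surj

include hφ H in
theorem isClosedImmersion : IsClosedImmersion h :=
  MorphismProperty.of_isPullback (P := @IsClosedImmersion) H.flip (isClosedImmersion_spec hφ)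

include hφ H in
theorem surjective : Surjective h :=
  MorphismProperty.of_isPullback (P := @Surjective) H.flip (surjective_spec hφ)

include hφ H in
theorem isOpenEmbedding : Topology.IsOpenEmbedding h := by
  have h1 := isClosedImmersion hφ H
  have h2 := surjective hφ H
  exact h.isClosedEmbedding.isEmbedding.isOpenEmbedding_of_surjective h.surjective

end geo

end K224.RelBase
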