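import Groth.Agent.DelIll.K904.LocalCartier
import Groth.Agent.DelIll.K905.TotPhi

/-!
# The relative local Cartier isomorphism, all degrees

`F : A1 → A` a ring homomorphism of rings of characteristic `p`, such that `A` is free over `A1` with basis the
monomials `x ^ a`, `0 ≤ a_j < p`; `L` a free `A`-module with basis `e`, `δ : A → L` a derivation killing `F (A1)` with
`δ (x j) = e j`.
-/

set_option autoImplicit false
set_option linter.unusedSectionVars false
set_option linter.style.haveILetI false

open Module TensorProduct ExteriorAlgebra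
open K904 K904.LocalCartier

namespace K224.RelCartier

variable (p : ℕ) [Fact p.Prime] {A1 A L J : Type*} [CommRing A1] [CommRing A] [AddCommGroup L] [Module A L]
  [LinearOrder J] [Fintype J]

/-- Relative `p`-basis. -/
def IsRPB (F : A1 →+* A) (x : J → A) : Prop :=
  Function.Bijective (fun β : (J → ZMod p) → A1 => ∑ a, F (β a) * mon x (fun j => (a j).val))

/-- Relative charts. -/
structure RChart (F : A1 →+* A) (x : J → A) (δ : A →+ L) (e : Basis J A L) : Prop where
  pbasis : IsRPB p F x
  leib : ∀ b c, δ (b * c) = b • δ c + c • δ b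
  const : ∀ c : A1, δ (F c) = 0
  ex : ∀ j, δ (x j) = e j

variable {p} {F : A1 →+* A} {x : J → A} {δ : A →+ L} {e : Basis J A L}

/-! ### Derivatives -/

section deriv

variable (h : RChart p F x δ e)
include h

theorem θ_mul (j : J) (b c : A) : θ δ e j (b * c) = b * θ δ e j c + c * θ δ e j b := by
  change e.coord j (δ (b * c)) = _
  rw [h.leib, map_add, map_smul, map_smul]
  rfl

theorem θ_one (j : J) : θ δ e j 1 = 0 := by
  have := θ_mul h j 1 1
  simpa using this

theorem θ_pow (j : J) (b : A) (n : ℕ) : θ δ e j (b ^ n) = n * (b ^ (n - 1) * θ δ e j b) := by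
  induction n with
  | zero => simp [θ_one h]
  | succ n ih =>
    rw [pow_succ, θ_mul h, ih]
    rcases n with _ | n
    · simp
    · simp only [Nat.add_sub_cancel, Nat.cast_add, Nat.cast_one, pow_succ]
      ring

theorem θ_const (j : J) (c : A1) : θ δ e j (F c) = 0 := by
  change e.coord j (δ (F c)) = 0
  rw [h.const, map_zero]

theorem θ_const_mul (j : J) (c : A1) (b : A) : θ δ e j (F c * b) = F c * θ δ e j b := by
  rw [θ_mul h, θ_const h, mul_zero, add_zero]

open Classical in
theorem θ_x (i j : J) : θ δ e j (x i) = if i = j then 1 else 0 := by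
  change e.coord j (δ (x i)) = _
  rw [h.ex i, Basis.coord_apply, Basis.repr_self]
  by_cases hij : i = j
  · subst hij; simp
  · simp [hij]

theorem θ_prod_erase (j : J) (a : J → ℕ) (s : Finset J) (hs : j ∉ s) :
    θ δ e j (∏ i ∈ s, x i ^ a i) = 0 := by
  classical
  induction s using Finset.induction_on with
  | empty => simp [θ_one h]
  | insert i s hi ih =>
    have hij : i ≠ j := fun h' => hs (h' ▸ Finset.mem_insert_self i s)
    rw [Finset.prod_insert hi, θ_mul h, ih fun h' => hs (Finset.mem_insert_of_mem h'), θ_pow h, θ_x h, if_neg hij]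
    simp

omit h in
theorem mon_update (a : J → ℕ) (j : J) (k : ℕ) :
    mon x (Function.update a j k) = x j ^ k * ∏ i ∈ Finset.univ.erase j, x i ^ a i := by
  classical
  rw [mon, ← Finset.mul_prod_erase _ _ (Finset.mem_univ j), Function.update_self]
  congr 1
  refine Finset.prod_congr rfl fun i hi => ?_
  rw [Function.update_of_ne (Finset.ne_of_mem_erase hi)]

open Classical in
theorem θ_mon (j : J) (a : J → ℕ) :
    θ δ e j (mon x a) = a j * mon x (Function.update a j (a j - 1)) := by
  have h1 : mon x a = x j ^ a j * ∏ i ∈ Finset.univ.erase j, x i ^ a i := by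
    rw [← mon_update, Function.update_eq_self]
  rw [h1, θ_mul h, θ_prod_erase h j a _ (Finset.notMem_erase j _), mul_zero, zero_add, θ_pow h, θ_x h, if_pos rfl,
    mon_update]
  ring

end deriv

/-! ### The setting over `A1` -/

section copy

variable (p F)

/-- `A` as an algebra over `A1`. -/
noncomputable abbrev alg : Algebra A1 A := F.toAlgebra

/-- `L` as a module over `A1`. -/
abbrev mod (L : Type*) [AddCommGroup L] [Module A L] : Module A1 L := Module.compHom L F

theorem alg_smul (c : A1) (b : A) : letI := alg F; c • b = F c * b := rfl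

theorem mod_smul (c : A1) (v : L) : letI := mod F L; c • v = F c • v := rfl

variable {F}

/-- The basis of monomials. -/
noncomputable def bas (hx : IsRPB p F x) :
    letI := alg F
    Basis (J → ZMod p) A1 A :=
  letI := alg F
  Basis.ofEquivFun (LinearEquiv.ofBijective
    ({ toFun := fun β => ∑ a, F (β a) * mon x (fun j => (a j).val)
       map_add' := fun β γ => by
         rw [← Finset.sum_add_distrib]
         refine Finset.sum_congr rfl fun a _ => ?_
         rw [Pi.add_apply, map_add, add_mul]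
       map_smul' := fun c β => by
         rw [Finset.smul_sum]
         refine Finset.sum_congr rfl fun a _ => ?_
         rw [Pi.smul_apply, RingHom.id_apply, alg_smul, smul_eq_mul, map_mul, mul_assoc] } :
      ((J → ZMod p) → A1) →ₗ[A1] A) hx).symm

theorem bas_apply (hx : IsRPB p F x) (a : J → ZMod p) :
    letI := alg F
    bas p hx a = mon x (fun j => (a j).val) := by
  letI := alg F
  classical
  rw [bas, Basis.coe_ofEquivFun, LinearEquiv.symm_symm]
  change ∑ a', F (Pi.single (M := fun _ => A1) a (1 : A1) a') * mon x (fun j => (a' j).val) = _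
  rw [Finset.sum_eq_single a]
  · rw [Pi.single_eq_same, map_one, one_mul]
  · intro b _ hb
    rw [Pi.single_eq_of_ne hb, map_zero, zero_mul]
  · intro h
    exact absurd (Finset.mem_univ _) h

end copy

/-! ### The main theorem -/

section main

variable (h : RChart p F x δ e) [CharP A1 p]

variable (p A1) in
/-- `A1` has characteristic `p`. -/
abbrev zalg : Algebra (ZMod p) A1 := ZMod.algebra A1 p

variable (p F) in
theorem zalg_smul (z : ZMod p) (b : A) : letI := alg F; letI := zalg p A1
    (algebraMap (ZMod p) A1 z) • b = (z.val : A) * b := by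
  letI := alg F
  letI := zalg p A1
  rw [alg_smul]
  congr 1
  obtain ⟨n, rfl⟩ := ZMod.natCast_zmod_surjective z
  rw [map_natCast, map_natCast]
  have : ((ZMod.val (n : ZMod p) : ℕ) : ZMod p) = (n : ZMod p) := ZMod.natCast_zmod_val _
  have h2 := congrArg (fun z : ZMod p => F (algebraMap (ZMod p) A1 z)) this
  simp only [map_natCast] at h2
  exact h2.symm

variable (p A1) in
/-- The model slots. -/
noncomputable def model (_ : J) : Slot.Model (ZMod p) A1 :=
  letI := zalg p A1
  Slot.plain p

theorem slot_eq (j : J) (b : A) :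
    letI := alg F
    Slot.slot (bas p h.pbasis) j (model p A1 j).θ b = θ δ e j b := by
  letI := alg F
  letI := zalg p A1
  let R : Module.End A1 A :=
    { toFun := fun b => θ δ e j b
      map_add' := fun b c => by rw [map_add]
      map_smul' := fun c b => by
        rw [alg_smul, θ_const_mul h, RingHom.id_apply, alg_smul] }
  have key : Slot.slot (bas p h.pbasis) j (model p A1 j).θ = R := by
    refine (bas p h.pbasis).ext fun a => ?_
    have hR : R (bas p h.pbasis a) = θ δ e j (bas p h.pbasis a) := rfl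
    rw [hR, model, Slot.plain_θ, Slot.slot_mono, bas_apply, bas_apply, θ_mon h, zalg_smul]
    by_cases ha : a j = 0
    · rw [ha]; simp
    · congr 1
      congr 1
      funext i
      by_cases hij : i = j
      · subst hij
        rw [Function.update_self, Function.update_self]
        have h1 : 1 ≤ (a i).val := Nat.one_le_iff_ne_zero.2 fun h' => ha ((ZMod.val_eq_zero _).1 h')
        rw [ZMod.val_sub]
        · rw [ZMod.val_one]
        · rw [ZMod.val_one]; exact h1
      · rw [Function.update_of_ne hij, Function.update_of_ne hij]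
  exact LinearMap.congr_fun key b

end main

theorem exists_basis_eq₂ {V : Type*} [AddCommGroup V] [Module A1 V] (e : Basis J A L) (e' : Basis J A1 V)
    (s : Finset J) : ∃ (n : ℕ) (v : Fin n → J), e.ExteriorAlgebra s = ιMulti A n (fun i => e (v i)) ∧
      e'.ExteriorAlgebra s = ιMulti A1 n (fun i => e' (v i)) ∧
      (∀ j, j ∈ s ↔ j ∈ Set.range v) ∧ Function.Injective v ∧ n = s.card := by
  obtain ⟨t, rfl⟩ := Set.powersetCard.prodEquiv.surjective s
  obtain ⟨n, t⟩ := t
  refine ⟨n, Set.powersetCard.ofFinEmbEquiv.symm t, ?_, ?_, fun j => ?_, (Set.powersetCard.ofFinEmbEquiv.symm t).injective,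
    t.2.symm⟩
  · rw [Set.powersetCard.prodEquiv_apply, basis_apply_powersetCard]
    rfl
  · rw [Set.powersetCard.prodEquiv_apply, basis_apply_powersetCard]
    rfl
  · exact (Set.powersetCard.mem_range_ofFinEmbEquiv_symm_iff_mem t j).symm

/-! ### The inverse Cartier operator -/

section c0

variable (p F x e)

/-- The semilinear map `e'_j ↦ x_j ^ (p - 1) e_j`. -/
noncomputable def fadd : (J → A1) →+ L where
  toFun v := ∑ j, F (v j) • x j ^ (p - 1) • e j
  map_zero' := by simp
  map_add' v w := by
    simp only [Pi.add_apply, map_add, add_smul, Finset.sum_add_distrib]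

theorem fadd_smul (b : A1) (v : J → A1) : fadd p F x e (b • v) = F b • fadd p F x e v := by
  change ∑ j, F ((b • v) j) • _ = F b • ∑ j, F (v j) • _
  rw [Finset.smul_sum]
  refine Finset.sum_congr rfl fun j _ => ?_
  rw [Pi.smul_apply, smul_eq_mul, map_mul, mul_smul]

theorem fadd_basis (j : J) : fadd p F x e (Pi.basisFun A1 J j) = x j ^ (p - 1) • e j := by
  classical
  change ∑ i, F (Pi.basisFun A1 J j i) • _ = _
  rw [Finset.sum_eq_single j]
  · simp
  · intro i _ hi
    simp [hi]
  · intro h
    exact absurd (Finset.mem_univ _) h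

/-- The inverse Cartier operator (a semilinear ring homomorphism). -/
noncomputable def c0 : ExteriorAlgebra A1 (J → A1) →+* ExteriorAlgebra A L :=
  Semi.extR F (fadd p F x e) (fadd_smul p F x e)

theorem c0_ι (v : J → A1) : c0 p F x e (ι A1 v) = ι A (fadd p F x e v) := Semi.extR_ι _ _ _ _

theorem c0_algebraMap (a : A1) : c0 p F x e (algebraMap A1 _ a) = algebraMap A _ (F a) :=
  Semi.extR_algebraMap _ _ _ _

theorem c0_smul (b : A1) (y : ExteriorAlgebra A1 (J → A1)) : c0 p F x e (b • y) = F b • c0 p F x e y :=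
  Semi.extR_smul _ _ _ _ _

theorem c0_mem {n : ℕ} {y : ExteriorAlgebra A1 (J → A1)} (hy : y ∈ ⋀[A1]^n (J → A1)) : c0 p F x e y ∈ ⋀[A]^n L :=
  Semi.extR_mem _ _ _ _ _ hy

theorem c0_basis (s : Finset J) :
    c0 p F x e ((Pi.basisFun A1 J).ExteriorAlgebra s) = (∏ j ∈ s, x j ^ (p - 1)) • e.ExteriorAlgebra s := by
  classical
  obtain ⟨n, v, h1, h5, h2, h3, -⟩ := exists_basis_eq₂ e (Pi.basisFun A1 J) s
  rw [h1, h5, c0, Semi.extR_ιMulti]
  have h4 : (fun i => fadd p F x e (Pi.basisFun A1 J (v i))) = fun i => x (v i) ^ (p - 1) • e (v i) := by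
    funext i
    rw [fadd_basis]
  rw [h4, AlternatingMap.map_smul_univ]
  congr 1
  have hs : s = Finset.univ.image v := by
    ext j
    rw [h2]
    simp
  rw [hs, Finset.prod_image fun a _ b _ h => h3 h]

end c0

/-! ### Assembly -/

section assembly

variable (h : RChart p F x δ e) [CharP A1 p]

theorem mon_w (s : Finset J) :
    mon x (fun j => (Cartier.w (model (J := J) p A1) s j).val) = ∏ j ∈ s, x j ^ (p - 1) := by
  letI := zalg p A1
  have h1 : (∏ j ∈ s, x j ^ (p - 1)) = ∏ j, if j ∈ s then x j ^ (p - 1) else 1 := by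
    rw [Finset.prod_ite_mem, Finset.univ_inter]
  rw [h1, mon]
  refine Finset.prod_congr rfl fun j _ => ?_
  rw [Cartier.w, model, Slot.plain_m0, Slot.plain_m1]
  by_cases hj : j ∈ s
  · rw [if_pos hj, if_pos hj]
    congr 1
    obtain ⟨k, hk⟩ : ∃ k, p = k + 1 := ⟨p - 1, (Nat.succ_pred_prime Fact.out).symm⟩
    subst hk
    rw [ZMod.val_neg_one]
    rfl
  · rw [if_neg hj, if_neg hj, ZMod.val_zero, pow_zero]

include h in
/-- The transport of the differential to `A ⊗ Λ`. -/
theorem Φ_D :
    letI := alg F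
    letI := mod F L
    haveI : IsScalarTower A1 A L := ⟨fun a b v => by
      rw [alg_smul, mul_smul]; rfl⟩
    ∀ y, Iso.Φ (Pi.basisFun A1 J) e (Cartier.D (bas p h.pbasis) (Pi.basisFun A1 J) (model p A1) y) =
      d δ e (Iso.Φ (Pi.basisFun A1 J) e y) := by
  letI := alg F
  letI := mod F L
  haveI : IsScalarTower A1 A L := ⟨fun a b v => by
    rw [alg_smul, mul_smul]; rfl⟩
  intro y
  rw [Cartier.D]
  refine (Iso.Φ_dd e (Pi.basisFun A1 J) (fun j => Slot.slot (bas p h.pbasis) j (model p A1 j).θ) y).trans ?_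
  rw [d, Iso.dd_apply, Iso.dd_apply]
  refine Finset.sum_congr rfl fun j _ => ?_
  have hT : (Slot.slot (bas p h.pbasis) j (model p A1 j).θ).toAddMonoidHom = θ δ e j := by
    ext b
    exact slot_eq h j b
  rw [hT]

include h in
theorem d_d (y : ExteriorAlgebra A L) : d δ e (d δ e y) = 0 := by
  letI := alg F
  letI := mod F L
  haveI : IsScalarTower A1 A L := ⟨fun a b v => by
    rw [alg_smul, mul_smul]; rfl⟩
  obtain ⟨z, rfl⟩ := (Iso.Φ (Pi.basisFun A1 J) e).surjective y
  have h1 := Φ_D h z
  have h2 := Φ_D h (Cartier.D (bas p h.pbasis) (Pi.basisFun A1 J) (model p A1) z)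
  rw [← h1, ← h2]
  have h3 := LinearMap.congr_fun (Cartier.D_D (bas p h.pbasis) (Pi.basisFun A1 J) (model p A1)) z
  rw [Module.End.mul_apply] at h3
  rw [h3, LinearMap.zero_apply, map_zero]

include h in
/-- **Relative local Cartier isomorphism**, all degrees. -/
theorem main :
    ∃ (H : ExteriorAlgebra A L →+ ExteriorAlgebra A L) (r : ExteriorAlgebra A L →+ ExteriorAlgebra A1 (J → A1)),
      (∀ y, d δ e (H y) + H (d δ e y) = y - c0 p F x e (r y)) ∧
      (∀ y, r (c0 p F x e y) = y) ∧
      (∀ y, r (d δ e y) = 0) ∧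
      (∀ y, d δ e (c0 p F x e y) = 0) ∧
      (∀ (b : A1) y, H (F b • y) = F b • H y) ∧
      (∀ (b : A1) y, r (F b • y) = b • r y) ∧
      (∀ n, ∀ y ∈ ⋀[A]^(n + 1) L, H y ∈ ⋀[A]^n L) ∧
      (∀ y ∈ ⋀[A]^0 L, H y = 0) ∧
      (∀ n, ∀ y ∈ ⋀[A]^n L, r y ∈ ⋀[A1]^n (J → A1)) := by
  letI := alg F
  letI := mod F L
  haveI : IsScalarTower A1 A L := ⟨fun a b v => by
    rw [alg_smul, mul_smul]; rfl⟩
  set bs := bas p h.pbasis with hbs
  set e' := Pi.basisFun A1 J with he'
  set m := model (J := J) p A1 with hm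
  obtain ⟨H', hG, h1, h2, h3⟩ := Cartier.exists_homotopy bs e' m (Gm A1 A (J → A1)) (Hj_mem bs e' m)
    (Pj_mul_mem bs e' m)
  have hD : ∀ y, Iso.Φ e' e (Cartier.D bs e' m y) = d δ e (Iso.Φ e' e y) := Φ_D h
  have hc : ∀ y, Iso.Φ e' e (Cartier.c bs e' m y) = c0 p F x e y := by
    intro y
    have : AddMonoidHom.mk' (fun y => Iso.Φ e' e (Cartier.c bs e' m y))
        (fun a b => by rw [map_add, map_add]) = (c0 p F x e).toAddMonoidHom := by
      refine Iso.ext_of_basis e' fun b s => ?_
      rw [AddMonoidHom.mk'_apply]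
      have e2 : Cartier.c bs e' m (b • e'.ExteriorAlgebra s) =
          b • (bs (Cartier.w m s) ⊗ₜ[A1] e'.ExteriorAlgebra s) := by
        rw [map_smul, Cartier.c_basis]
      have e3 : b • (bs (Cartier.w m s) ⊗ₜ[A1] e'.ExteriorAlgebra s) =
          (F b * mon x (fun j => (Cartier.w m s j).val)) ⊗ₜ[A1] e'.ExteriorAlgebra s := by
        rw [smul_tmul', alg_smul, bas_apply]
      have e4 : Iso.Φ e' e ((F b * mon x (fun j => (Cartier.w m s j).val)) ⊗ₜ[A1] e'.ExteriorAlgebra s) =
          (F b * mon x (fun j => (Cartier.w m s j).val)) • e.ExteriorAlgebra s := by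
        rw [Iso.Φ_tmul, Iso.jL_basis]
      rw [e2, e3, e4]
      change _ = c0 p F x e _
      rw [c0_smul, c0_basis, mon_w, smul_smul]
    exact DFunLike.congr_fun this y
  refine ⟨AddMonoidHom.mk' (fun y => Iso.Φ e' e (H' ((Iso.Φ e' e).symm y)))
      (fun a b => by rw [map_add, map_add, map_add]),
    AddMonoidHom.mk' (fun y => Cartier.r bs e' m ((Iso.Φ e' e).symm y))
      (fun a b => by rw [map_add, map_add]), ?_, ?_, ?_, ?_, ?_, ?_, ?_, ?_, ?_⟩
  · intro y
    obtain ⟨z, rfl⟩ := (Iso.Φ e' e).surjective y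
    rw [AddMonoidHom.mk'_apply, AddMonoidHom.mk'_apply]
    have hs : (Iso.Φ e' e).symm (Iso.Φ e' e z) = z := LinearEquiv.symm_apply_apply _ _
    have hs2 : (Iso.Φ e' e).symm (Iso.Φ e' e (Cartier.D bs e' m z)) = Cartier.D bs e' m z :=
      LinearEquiv.symm_apply_apply _ _
    rw [hs, ← hD, ← hD, hs2, ← hc, ← map_add, h1, map_sub]
  · intro y
    rw [AddMonoidHom.mk'_apply]
    have hs : (Iso.Φ e' e).symm (Iso.Φ e' e (Cartier.c bs e' m y)) = Cartier.c bs e' m y :=
      LinearEquiv.symm_apply_apply _ _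
    rw [← hc, hs, Cartier.r_c]
  · intro y
    obtain ⟨z, rfl⟩ := (Iso.Φ e' e).surjective y
    rw [AddMonoidHom.mk'_apply]
    have hs2 : (Iso.Φ e' e).symm (Iso.Φ e' e (Cartier.D bs e' m z)) = Cartier.D bs e' m z :=
      LinearEquiv.symm_apply_apply _ _
    rw [← hD, hs2, h2]
  · intro y
    rw [← hc, ← hD, h3, map_zero]
  · intro b y
    rw [AddMonoidHom.mk'_apply]
    have e1 : (Iso.Φ e' e).symm (F b • y) = b • (Iso.Φ e' e).symm y := by
      rw [map_smul, ← algebraMap_smul A b]
      rfl
    rw [e1, map_smul, ← algebraMap_smul A b, map_smul]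
    rfl
  · intro b y
    rw [AddMonoidHom.mk'_apply]
    have e1 : (Iso.Φ e' e).symm (F b • y) = b • (Iso.Φ e' e).symm y := by
      rw [map_smul, ← algebraMap_smul A b]
      rfl
    rw [e1, map_smul]
  · intro n y hy
    exact Φ_mem e' e n _ (hG.1 n _ (Φ_symm_mem e' e (n + 1) y hy))
  · intro y hy
    rw [AddMonoidHom.mk'_apply]
    rw [hG.2 _ (Φ_symm_mem e' e 0 y hy), map_zero]
  · intro n y hy
    exact r_mem bs e' m n _ (Φ_symm_mem e' e n y hy)

end assembly

/-! ### The de Rham differential -/

section dR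

variable (h : RChart p F x δ e)
include h

theorem d_mul (y z : ExteriorAlgebra A L) : d δ e (y * z) = d δ e y * z + Iso.sg y * d δ e z :=
  Iso.dd_mul e (θ δ e) (θ_mul h) y z

omit h in
theorem basis_empty (e : Basis J A L) : e.ExteriorAlgebra ∅ = 1 := by
  obtain ⟨n, v, h1, h2, -, h3⟩ := Ext.exists_basis_eq e ∅
  rw [Finset.card_empty] at h3
  subst h3
  rw [h1, ιMulti_zero_apply]

omit h in
theorem d_algebraMap (b : A) : d δ e (algebraMap A _ b) = ι A (δ b) := by
  have h1 : algebraMap A (ExteriorAlgebra A L) b = b • e.ExteriorAlgebra ∅ := by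
    rw [basis_empty, Algebra.algebraMap_eq_smul_one]
  rw [h1, d, Iso.dd_basis, basis_empty]
  conv_rhs => rw [← e.sum_repr (δ b), map_sum]
  refine Finset.sum_congr rfl fun j _ => ?_
  rw [mul_one, map_smul]
  rfl

/-- The rules. -/
theorem isDR [CharP A1 p] : K905.TotPhi.IsDR δ (d δ e) where
  leib := h.leib
  alg := d_algebraMap
  mul := d_mul h
  dd b := by rw [← d_algebraMap (δ := δ) (e := e), d_d h]

end dR

/-- Two derivations agreeing on the coordinates and killing the constants are equal. -/
theorem der_ext (hx : IsRPB p F x) {M : Type*} [AddCommGroup M] {R : Type*} [CommRing R] [Module R M] (w : A →+* R)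
    (D D' : A →+ M)
    (hD : ∀ a b, D (a * b) = w a • D b + w b • D a) (hD' : ∀ a b, D' (a * b) = w a • D' b + w b • D' a)
    (hc : ∀ c : A1, D (F c) = 0) (hc' : ∀ c : A1, D' (F c) = 0) (h : ∀ j, D (x j) = D' (x j)) (b : A) :
    D b = D' b := by
  have h1 : ∀ (E : A →+ M), (∀ a b, E (a * b) = w a • E b + w b • E a) → E 1 = 0 := fun E hE => by
    have h2 := hE 1 1
    rw [mul_one, map_one w, one_smul] at h2
    exact left_eq_add.1 h2
  have hpow : ∀ (b : A) (n : ℕ), D b = D' b → D (b ^ n) = D' (b ^ n) := by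
    intro b n hb
    induction n with
    | zero => rw [pow_zero, h1 D hD, h1 D' hD']
    | succ n ih => rw [pow_succ, hD, hD', ih, hb]
  have hprod : ∀ (s : Finset J) (a : J → ℕ), D (∏ j ∈ s, x j ^ a j) = D' (∏ j ∈ s, x j ^ a j) := by
    intro s a
    classical
    induction s using Finset.induction_on with
    | empty => rw [Finset.prod_empty, h1 D hD, h1 D' hD']
    | insert i s hi ih => rw [Finset.prod_insert hi, hD, hD', ih, hpow _ _ (h i)]
  obtain ⟨β, rfl⟩ := hx.2 b
  simp only [map_sum]
  refine Finset.sum_congr rfl fun a _ => ?_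
  rw [hD, hD', hc, hc', smul_zero, add_zero, add_zero]
  congr 1
  exact hprod _ _

end K224.RelCartier
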