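import Groth.Agent.DelIll.K224.RelGeom
import Mathlib.RingTheory.Smooth.Basic

/-!
# Existence of the function attached to a lifting of Frobenius
-/

set_option autoImplicit false
set_option linter.unusedSectionVars false
set_option linter.style.haveILetI false

open K905 K224.RelM K224.RelPhi K224.RelCartier K224.RelLocal K224.RelGeom K904.Witt FrobAlg
open K905.TotM (PZ)

namespace K224.RelLam

universe u

/-- The carry polynomial. -/
theorem carry_eq (p : ℕ) [Fact p.Prime] {A : Type u} [CommRing A] (a b : A) : carry p a b = -Cross.c p a b := by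
  have hp : (p : MvPolynomial (Fin 2) ℤ) ≠ 0 := by
    have : (p : MvPolynomial (Fin 2) ℤ) = MvPolynomial.C (p : ℤ) := (map_natCast _ _).symm
    rw [this, Ne, ← map_zero MvPolynomial.C, MvPolynomial.C_inj]
    exact_mod_cast (Fact.out : p.Prime).ne_zero
  have h1 : carry p (MvPolynomial.X 0 : MvPolynomial (Fin 2) ℤ) (MvPolynomial.X 1) =
      -Cross.c p (MvPolynomial.X 0) (MvPolynomial.X 1) := by
    apply mul_left_cancel₀ hp
    rw [carry_rel, Cross.add_pow_eq Fact.out, nsmul_eq_mul]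
    ring
  let φ : MvPolynomial (Fin 2) ℤ →+* A := (MvPolynomial.aeval (R := ℤ) ![a, b]).toRingHom
  have hφ0 : φ (MvPolynomial.X 0) = a := by simp [φ]
  have hφ1 : φ (MvPolynomial.X 1) = b := by simp [φ]
  have h2 := congrArg φ h1
  rw [carry_map, map_neg, Cross.map_c, hφ0, hφ1] at h2
  exact h2

variable {p : ℕ} [hp : Fact p.Prime] {At A1 A : Type u} [CommRing At] [CommRing A1] [CommRing A]
  (G : GDat p At A1 A)

theorem vv_add (a b : A) : vv (p := p) (a + b) = vv a + vv b := by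
  refine K674.Ghost.ext2 ?_ ?_
  · rw [K674.Ghost.coeff_zero_add, vv_zero, vv_zero, vv_zero, add_zero]
  · rw [K674.Ghost.coeff_one_add _ _ (vv_zero _) (vv_zero _), vv_one, vv_one, vv_one]

theorem vv_z : vv (p := p) (0 : A) = 0 := by
  refine K674.Ghost.ext2 ?_ ?_
  · rw [vv_zero, TruncatedWittVector.coeff_zero]
  · rw [vv_one, TruncatedWittVector.coeff_zero]

theorem vv_neg (a : A) : vv (p := p) (-a) = -vv a := by
  rw [eq_neg_iff_add_eq_zero, ← vv_add, neg_add_cancel, vv_z]

theorem vv_inj {a b : A} (h : vv (p := p) a = vv b) : a = b := by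
  have := congrArg (fun x : W2 p A => x.coeff 1) h
  simpa only [vv_one] using this

theorem mul_vv [CharP A p] (z : W2 p A) (a : A) : z * vv a = vv (z.coeff 0 ^ p * a) := by
  refine K674.Ghost.ext2 ?_ ?_
  · rw [K674.Ghost.coeff_zero_mul, vv_zero, vv_zero, mul_zero]
  · rw [K674.Ghost.coeff_one_mul _ _ (vv_zero _), vv_one, vv_one]

theorem tau_add (a b : A) : tau (p := p) (a + b) = tau a + tau b + vv (Cross.c p a b) := by
  have h := eq_tau_add_vv (tau (p := p) a + tau b)
  have h0 : (tau (p := p) a + tau b).coeff 0 = a + b := by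
    rw [K674.Ghost.coeff_zero_add, tau_zero, tau_zero]
  have h1 : (tau (p := p) a + tau b).coeff 1 = -Cross.c p a b := carry_eq p a b
  rw [h0, h1, vv_neg] at h
  rw [h]
  abel

/-- Pairs. -/
noncomputable def R0 : Subring (At × W2 p A) :=
  RingHom.eqLocus (G.θ.comp (RingHom.fst At (W2 p A))) ((G.w.comp (FrobAlg.res p A)).comp (RingHom.snd At (W2 p A)))

theorem mem_R0 {x : At × W2 p A} : x ∈ R0 G ↔ G.θ x.1 = G.w (x.2.coeff 0) := by
  rw [← res_apply]
  rfl

/-- The ideal. -/
noncomputable def I [CharP A p] : Ideal (R0 G) where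
  carrier := {x | ∃ c : At, x.1 = (p • c, vv (G.F (G.θ c)))}
  zero_mem' := ⟨0, by rw [smul_zero, map_zero, map_zero, vv_z]; rfl⟩
  add_mem' := by
    rintro x y ⟨c, hc⟩ ⟨d, hd⟩
    refine ⟨c + d, ?_⟩
    change x.1 + y.1 = _
    rw [hc, hd, smul_add, map_add, map_add, vv_add]
    rfl
  smul_mem' := by
    rintro z x ⟨c, hc⟩
    refine ⟨z.1.1 * c, ?_⟩
    change z.1 * x.1 = _
    have hz : G.θ z.1.1 = G.w (z.1.2.coeff 0) := (mem_R0 G).1 z.2
    rw [hc, map_mul, map_mul, hz, G.hF, ← mul_vv]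
    refine Prod.ext ?_ rfl
    change z.1.1 * (p • c) = p • (z.1.1 * c)
    rw [mul_smul_comm]

variable [CharP A p]

/-- The quotient ring. -/
abbrev DD : Type u := R0 G ⧸ I G

/-- The elements. -/
noncomputable def el (a : At) (z : W2 p A) (h : G.θ a = G.w (z.coeff 0)) : DD G :=
  Ideal.Quotient.mk (I G) ⟨(a, z), (mem_R0 G).2 h⟩

variable {G}

theorem el_add {a b : At} {z t : W2 p A} (h : G.θ a = G.w (z.coeff 0)) (h' : G.θ b = G.w (t.coeff 0)) :
    el G a z h + el G b t h' = el G (a + b) (z + t) (by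
      rw [map_add, h, h', K674.Ghost.coeff_zero_add, map_add]) := rfl

theorem el_mul {a b : At} {z t : W2 p A} (h : G.θ a = G.w (z.coeff 0)) (h' : G.θ b = G.w (t.coeff 0)) :
    el G a z h * el G b t h' = el G (a * b) (z * t) (by
      rw [map_mul, h, h', K674.Ghost.coeff_zero_mul, map_mul]) := rfl

theorem el_eq {a b : At} {z t : W2 p A} (h : G.θ a = G.w (z.coeff 0)) (h' : G.θ b = G.w (t.coeff 0)) (c : At)
    (h1 : a = b + p • c) (h2 : z = t + vv (G.F (G.θ c))) : el G a z h = el G b t h' := by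
  refine Ideal.Quotient.eq.2 ⟨c, ?_⟩
  change (a - b, z - t) = _
  rw [h1, h2, add_sub_cancel_left, add_sub_cancel_left]

theorem el_inj (htor : ∀ b : At, p • b = 0 → G.θ b = 0) {a : At} {z t : W2 p A} (h : G.θ a = G.w (z.coeff 0))
    (h' : G.θ a = G.w (t.coeff 0)) (heq : el G a z h = el G a t h') : z = t := by
  obtain ⟨c, hc⟩ := Ideal.Quotient.eq.1 heq
  have h1 : (a - a, z - t) = (p • c, vv (G.F (G.θ c))) := hc
  have h2 : a - a = p • c := congrArg Prod.fst h1
  have h3 : z - t = vv (G.F (G.θ c)) := congrArg Prod.snd h1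
  rw [sub_self] at h2
  rw [htor c h2.symm, map_zero, vv_z, sub_eq_zero] at h3
  exact h3

variable (G) in
/-- The augmentation. -/
noncomputable def aug : DD G →+* A :=
  Ideal.Quotient.lift (I G) ((FrobAlg.res p A).comp ((RingHom.snd At (W2 p A)).comp (R0 G).subtype)) (by
    rintro x ⟨c, hc⟩
    change FrobAlg.res p A x.1.2 = 0
    rw [hc, res_apply, vv_zero])

theorem aug_el {a : At} {z : W2 p A} (h : G.θ a = G.w (z.coeff 0)) : aug G (el G a z h) = z.coeff 0 :=
  res_apply p A z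

theorem exists_el (d : DD G) : ∃ (a : At) (z : W2 p A) (h : G.θ a = G.w (z.coeff 0)), d = el G a z h := by
  obtain ⟨x, rfl⟩ := Ideal.Quotient.mk_surjective d
  exact ⟨x.1.1, x.1.2, (mem_R0 G).1 x.2, rfl⟩

theorem ker_aug (hker : ∀ a, G.θ a = 0 → ∃ b, a = p • b) {d : DD G} (hd : aug G d = 0) :
    ∃ u : A, d = el G 0 (vv u) (by rw [vv_zero, map_zero, map_zero]) := by
  obtain ⟨a, z, h, rfl⟩ := exists_el d
  rw [aug_el] at hd
  rw [hd, map_zero] at h
  obtain ⟨c, rfl⟩ := hker a h
  refine ⟨z.coeff 1 - G.F (G.θ c), el_eq _ _ c (by rw [zero_add]) ?_⟩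
  rw [← vv_add, sub_add_cancel]
  refine K674.Ghost.ext2 ?_ ?_
  · rw [hd, vv_zero]
  · rw [vv_one]

theorem aug_surjective (hθ : Function.Surjective G.θ) : Function.Surjective (aug G) := by
  intro a
  obtain ⟨b, hb⟩ := hθ (G.w a)
  exact ⟨el G b (tau a) (by rw [tau_zero, hb]), by rw [aug_el, tau_zero]⟩

theorem ker_aug_nilpotent (hker : ∀ a, G.θ a = 0 → ∃ b, a = p • b) : IsNilpotent (RingHom.ker (aug G)) := by
  have key : RingHom.ker (aug G) * RingHom.ker (aug G) = ⊥ := ?_
  · exact ⟨1 + 1, by rw [Submodule.pow_succ, Submodule.pow_one, key]; rfl⟩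
  rw [eq_bot_iff, Ideal.mul_le]
  intro x hx y hy
  obtain ⟨u, rfl⟩ := ker_aug hker hx
  obtain ⟨v, rfl⟩ := ker_aug hker hy
  rw [el_mul, Ideal.mem_bot]
  have h0 : el G 0 0 (by rw [map_zero, TruncatedWittVector.coeff_zero, map_zero]) = 0 := rfl
  rw [← h0]
  refine el_eq _ _ 0 (by simp) ?_
  rw [mul_vv, vv_zero, zero_pow hp.1.ne_zero, zero_mul, map_zero, map_zero]
  rw [vv_z, add_zero]

/-- The function attached to a ring section of the augmentation. -/
theorem exists_lam_of_section (htor : ∀ b : At, p • b = 0 → G.θ b = 0) (hker : ∀ a, G.θ a = 0 → ∃ b, a = p • b)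
    (s : A →+* DD G) (hs : ∀ a, aug G (s a) = a) :
    ∃ lam : P G → A, (∀ x : P G, s x.1.2 = el G x.1.1 (tau x.1.2 + vv (lam x)) (by
      rw [K674.Ghost.coeff_zero_add, tau_zero, vv_zero, add_zero]; exact x.2)) ∧
      (∀ x (u : A) (h : G.θ x.1.1 = G.w ((tau x.1.2 + vv (p := p) u).coeff 0)),
        s x.1.2 = el G x.1.1 (tau x.1.2 + vv u) h → lam x = u) ∧
      (∀ a b, lam (a + b) = lam a + lam b - Cross.c p a.1.2 b.1.2) ∧
      (∀ a b, lam (a * b) = a.1.2 ^ p * lam b + b.1.2 ^ p * lam a) := by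
  have hex : ∀ x : P G, ∃ u : A, s x.1.2 = el G x.1.1 (tau x.1.2 + vv u) (by
      rw [K674.Ghost.coeff_zero_add, tau_zero, vv_zero, add_zero]; exact x.2) := by
    intro x
    have h1 : aug G (s x.1.2 - el G x.1.1 (tau x.1.2) (by rw [tau_zero]; exact x.2)) = 0 := by
      rw [map_sub, hs, aug_el, tau_zero, sub_self]
    obtain ⟨u, hu⟩ := ker_aug hker h1
    refine ⟨u, ?_⟩
    rw [sub_eq_iff_eq_add] at hu
    rw [hu, el_add]
    refine el_eq _ _ 0 (by simp) ?_
    rw [map_zero, map_zero, vv_z, add_zero, add_comm]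
  choose lam hlam using hex
  have huniq : ∀ x (u : A) (h : G.θ x.1.1 = G.w ((tau x.1.2 + vv (p := p) u).coeff 0)),
        s x.1.2 = el G x.1.1 (tau x.1.2 + vv u) h → lam x = u := by
    intro x u h hu
    exact vv_inj (add_left_cancel (el_inj htor _ _ ((hlam x).symm.trans hu)))
  refine ⟨lam, hlam, huniq, fun a b => ?_, fun a b => ?_⟩
  · refine huniq (a + b) _ ?_ ?_
    · rw [K674.Ghost.coeff_zero_add, tau_zero, vv_zero, add_zero]; exact (a + b).2
    · refine (map_add s a.1.2 b.1.2).trans ?_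
      rw [hlam a, hlam b, el_add]
      refine el_eq _ _ 0 (by rw [smul_zero, add_zero]; rfl) ?_
      change _ = tau (a.1.2 + b.1.2) + _ + _
      rw [map_zero, map_zero, vv_z, add_zero, tau_add, sub_eq_add_neg, vv_add, vv_add, vv_neg]
      abel
  · refine huniq (a * b) _ ?_ ?_
    · rw [K674.Ghost.coeff_zero_add, tau_zero, vv_zero, add_zero]; exact (a * b).2
    · refine (map_mul s a.1.2 b.1.2).trans ?_
      rw [hlam a, hlam b, el_mul]
      refine el_eq _ _ 0 (by rw [smul_zero, add_zero]; rfl) ?_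
      change _ = tau (a.1.2 * b.1.2) + _ + _
      rw [map_zero, map_zero, vv_z, add_zero, tau_mul, vv_add, add_mul, mul_add, mul_vv, mul_comm (vv _) (_ + _),
        mul_vv, tau_zero, K674.Ghost.coeff_zero_add, tau_zero, vv_zero, add_zero, add_assoc]

section base

variable {Rt R : Type u} [CommRing Rt] [CommRing R] (π : Rt →+* R) (ρ : Rt →+* At) (f : R →+* A)
  (hρ : ∀ r, G.θ (ρ r) ^ p = G.w (f (π r))) (hFρ : ∀ r, G.F (G.θ (ρ r)) = f (π r))

theorem tau_z : tau (p := p) (0 : A) = 0 := by rw [tau, WittVector.teichmuller_zero, map_zero]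

theorem tau_o : tau (p := p) (1 : A) = 1 := by rw [tau, map_one, map_one]

/-- The action of the base. -/
noncomputable def b₀ : Rt →+* DD G where
  toFun r := el G (ρ r ^ p) (tau (f (π r))) (by rw [map_pow, hρ, tau_zero])
  map_one' := el_eq (b := 1) (t := 1) (by rw [map_pow, hρ, tau_zero])
    (by rw [map_one, ← res_apply, map_one, map_one]) 0 (by simp) (by
      rw [map_one, map_one, tau_o, map_zero, map_zero, vv_z, add_zero])
  map_mul' r s := by
    rw [el_mul]
    exact el_eq _ _ 0 (by rw [smul_zero, add_zero, map_mul, mul_pow]) (by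
      rw [map_mul, map_mul, tau_mul, map_zero, map_zero, vv_z, add_zero])
  map_zero' := el_eq (b := 0) (t := 0) (by rw [map_pow, hρ, tau_zero])
    (by rw [map_zero, ← res_apply, map_zero, map_zero]) 0 (by rw [map_zero, zero_pow hp.1.ne_zero]; simp) (by
      rw [map_zero, map_zero, tau_z, map_zero, map_zero, vv_z, add_zero])
  map_add' r s := by
    rw [el_add]
    refine el_eq _ _ (Cross.c p (ρ r) (ρ s)) (by rw [map_add, Cross.add_pow_eq hp.1]) ?_
    rw [map_add, map_add, tau_add, Cross.map_c, Cross.map_c, hFρ, hFρ]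

theorem b₀_apply (r : Rt) : b₀ π ρ f hρ hFρ r = el G (ρ r ^ p) (tau (f (π r))) (by rw [map_pow, hρ, tau_zero]) := rfl

include hρ hFρ in
/-- **Existence of the function attached to a lifting of Frobenius.** -/
theorem exists_lam (hπ : Function.Surjective π) (hπk : ∀ r, π r = 0 → ∃ b, r = p • b)
    (hpp : (p : At) * (p : At) = 0) (hθ : Function.Surjective G.θ) (hker : ∀ a, G.θ a = 0 → ∃ b, a = p • b)
    (htor : ∀ b : At, p • b = 0 → G.θ b = 0) {J : Type} (xt : J → P G)
    (hsm : @Algebra.FormallySmooth (MvPolynomial J R) A _ _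
      (MvPolynomial.eval₂Hom f (fun j => (xt j).1.2)).toAlgebra) :
    ∃ lam : P G → A, (∀ a b, lam (a + b) = lam a + lam b - Cross.c p a.1.2 b.1.2) ∧
      (∀ a b, lam (a * b) = a.1.2 ^ p * lam b + b.1.2 ^ p * lam a) ∧
      (∀ (x : P G) (c : At), x.1 = (p • c, 0) → lam x = G.F (G.θ c)) ∧
      (∀ (x : P G) (r : Rt), x.1 = (ρ r ^ p, f (π r)) → lam x = 0) ∧
      (∀ j, lam (xt j) = 0) := by
  have hk : RingHom.ker π ≤ RingHom.ker (b₀ π ρ f hρ hFρ) := by
    intro r hr
    obtain ⟨b, rfl⟩ := hπk r hr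
    rw [RingHom.mem_ker, b₀_apply]
    have h0 : el G 0 0 (by rw [map_zero, TruncatedWittVector.coeff_zero, map_zero]) = 0 := rfl
    rw [← h0]
    refine el_eq _ _ 0 ?_ ?_
    · obtain ⟨q, hq⟩ : ∃ q, p = q + 2 := ⟨p - 2, by have := hp.1.two_le; omega⟩
      rw [map_nsmul, nsmul_eq_mul, mul_pow, smul_zero, add_zero]
      have h1 : (p : At) ^ p = 0 := by
        have h2 : ∀ m : ℕ, (p : At) ^ (m + 2) = 0 := fun m => by
          rw [pow_add, pow_two, hpp, mul_zero]
        have h3 := h2 q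
        rwa [← hq] at h3
      rw [h1, zero_mul]
    · have h4 : π (p • b) = 0 := hr
      rw [h4, map_zero, tau_z, map_zero, map_zero, vv_z, add_zero]
  let b : R →+* DD G := RingHom.liftOfSurjective π hπ ⟨b₀ π ρ f hρ hFρ, hk⟩
  have hb : ∀ r, b (π r) = b₀ π ρ f hρ hFρ r := fun r =>
    congr($(RingHom.liftOfRightInverse_comp π _ (Function.rightInverse_surjInv hπ) ⟨_, hk⟩) r)
  let ev : MvPolynomial J R →+* A := MvPolynomial.eval₂Hom f (fun j => (xt j).1.2)
  let E : MvPolynomial J R →+* DD G := MvPolynomial.eval₂Hom b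
    (fun j => el G (xt j).1.1 (tau (xt j).1.2) (by rw [tau_zero]; exact (xt j).2))
  have hE : (aug G).comp E = ev := by
    refine MvPolynomial.ringHom_ext (fun r => ?_) (fun j => ?_)
    · obtain ⟨r, rfl⟩ := hπ r
      rw [RingHom.comp_apply, MvPolynomial.coe_eval₂Hom, MvPolynomial.eval₂_C, hb, b₀_apply, aug_el, tau_zero,
        MvPolynomial.coe_eval₂Hom, MvPolynomial.eval₂_C]
    · rw [RingHom.comp_apply, MvPolynomial.coe_eval₂Hom, MvPolynomial.eval₂_X, aug_el, tau_zero,
        MvPolynomial.coe_eval₂Hom, MvPolynomial.eval₂_X]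
  letI : Algebra (MvPolynomial J R) A := ev.toAlgebra
  letI : Algebra (MvPolynomial J R) (DD G) := E.toAlgebra
  haveI : Algebra.FormallySmooth (MvPolynomial J R) A := hsm
  let g : DD G →ₐ[MvPolynomial J R] A := { aug G with commutes' := fun r => RingHom.congr_fun hE r }
  have hg : Function.Surjective g := aug_surjective hθ
  have hgn : IsNilpotent (RingHom.ker (g : DD G →+* A)) := ker_aug_nilpotent hker
  let s : A →ₐ[MvPolynomial J R] DD G := Algebra.FormallySmooth.liftOfSurjective (AlgHom.id _ _) g hg hgn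
  have hs : ∀ a, aug G (s a) = a := fun a => Algebra.FormallySmooth.liftOfSurjective_apply (AlgHom.id _ _) g hg hgn a
  have hsE : ∀ r, s (ev r) = E r := fun r => s.commutes r
  obtain ⟨lam, -, h2, h3, h4⟩ := exists_lam_of_section htor hker s.toRingHom hs
  refine ⟨lam, h3, h4, fun x c hx => ?_, fun x r hx => ?_, fun j => ?_⟩
  · have hx1 : x.1.1 = p • c := congrArg Prod.fst hx
    have hx2 : x.1.2 = 0 := congrArg Prod.snd hx
    refine h2 x _ ?_ ?_
    · rw [K674.Ghost.coeff_zero_add, tau_zero, vv_zero, add_zero]; exact x.2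
    · refine (congrArg s hx2).trans ((map_zero s).trans ?_)
      have h0 : el G 0 0 (by rw [map_zero, TruncatedWittVector.coeff_zero, map_zero]) = 0 := rfl
      rw [← h0]
      symm
      refine el_eq _ _ c ?_ ?_
      · rw [hx1, zero_add]
      · rw [hx2, tau_z]
  · have hx1 : x.1.1 = ρ r ^ p := congrArg Prod.fst hx
    have hx2 : x.1.2 = f (π r) := congrArg Prod.snd hx
    refine h2 x _ ?_ ?_
    · rw [K674.Ghost.coeff_zero_add, tau_zero, vv_zero, add_zero]; exact x.2
    · change s x.1.2 = _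
      have h5 : f (π r) = ev (MvPolynomial.C (π r)) := by
        rw [MvPolynomial.coe_eval₂Hom, MvPolynomial.eval₂_C]
      have h6 : E (MvPolynomial.C (π r)) = b₀ π ρ f hρ hFρ r := by
        rw [MvPolynomial.coe_eval₂Hom, MvPolynomial.eval₂_C, hb]
      refine (congrArg s (hx2.trans h5)).trans ((hsE _).trans (h6.trans ?_))
      rw [b₀_apply]
      refine el_eq _ _ 0 ?_ ?_
      · rw [hx1, smul_zero, add_zero]
      · rw [hx2, vv_z, map_zero, map_zero, vv_z, add_zero, add_zero]
  · refine h2 (xt j) _ ?_ ?_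
    · rw [K674.Ghost.coeff_zero_add, tau_zero, vv_zero, add_zero]; exact (xt j).2
    · change s (xt j).1.2 = _
      have h5 : (xt j).1.2 = ev (MvPolynomial.X j) := by
        rw [MvPolynomial.coe_eval₂Hom, MvPolynomial.eval₂_X]
      have h6 : E (MvPolynomial.X j) = el G (xt j).1.1 (tau (xt j).1.2) (by rw [tau_zero]; exact (xt j).2) := by
        rw [MvPolynomial.coe_eval₂Hom, MvPolynomial.eval₂_X]
      have h7 : s (xt j).1.2 = E (MvPolynomial.X j) := (congrArg s h5).trans (hsE _)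
      rw [h7, h6]
      refine el_eq _ _ 0 ?_ ?_
      · rw [smul_zero, add_zero]
      · rw [vv_z, map_zero, map_zero, vv_z, add_zero, add_zero]

end base

end K224.RelLam
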