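import Groth.Agent.DelIll.K904.PBasis
import Groth.Agent.DelIll.K224.RelCartier
import Mathlib.RingTheory.TensorProduct.MvPolynomial

/-!
# Étale coordinates are a relative `p`-basis
-/

set_option autoImplicit false
set_option linter.unusedSectionVars false
set_option linter.style.haveILetI false

open Module CategoryTheory

namespace K224.RelPB

open K904.LocalCartier K904.PBasis K224.RelCartier

universe u

section poly

variable (p : ℕ) [Fact p.Prime] {R : Type*} [CommRing R] {J : Type*} [LinearOrder J] [Fintype J]

/-- The relative Frobenius of a polynomial ring. -/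
noncomputable def F0 (R : Type*) [CommRing R] (J : Type*) : MvPolynomial J R →+* MvPolynomial J R :=
  MvPolynomial.eval₂Hom MvPolynomial.C (fun j => MvPolynomial.X j ^ p)

theorem F0_C (r : R) : F0 p R J (MvPolynomial.C r) = MvPolynomial.C r := by
  rw [F0, MvPolynomial.coe_eval₂Hom, MvPolynomial.eval₂_C]

theorem F0_X (j : J) : F0 p R J (MvPolynomial.X j) = MvPolynomial.X j ^ p := by
  rw [F0, MvPolynomial.coe_eval₂Hom, MvPolynomial.eval₂_X]

theorem F0_monomial (q : J →₀ ℕ) (c : R) :
    F0 p R J (MvPolynomial.monomial q c) = MvPolynomial.monomial (p • q) c := by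
  classical
  rw [F0, MvPolynomial.coe_eval₂Hom, MvPolynomial.eval₂_monomial, MvPolynomial.monomial_eq]
  congr 1
  rw [Finsupp.prod_fintype _ _ (fun _ => by rw [pow_zero]), Finsupp.prod_fintype _ _ (fun _ => by rw [pow_zero])]
  refine Finset.prod_congr rfl fun j _ => ?_
  rw [← pow_mul]
  rfl

/-- The variables of a polynomial ring are a relative `p`-basis. -/
theorem isRPB_X : IsRPB p (F0 p R J) (fun j => (MvPolynomial.X j : MvPolynomial J R)) := by
  let G : ((J → ZMod p) → MvPolynomial J R) →+ MvPolynomial J R :=
    { toFun := fun β => ∑ a, F0 p R J (β a) * mon (fun j => (MvPolynomial.X j : MvPolynomial J R)) (fun j => (a j).val)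
      map_zero' := by simp
      map_add' := fun β γ => by
        rw [← Finset.sum_add_distrib]
        refine Finset.sum_congr rfl fun a _ => ?_
        rw [Pi.add_apply, map_add, add_mul] }
  have hF : ∀ (a : J → ZMod p) (q : J →₀ ℕ) (c : R),
      G (Pi.single a (MvPolynomial.monomial q c)) = MvPolynomial.monomial (expo p a q) c := by
    intro a q c
    change ∑ a', _ = _
    rw [Finset.sum_eq_single a]
    · rw [Pi.single_eq_same, F0_monomial, mon_X, MvPolynomial.monomial_mul, mul_one]
      rfl
    · intro b _ hb
      rw [Pi.single_eq_of_ne hb, map_zero, zero_mul]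
    · intro h
      exact absurd (Finset.mem_univ _) h
  have hco : ∀ (β : (J → ZMod p) → MvPolynomial J R) (a : J → ZMod p) (q : J →₀ ℕ),
      MvPolynomial.coeff (expo p a q) (G β) = MvPolynomial.coeff q (β a) := by
    intro β a q
    have hβ : β = ∑ a', ∑ q' ∈ (β a').support, Pi.single a' (MvPolynomial.monomial q' (MvPolynomial.coeff q' (β a'))) := by
      funext b
      rw [Finset.sum_apply, Finset.sum_eq_single b]
      · rw [Finset.sum_apply]
        simp only [Pi.single_eq_same]
        exact (β b).as_sum
      · intro a' _ ha'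
        rw [Finset.sum_apply]
        exact Finset.sum_eq_zero fun q' _ => by rw [Pi.single_eq_of_ne ha'.symm]
      · intro h
        exact absurd (Finset.mem_univ _) h
    conv_lhs => rw [hβ]
    rw [map_sum, MvPolynomial.coeff_sum, Finset.sum_eq_single a]
    · rw [map_sum, MvPolynomial.coeff_sum]
      by_cases hq : q ∈ (β a).support
      · rw [Finset.sum_eq_single q]
        · rw [hF, MvPolynomial.coeff_monomial, if_pos rfl]
        · intro q' _ hq'
          rw [hF, MvPolynomial.coeff_monomial, if_neg]
          exact fun h => hq' (expo_inj p h).2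
        · intro h
          exact absurd hq h
      · rw [Finset.sum_eq_zero]
        · rw [MvPolynomial.notMem_support_iff.1 hq]
        · intro q' hq'
          rw [hF, MvPolynomial.coeff_monomial, if_neg]
          intro h
          exact hq ((expo_inj p h).2 ▸ hq')
    · intro a' _ ha'
      rw [map_sum, MvPolynomial.coeff_sum]
      refine Finset.sum_eq_zero fun q' _ => ?_
      rw [hF, MvPolynomial.coeff_monomial, if_neg]
      exact fun h => ha' (expo_inj p h).1
    · intro h
      exact absurd (Finset.mem_univ _) h
  refine ⟨(injective_iff_map_eq_zero G).2 fun β hβ => ?_, fun f => ?_⟩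
  · funext a
    ext q
    have := hco β a q
    rw [hβ, MvPolynomial.coeff_zero] at this
    simpa using this.symm
  · have : f ∈ AddMonoidHom.range G := by
      rw [f.as_sum]
      refine AddSubgroup.sum_mem _ fun m _ => ?_
      obtain ⟨a, q, rfl⟩ := expo_surj p m
      exact ⟨Pi.single a (MvPolynomial.monomial q (MvPolynomial.coeff (expo p a q) f)), hF _ _ _⟩
    exact this

end poly

section base

variable (p : ℕ) [Fact p.Prime] {P1 P A1 A : Type u} [CommRing P1] [CommRing P] [CommRing A1] [CommRing A]
  {J : Type*} [LinearOrder J] [Fintype J]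

/-- Relative `p`-bases are stable under base change. -/
theorem isRPB_of_isPushout (F0 : P1 →+* P) (φ1 : P1 →+* A1) (φ : P →+* A) (F : A1 →+* A)
    (h : IsPushout (CommRingCat.ofHom F0) (CommRingCat.ofHom φ1) (CommRingCat.ofHom φ) (CommRingCat.ofHom F))
    (x : J → P) (hx : IsRPB p F0 x) : IsRPB p F (fun j => φ (x j)) := by
  letI : Algebra P1 P := F0.toAlgebra
  letI : Algebra P1 A1 := φ1.toAlgebra
  letI : Algebra P A := φ.toAlgebra
  letI : Algebra A1 A := F.toAlgebra
  letI : Algebra P1 A := (F.comp φ1).toAlgebra
  haveI : IsScalarTower P1 A1 A := IsScalarTower.of_algebraMap_eq fun a => rfl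
  haveI : IsScalarTower P1 P A := IsScalarTower.of_algebraMap_eq fun a => by
    have := congrArg CommRingCat.Hom.hom h.w
    exact (RingHom.congr_fun this a).symm
  have h1 : Algebra.IsPushout P1 A1 P A := by
    rw [← CommRingCat.isPushout_iff_isPushout]
    exact h.flip
  let l : ((J → ZMod p) → P1) →ₗ[P1] P :=
    { toFun := fun β => ∑ a, F0 (β a) * mon x (fun j => (a j).val)
      map_add' := fun β γ => by
        rw [← Finset.sum_add_distrib]
        refine Finset.sum_congr rfl fun a _ => ?_
        rw [Pi.add_apply, map_add, add_mul]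
      map_smul' := fun c β => by
        rw [RingHom.id_apply, Finset.smul_sum]
        refine Finset.sum_congr rfl fun a _ => ?_
        rw [Pi.smul_apply, smul_eq_mul, map_mul, mul_assoc]
        rfl }
  let b0 : Basis (J → ZMod p) P1 P := Basis.ofEquivFun (LinearEquiv.ofBijective l hx).symm
  have hb0 : ∀ a, b0 a = mon x (fun j => (a j).val) := by
    classical
    intro a
    rw [Basis.coe_ofEquivFun]
    change l (Pi.single a 1) = _
    change ∑ a', _ = _
    rw [Finset.sum_eq_single a]
    · rw [Pi.single_eq_same, map_one, one_mul]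
    · intro b _ hb
      rw [Pi.single_eq_of_ne hb, map_zero, zero_mul]
    · intro h
      exact absurd (Finset.mem_univ _) h
  let b : Basis (J → ZMod p) A1 A := h1.out.basis b0
  have hb : ∀ a, b a = mon (fun j => φ (x j)) (fun j => (a j).val) := by
    intro a
    have h2 : b a = φ (b0 a) := IsBaseChange.basis_apply _ _ _
    rw [h2, hb0, mon, map_prod]
    exact Finset.prod_congr rfl fun j _ => map_pow φ _ _
  have h4 : (fun β : (J → ZMod p) → A1 => ∑ a, F (β a) * mon (fun j => φ (x j)) (fun j => (a j).val)) =
      b.equivFun.symm := by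
    funext β
    rw [Basis.equivFun_symm_apply]
    refine Finset.sum_congr rfl fun a _ => ?_
    rw [hb]
    rfl
  rw [IsRPB, h4]
  exact b.equivFun.symm.bijective

end base

section etale

/-- Polynomial rings and base change. -/
theorem isPushout_C {R R' : Type u} [CommRing R] [CommRing R'] {J : Type} (h : R →+* R') :
    IsPushout (CommRingCat.ofHom (MvPolynomial.C : R →+* MvPolynomial J R)) (CommRingCat.ofHom h)
      (CommRingCat.ofHom (MvPolynomial.map h)) (CommRingCat.ofHom (MvPolynomial.C : R' →+* MvPolynomial J R')) := by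
  refine ⟨⟨CommRingCat.hom_ext (RingHom.ext fun r => (MvPolynomial.map_C h r))⟩,
    ⟨Limits.PushoutCocone.IsColimit.mk _
    (fun s => CommRingCat.ofHom (MvPolynomial.eval₂Hom s.inr.hom (fun j => s.inl.hom (MvPolynomial.X j)))) ?_ ?_ ?_⟩⟩
  · intro s
    refine CommRingCat.hom_ext (MvPolynomial.ringHom_ext (fun r => ?_) (fun j => ?_))
    · change MvPolynomial.eval₂Hom _ _ (MvPolynomial.map h _) = s.inl.hom _
      rw [MvPolynomial.map_C, MvPolynomial.eval₂Hom_C]
      exact (RingHom.congr_fun (congrArg CommRingCat.Hom.hom s.condition) r).symm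
    · change MvPolynomial.eval₂Hom _ _ (MvPolynomial.map h _) = s.inl.hom _
      rw [MvPolynomial.map_X, MvPolynomial.eval₂Hom_X']
  · intro s
    refine CommRingCat.hom_ext (RingHom.ext fun r => ?_)
    exact MvPolynomial.eval₂Hom_C _ _ _
  · intro s m h1 h2
    refine CommRingCat.hom_ext (MvPolynomial.ringHom_ext (fun r => ?_) (fun j => ?_))
    · change m.hom (MvPolynomial.C r) = MvPolynomial.eval₂Hom _ _ (MvPolynomial.C r)
      rw [MvPolynomial.eval₂Hom_C]
      exact RingHom.congr_fun (congrArg CommRingCat.Hom.hom h2) r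
    · change m.hom (MvPolynomial.X j) = MvPolynomial.eval₂Hom _ _ (MvPolynomial.X j)
      rw [MvPolynomial.eval₂Hom_X', ← MvPolynomial.map_X h]
      exact RingHom.congr_fun (congrArg CommRingCat.Hom.hom h1) (MvPolynomial.X j)

variable (p : ℕ) [Fact p.Prime] {R A A1 : Type u} [CommRing R] [CommRing A] [CommRing A1] [CharP R p] [CharP A p]
  {J : Type} [LinearOrder J] [Fintype J]

/-- **Étale coordinates are a relative `p`-basis.** -/
theorem isRPB_of_etale_coord (f : R →+* A) (x : J → A) (hx : (MvPolynomial.eval₂Hom f x).Etale)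
    (w : A →+* A1) (g : R →+* A1)
    (hpo : IsPushout (CommRingCat.ofHom f) (CommRingCat.ofHom (frobenius R p)) (CommRingCat.ofHom w)
      (CommRingCat.ofHom g)) (F : A1 →+* A) (hFw : ∀ a, F (w a) = a ^ p) (hFg : ∀ r, F (g r) = f r) :
    IsRPB p F x := by
  haveI : CharP (MvPolynomial J R) p := inferInstance
  let φ : MvPolynomial J R →+* A := MvPolynomial.eval₂Hom f x
  let w0 : MvPolynomial J R →+* MvPolynomial J R := MvPolynomial.map (frobenius R p)
  let φ1 : MvPolynomial J R →+* A1 := MvPolynomial.eval₂Hom g (fun j => w (x j))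
  have hP : (p : CommRingCat.of (MvPolynomial J R)) = 0 := CharP.cast_eq_zero (MvPolynomial J R) p
  have hA : (p : CommRingCat.of A) = 0 := CharP.cast_eq_zero A p
  have hfr := K841.Quiet.isPushout_fr_of_etale (p := p) (P := CommRingCat.of (MvPolynomial J R))
    (A := CommRingCat.of A) (CommRingCat.ofHom φ) hx hP hA
  have hw0 : ∀ z, F0 p R J (w0 z) = z ^ p := by
    intro z
    have : (F0 p R J).comp w0 = frobenius (MvPolynomial J R) p := by
      refine MvPolynomial.ringHom_ext (fun r => ?_) (fun j => ?_)
      · change F0 p R J (MvPolynomial.map _ _) = _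
        rw [MvPolynomial.map_C, F0_C, frobenius_def, frobenius_def, map_pow]
      · change F0 p R J (MvPolynomial.map _ _) = _
        rw [MvPolynomial.map_X, F0_X, frobenius_def]
    exact RingHom.congr_fun this z
  -- the left square
  have hC : IsPushout (CommRingCat.ofHom (MvPolynomial.C : R →+* MvPolynomial J R))
      (CommRingCat.ofHom (frobenius R p)) (CommRingCat.ofHom w0)
      (CommRingCat.ofHom (MvPolynomial.C : R →+* MvPolynomial J R)) := by
    exact isPushout_C (frobenius R p)
  have hcomp1 : w.comp f = g.comp (frobenius R p) := by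
    have := congrArg CommRingCat.Hom.hom hpo.w
    exact this
  have h1 : IsPushout (CommRingCat.ofHom φ) (CommRingCat.ofHom w0) (CommRingCat.ofHom w)
      (CommRingCat.ofHom φ1) := by
    refine IsPushout.of_left ?_ ?_ hC
    · convert hpo using 1
      · ext r
        change φ (MvPolynomial.C r) = f r
        exact MvPolynomial.eval₂Hom_C _ _ _
      · ext r
        change φ1 (MvPolynomial.C r) = g r
        exact MvPolynomial.eval₂Hom_C _ _ _
    · refine CommRingCat.hom_ext (RingHom.ext fun z => ?_)
      change w (φ z) = φ1 (w0 z)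
      have : w.comp φ = φ1.comp w0 := by
        refine MvPolynomial.ringHom_ext (fun r => ?_) (fun j => ?_)
        · change w (φ _) = φ1 (MvPolynomial.map _ _)
          rw [MvPolynomial.map_C, MvPolynomial.eval₂Hom_C, MvPolynomial.eval₂Hom_C]
          exact RingHom.congr_fun hcomp1 r
        · change w (φ _) = φ1 (MvPolynomial.map _ _)
          rw [MvPolynomial.map_X, MvPolynomial.eval₂Hom_X', MvPolynomial.eval₂Hom_X']
      exact RingHom.congr_fun this z
  have h2 : IsPushout (CommRingCat.ofHom (F0 p R J)) (CommRingCat.ofHom φ1) (CommRingCat.ofHom φ)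
      (CommRingCat.ofHom F) := by
    refine IsPushout.of_left (h₁₁ := CommRingCat.ofHom w0) (h₂₁ := CommRingCat.ofHom w) ?_ ?_ h1.flip
    · convert hfr using 1
      · exact CommRingCat.hom_ext (RingHom.ext fun z => hw0 z)
      · exact CommRingCat.hom_ext (RingHom.ext fun z => hFw z)
    · refine CommRingCat.hom_ext (RingHom.ext fun z => ?_)
      change φ (F0 p R J z) = F (φ1 z)
      have : φ.comp (F0 p R J) = F.comp φ1 := by
        refine MvPolynomial.ringHom_ext (fun r => ?_) (fun j => ?_)
        · change φ (F0 p R J _) = F (φ1 _)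
          rw [F0_C, MvPolynomial.eval₂Hom_C, MvPolynomial.eval₂Hom_C, hFg]
        · change φ (F0 p R J _) = F (φ1 _)
          rw [F0_X, map_pow, MvPolynomial.eval₂Hom_X', MvPolynomial.eval₂Hom_X', hFw]
      exact RingHom.congr_fun this z
  have h3 := isRPB_of_isPushout p (F0 p R J) φ1 φ F h2 (fun j => MvPolynomial.X j) (isRPB_X p)
  have h4 : (fun j => φ (MvPolynomial.X j)) = x := by
    funext j
    exact MvPolynomial.eval₂Hom_X' _ _ _
  rwa [h4] at h3

end etale

end K224.RelPB
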