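import Groth.Agent.DelIll.K224.RelGD
import Groth.Agent.DelIll.K224.RelPB
import Groth.Agent.DelIll.K224.RelLam
import Groth.Agent.DelIll.K224.RelBase
import Groth.Agent.LogNCD.K922.Univ

/-!
# Charts
-/

set_option autoImplicit false
set_option linter.unusedSectionVars false
set_option linter.style.haveILetI false
universe u

open CategoryTheory CategoryTheory.Limits AlgebraicGeometry Opposite TopologicalSpace
open Groth.Agent.Sga67.Sec Groth.Agent.Sga67.LocBasis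
open K905 K905.GeoUp K905.GeoPhi K224.RelM K224.RelPhi K224.RelGeom K224.RelSys K224.RelGD K224.RelBase
  K224.RelCartier
open K905.TotM (PZ)

namespace K224.RelCov

/-- A pushout of rings is generated by products. -/
theorem mem_closure_of_isPushout {R A B C : Type u} [CommRing R] [CommRing A] [CommRing B] [CommRing C]
    {a : R →+* A} {b : R →+* B} {i : A →+* C} {j : B →+* C}
    (po : IsPushout (CommRingCat.ofHom a) (CommRingCat.ofHom b) (CommRingCat.ofHom i) (CommRingCat.ofHom j)) (c : C) :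
    c ∈ AddSubgroup.closure {c | ∃ (x : A) (y : B), c = i x * j y} := by
  letI : Algebra R A := a.toAlgebra
  letI : Algebra R B := b.toAlgebra
  letI : Algebra A C := i.toAlgebra
  letI : Algebra B C := j.toAlgebra
  letI : Algebra R C := (i.comp a).toAlgebra
  haveI : IsScalarTower R A C := IsScalarTower.of_algebraMap_eq fun a => rfl
  haveI : IsScalarTower R B C := IsScalarTower.of_algebraMap_eq fun x => by
    have := congrArg CommRingCat.Hom.hom po.w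
    exact (RingHom.congr_fun this x)
  have h1 : Algebra.IsPushout R A B C := by
    rw [← CommRingCat.isPushout_iff_isPushout]
    exact po
  induction c using h1.out.inductionOn with
  | zero => exact AddSubgroup.zero_mem _
  | tmul m => exact AddSubgroup.subset_closure ⟨1, m, by rw [map_one, one_mul]; rfl⟩
  | smul s n hn =>
    induction hn using AddSubgroup.closure_induction with
    | mem z hz =>
      obtain ⟨x, y, rfl⟩ := hz
      refine AddSubgroup.subset_closure ⟨s * x, y, ?_⟩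
      have h2 : s • (i x * j y) = i s * (i x * j y) := rfl
      rw [h2, map_mul, mul_assoc]
    | zero => rw [smul_zero]; exact AddSubgroup.zero_mem _
    | add x y _ _ hx hy => rw [smul_add]; exact AddSubgroup.add_mem _ hx hy
    | neg x _ hx => rw [smul_neg]; exact AddSubgroup.neg_mem _ hx
  | add x y hx hy => exact AddSubgroup.add_mem _ hx hy

variable {X X1 S Xt St : Scheme.{u}} {p : ℕ} [hp : Fact p.Prime] [FrobSch.IsCharP S p] [FrobSch.IsCharP X p]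
    {f : X ⟶ S} {pr : X1 ⟶ X}
    {f1 : X1 ⟶ S} {F : X ⟶ X1} {iX : X1 ⟶ Xt} {gt : Xt ⟶ St} {iS : S ⟶ St}
    (H : IsGeo p f pr f1 F iX gt iS) {Ω' : X.Modules} (δ : OmegaSh.Der f Ω')

/-- Chart opens. -/
structure IsCh (U : X.Opens) : Prop where
  aff : IsAffineOpen U
  chart : letI := pz H U
    ∃ (n : ℕ) (e : Module.Basis (Fin n) Γ(X, U) Γ(Ω', U)) (xt : Fin n → P (gd H U)) (lam : P (gd H U) → Γ(X, U)),
      RelLocal.Chart (dat (gd H U)) (δ.app U) e xt lam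

/-! ### The local structure -/

include H in
theorem isPushout_tw {U : X.Opens} {V : S.Opens} (hU : IsAffineOpen U) (hV : IsAffineOpen V) (e : U ≤ f ⁻¹ᵁ V) :
    IsPushout (f.appLE V U e) ((FrobSch.frob S p).appLE V V le_rfl) (pr.appLE U (pr ⁻¹ᵁ U) le_rfl)
      (f1.appLE V (pr ⁻¹ᵁ U) (le_f1 H e)) := by
  have hUY : pr ⁻¹ᵁ U = pr ⁻¹ᵁ U ⊓ f1 ⁻¹ᵁ V := (inf_eq_left.2 (le_f1 H e)).symm
  have h1 := isIso_pushoutSection_of_isAffineOpen H.tw (US := V) (UT := V) (UX := U) (UY := pr ⁻¹ᵁ U)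
    le_rfl e hUY hV hV hU
  exact (isIso_pushoutSection_iff H.tw (US := V) (UT := V) (UX := U) (UY := pr ⁻¹ᵁ U) le_rfl e hUY).mp h1

theorem frob_eq {V : S.Opens} [CharP Γ(S, V) p] (h : V ≤ (FrobSch.frob S p) ⁻¹ᵁ V) :
    (FrobSch.frob S p).appLE V V h = CommRingCat.ofHom (frobenius Γ(S, V) p) :=
  CommRingCat.hom_ext (RingHom.ext fun r => frob_appLE' (p := p) h r)

include H in
theorem isPushout_tw' {U : X.Opens} {V : S.Opens} (hU : IsAffineOpen U) (hV : IsAffineOpen V) (e : U ≤ f ⁻¹ᵁ V)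
    [CharP Γ(S, V) p] :
    IsPushout (CommRingCat.ofHom (f.appLE V U e).hom) (CommRingCat.ofHom (frobenius Γ(S, V) p))
      (CommRingCat.ofHom (gw pr U)) (CommRingCat.ofHom (f1.appLE V (pr ⁻¹ᵁ U) (le_f1 H e)).hom) := by
  have h1 := isPushout_tw H hU hV e
  have h2 := frob_eq (p := p) (V := V) (show V ≤ (FrobSch.frob S p) ⁻¹ᵁ V from le_rfl)
  exact (congrArg (fun t => IsPushout (f.appLE V U e) t (pr.appLE U (pr ⁻¹ᵁ U) le_rfl)
      (f1.appLE V (pr ⁻¹ᵁ U) (le_f1 H e))) h2).mp h1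

theorem charP_of {Y : Scheme.{u}} [FrobSch.IsCharP Y p] (U : Y.Opens) [Nonempty U] : CharP Γ(Y, U) p := by
  haveI : Nontrivial Γ(Y, U) := inferInstance
  exact (CharP.charP_iff_prime_eq_zero hp.1).2 (FrobSch.natCast_eq_zero_app Y p U)

instance isAffineHom_frob : IsAffineHom (FrobSch.frob S p) := ⟨fun _ hU => hU⟩

include H in
theorem isAffineHom_pr : IsAffineHom pr :=
  MorphismProperty.of_isPullback (P := @IsAffineHom) H.tw.flip inferInstance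

variable {δ} in
/-- The derivation kills the sections coming from the twist. -/
theorem const {U : X.Opens} {V : S.Opens} (hU : IsAffineOpen U) (hV : IsAffineOpen V) (e : U ≤ f ⁻¹ᵁ V)
    [CharP Γ(S, V) p] (c : Γ(X1, pr ⁻¹ᵁ U)) : δ.app U (gF H U c) = 0 := by
  letI := pz H U
  induction mem_closure_of_isPushout (isPushout_tw' H hU hV e) c using AddSubgroup.closure_induction with
  | mem z hz =>
    obtain ⟨a, r, rfl⟩ := hz
    rw [map_mul, gF_gw, gF_const H e, δ_mul]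
    have h1 : δ.app U ((f.appLE V U e).hom r) = 0 := K922.DSec.dS_appLE (d := δ) e r
    have h2 : δ.app U (a ^ p) = 0 := TotPhi.δ_pow_p p (δ_mul U) a
    rw [h1, h2, smul_zero, smul_zero, add_zero]
  | zero => rw [map_zero, map_zero]
  | add x y _ _ hx hy => rw [map_add, map_add, hx, hy, add_zero]
  | neg x _ hx => rw [map_neg, map_neg, hx, neg_zero]

/-! ### Constants -/

/-- Denominators. -/
theorem exists_pow_eq {Y Z : Scheme.{u}} (g : Y ⟶ Z) {W0 W : Z.Opens} (s ρ : Γ(Z, W0)) (r : Γ(Z, W)) (n : ℕ)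
    (hs : Z.basicOpen s ≤ W) (hr : (Z.presheaf.map (homOfLE (Z.basicOpen_le s)).op).hom ρ =
      (Z.presheaf.map (homOfLE (Z.basicOpen_le s)).op).hom (s ^ n) * (Z.presheaf.map (homOfLE hs).op).hom r)
    {U : Y.Opens} (hU : IsAffineOpen U) (g0 : U ≤ g ⁻¹ᵁ W0) (g1 : U ≤ g ⁻¹ᵁ W) :
    ∃ N : ℕ, ((g.appLE W0 U g0).hom s) ^ N * (((g.appLE W0 U g0).hom s) ^ n * (g.appLE W U g1).hom r) =
      ((g.appLE W0 U g0).hom s) ^ N * (g.appLE W0 U g0).hom ρ := by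
  have hb : Y.basicOpen ((g.appLE W0 U g0).hom s) = U ⊓ g ⁻¹ᵁ (Z.basicOpen s) := Scheme.basicOpen_appLE g U W0 g0 s
  have hle : Y.basicOpen ((g.appLE W0 U g0).hom s) ≤ g ⁻¹ᵁ (Z.basicOpen s) := hb.le.trans inf_le_right
  have h1 := exists_pow_mul_eq_zero_of_res_basicOpen_eq_zero_of_isAffineOpen Y hU
    (((g.appLE W0 U g0).hom s) ^ n * (g.appLE W U g1).hom r - (g.appLE W0 U g0).hom ρ) ((g.appLE W0 U g0).hom s) (by
      change (Y.presheaf.map (homOfLE (Y.basicOpen_le _)).op).hom _ = 0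
      rw [map_sub, map_mul, ← map_pow,
        res_appLE g g0 hle (Z.basicOpen_le s) (Y.basicOpen_le _) (s ^ n),
        res_appLE g g1 hle hs (Y.basicOpen_le _) r, res_appLE g g0 hle (Z.basicOpen_le s) (Y.basicOpen_le _) ρ,
        hr, map_mul, sub_self])
  obtain ⟨N, hN⟩ := h1
  exact ⟨N, by rw [mul_sub, sub_eq_zero] at hN; exact hN⟩

/-- Sections killed locally. -/
theorem eq_zero_of_locally {Y : Scheme.{u}} {U : Y.Opens} (x : Γ(Y, U))
    (h : ∀ y ∈ U, ∃ (s : Γ(Y, U)) (n : ℕ), y ∈ Y.basicOpen s ∧ s ^ n * x = 0) : x = 0 := by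
  choose s n hy hx using h
  refine Y.sheaf.eq_of_locally_eq' (fun y : U => Y.basicOpen (s y.1 y.2)) U
    (fun y => homOfLE (Y.basicOpen_le _)) (fun y hyU => ?_) x 0 (fun y => ?_)
  · exact Opens.mem_iSup.2 ⟨⟨y, hyU⟩, hy y hyU⟩
  · change (Y.presheaf.map (homOfLE (Y.basicOpen_le _)).op).hom x =
      (Y.presheaf.map (homOfLE (Y.basicOpen_le _)).op).hom 0
    rw [map_zero]
    have h1 : IsUnit ((Y.presheaf.map (homOfLE (Y.basicOpen_le (s y.1 y.2))).op).hom (s y.1 y.2)) :=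
      RingedSpace.isUnit_res_basicOpen _ _
    have h2 := congrArg (Y.presheaf.map (homOfLE (Y.basicOpen_le (s y.1 y.2))).op).hom (hx y.1 y.2)
    rw [map_mul, map_zero, map_pow] at h2
    exact (h1.pow _).mul_left_cancel (h2.trans (mul_zero _).symm)

include H in
theorem comp_eq {U : X.Opens} {W : St.Opens} (h2 : U ≤ f ⁻¹ᵁ (iS ⁻¹ᵁ W)) (h2' : U ≤ (f ≫ iS) ⁻¹ᵁ W) (r : Γ(St, W)) :
    (f.appLE (iS ⁻¹ᵁ W) U h2).hom ((iS.app W).hom r) = ((f ≫ iS).appLE W U h2').hom r := by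
  rw [← appLE_appLE f iS (le_rfl : iS ⁻¹ᵁ W ≤ iS ⁻¹ᵁ W) h2 h2', Scheme.Hom.appLE_eq_app]

/-- The constants as elements of `P`. -/
noncomputable def cst {U : X.Opens} {W : St.Opens} (h1 : up H.hi (pr ⁻¹ᵁ U) ≤ gt ⁻¹ᵁ W) (h2 : U ≤ f ⁻¹ᵁ (iS ⁻¹ᵁ W))
    (r : Γ(St, W)) : P (gd H U) :=
  ⟨(((gt.appLE W _ h1).hom r) ^ p, (f.appLE (iS ⁻¹ᵁ W) U h2).hom ((iS.app W).hom r)), by
    have := (gd H U).hC _ ⟨W, h1, h2, r, rfl⟩
    rw [mem_P, map_pow]
    exact this⟩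

theorem cst_mul {U : X.Opens} {W : St.Opens} (h1 : up H.hi (pr ⁻¹ᵁ U) ≤ gt ⁻¹ᵁ W) (h2 : U ≤ f ⁻¹ᵁ (iS ⁻¹ᵁ W))
    (r r' : Γ(St, W)) : cst H h1 h2 (r * r') = cst H h1 h2 r * cst H h1 h2 r' := by
  refine Subtype.ext (Prod.ext ?_ ?_)
  · change ((gt.appLE W _ h1).hom (r * r')) ^ p = ((gt.appLE W _ h1).hom r) ^ p * ((gt.appLE W _ h1).hom r') ^ p
    rw [map_mul, mul_pow]
  · change (f.appLE (iS ⁻¹ᵁ W) U h2).hom ((iS.app W).hom (r * r')) = _ * _
    rw [map_mul, map_mul]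
    rfl

/-- The function `lam` vanishes on all the constants. -/
theorem lam_const {U : X.Opens} (hU : IsAffineOpen U) (hUt : IsAffineOpen (up H.hi (pr ⁻¹ᵁ U))) {W0 : St.Opens}
    (hW0 : IsAffineOpen W0) (g1 : up H.hi (pr ⁻¹ᵁ U) ≤ gt ⁻¹ᵁ W0) (g2 : U ≤ f ⁻¹ᵁ (iS ⁻¹ᵁ W0))
    {lam : P (gd H U) → Γ(X, U)} (hmul : ∀ a b, lam (a * b) = a.1.2 ^ p * lam b + b.1.2 ^ p * lam a)
    (h0 : ∀ r : Γ(St, W0), lam (cst H g1 g2 r) = 0) {W : St.Opens} (h1 : up H.hi (pr ⁻¹ᵁ U) ≤ gt ⁻¹ᵁ W)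
    (h2 : U ≤ f ⁻¹ᵁ (iS ⁻¹ᵁ W)) (r : Γ(St, W)) : lam (cst H h1 h2 r) = 0 := by
  refine eq_zero_of_locally _ fun y hy => ?_
  have hyW : iS (f y) ∈ W := h2 hy
  have hyW0 : iS (f y) ∈ W0 := g2 hy
  obtain ⟨s, hsW, hys⟩ := hW0.exists_basicOpen_le (V := W) ⟨iS (f y), hyW⟩ hyW0
  have hloc := hW0.isLocalization_basicOpen s
  obtain ⟨⟨ρ, ⟨_, n, rfl⟩⟩, hρ⟩ := IsLocalization.surj (M := Submonoid.powers s)
    ((St.presheaf.map (homOfLE hsW).op).hom r)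
  have hρ' : (St.presheaf.map (homOfLE (St.basicOpen_le s)).op).hom ρ =
      (St.presheaf.map (homOfLE (St.basicOpen_le s)).op).hom (s ^ n) * (St.presheaf.map (homOfLE hsW).op).hom r := by
    rw [mul_comm]
    exact hρ.symm
  have g2' : U ≤ (f ≫ iS) ⁻¹ᵁ W0 := g2
  have h2' : U ≤ (f ≫ iS) ⁻¹ᵁ W := h2
  obtain ⟨N, hN⟩ := exists_pow_eq gt s ρ r n hsW hρ' hUt g1 h1
  obtain ⟨M, hM⟩ := exists_pow_eq (f ≫ iS) s ρ r n hsW hρ' hU g2' h2'
  have key : cst H g1 g2 (s ^ (N + M + n)) * cst H h1 h2 r = cst H g1 g2 (s ^ (N + M) * ρ) := by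
    refine Subtype.ext (Prod.ext ?_ ?_)
    · change ((gt.appLE W0 _ g1).hom (s ^ (N + M + n))) ^ p * ((gt.appLE W _ h1).hom r) ^ p =
        ((gt.appLE W0 _ g1).hom (s ^ (N + M) * ρ)) ^ p
      rw [← mul_pow]
      congr 1
      rw [map_mul, map_pow, map_pow]
      generalize (gt.appLE W0 _ g1).hom s = σ at hN ⊢
      generalize (gt.appLE W0 _ g1).hom ρ = τ at hN ⊢
      generalize (gt.appLE W _ h1).hom r = a at hN ⊢
      calc σ ^ (N + M + n) * a = σ ^ M * (σ ^ N * (σ ^ n * a)) := by ring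
        _ = σ ^ M * (σ ^ N * τ) := by rw [hN]
        _ = σ ^ (N + M) * τ := by ring
    · change (f.appLE (iS ⁻¹ᵁ W0) U g2).hom ((iS.app W0).hom (s ^ (N + M + n))) *
        (f.appLE (iS ⁻¹ᵁ W) U h2).hom ((iS.app W).hom r) =
        (f.appLE (iS ⁻¹ᵁ W0) U g2).hom ((iS.app W0).hom (s ^ (N + M) * ρ))
      rw [comp_eq H g2 g2', comp_eq H g2 g2', comp_eq H h2 h2', map_mul, map_pow, map_pow]
      generalize ((f ≫ iS).appLE W0 _ g2').hom s = σ at hM ⊢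
      generalize ((f ≫ iS).appLE W0 _ g2').hom ρ = τ at hM ⊢
      generalize ((f ≫ iS).appLE W _ h2').hom r = a at hM ⊢
      calc σ ^ (N + M + n) * a = σ ^ N * (σ ^ M * (σ ^ n * a)) := by ring
        _ = σ ^ N * (σ ^ M * τ) := by rw [hM]
        _ = σ ^ (N + M) * τ := by ring
  have h3 := congrArg lam key
  rw [hmul, h0, h0, mul_zero, add_zero] at h3
  have h4 : (cst H g1 g2 (s ^ (N + M + n))).1.2 = (((f ≫ iS).appLE W0 _ g2').hom s) ^ (N + M + n) := by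
    change (f.appLE (iS ⁻¹ᵁ W0) U g2).hom ((iS.app W0).hom (s ^ (N + M + n))) = _
    rw [comp_eq H g2 g2', map_pow]
  rw [h4, ← pow_mul] at h3
  refine ⟨_, _, ?_, h3⟩
  have h5 : X.basicOpen (((f ≫ iS).appLE W0 _ g2').hom s) = U ⊓ (f ≫ iS) ⁻¹ᵁ (St.basicOpen s) :=
    Scheme.basicOpen_appLE (f ≫ iS) U W0 g2' s
  rw [h5]
  exact ⟨hy, hys⟩

/-! ### Existence of charts -/

section ex

variable {A0 B0 : Type u} [CommRing A0] [CommRing B0] {φ : A0 →+* B0} (hφ : IsLft p φ)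
  {gS : St ⟶ Spec (CommRingCat.of A0)} {sS : S ⟶ Spec (CommRingCat.of B0)} [Flat gS]
  (hS : IsPullback iS sS gS (Spec.map (CommRingCat.ofHom φ))) (hX : IsPullback iX f1 gt iS) [Smooth gt]

include hφ hS in
variable {δ} in
/-- Charts from étale coordinates. -/
theorem isCh_of {U : X.Opens} (hU : IsAffineOpen U) {V : S.Opens} (hV : IsAffineOpen V) (e : U ≤ f ⁻¹ᵁ V)
    (x₀ : X) (hx₀ : x₀ ∈ U) (hX : IsPullback iX f1 gt iS) {n : ℕ} (v : Fin n → Γ(X, U))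
    (het : (MvPolynomial.eval₂Hom (f.appLE V U e).hom v).Etale) (b : Module.Basis (Fin n) Γ(X, U) Γ(Ω', U))
    (hb : ∀ j, b j = δ.app U (v j)) : IsCh H δ U := by
  have hcS : IsClosedImmersion iS := isClosedImmersion hφ hS
  have hsS : Surjective iS := surjective hφ hS
  have HX := hX.paste_vert hS
  have hcX : IsClosedImmersion iX := isClosedImmersion hφ HX
  have hsX : Surjective iX := surjective hφ HX
  have hpra : IsAffineHom pr := isAffineHom_pr H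
  have hU1 : IsAffineOpen (pr ⁻¹ᵁ U) := hU.preimage pr
  have hUt : IsAffineOpen (up H.hi (pr ⁻¹ᵁ U)) := K904.GeoUp.isAffineOpen_up iX hU1
  let Vt : St.Opens := K904.GeoUp.up iS V
  have hVt : IsAffineOpen Vt := K904.GeoUp.isAffineOpen_up iS hV
  have hVV : iS ⁻¹ᵁ Vt = V := K904.GeoUp.preimage_up iS V
  have g1 : up H.hi (pr ⁻¹ᵁ U) ≤ gt ⁻¹ᵁ Vt := by
    rintro _ ⟨z, hz, rfl⟩
    refine ⟨f1 z, le_f1 H e hz, ?_⟩
    change (f1 ≫ iS) z = (iX ≫ gt) z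
    rw [H.w]
  have g2 : U ≤ f ⁻¹ᵁ (iS ⁻¹ᵁ Vt) := by rw [hVV]; exact e
  have hL : IsLft p (gθ H U) := isLft_sec hφ HX hUt (preimage_up H.hi (pr ⁻¹ᵁ U)) _
  let π : Γ(St, Vt) →+* Γ(S, V) := (iS.appLE Vt V hVV.ge).hom
  have hLS : IsLft p π := isLft_sec hφ hS hVt hVV _
  have hy : Nonempty U := ⟨⟨x₀, hx₀⟩⟩
  have hy1 : Nonempty (pr ⁻¹ᵁ U : X1.Opens) := ⟨⟨F x₀, le_F H U hx₀⟩⟩
  have hyV : Nonempty V := ⟨⟨f x₀, e hx₀⟩⟩
  have hX1 : FrobSch.IsCharP X1 p := FrobSch.IsCharP.of_hom f1 p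
  have hchU : CharP Γ(X, U) p := charP_of U
  have hch1 : CharP Γ(X1, pr ⁻¹ᵁ U) p := charP_of (pr ⁻¹ᵁ U)
  have hchV : CharP Γ(S, V) p := charP_of V
  letI := pz H U
  letI : PZ p Γ(X1, pr ⁻¹ᵁ U) := ⟨CharP.cast_eq_zero _ p⟩
  let ρ : Γ(St, Vt) →+* Γ(Xt, up H.hi (pr ⁻¹ᵁ U)) := (gt.appLE Vt _ g1).hom
  let fU : Γ(S, V) →+* Γ(X, U) := (f.appLE V U e).hom
  let r1 : Γ(S, V) →+* Γ(X1, pr ⁻¹ᵁ U) := (f1.appLE V (pr ⁻¹ᵁ U) (le_f1 H e)).hom
  have hθρ : ∀ r, gθ H U (ρ r) = r1 (π r) := by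
    intro r
    have e1 : pr ⁻¹ᵁ U ≤ (iX ≫ gt) ⁻¹ᵁ Vt := (le_preimage_up H.hi _).trans fun x hx => g1 hx
    have e2 : pr ⁻¹ᵁ U ≤ (f1 ≫ iS) ⁻¹ᵁ Vt := by
      rw [← H.w]; exact e1
    refine (appLE_appLE iX gt g1 (le_preimage_up H.hi _) e1 r).trans ?_
    refine (appLE_eq H.w e1 e2 r).trans ?_
    exact (appLE_appLE f1 iS hVV.ge (le_f1 H e) e2 r).symm
  have hρ : ∀ r, (gd H U).θ (ρ r) ^ p = (gd H U).w (fU (π r)) := by
    intro r
    change gθ H U (ρ r) ^ p = gw pr U ((f.appLE V U e).hom (π r))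
    rw [gw_const H e, hθρ]
  have hFρ : ∀ r, (gd H U).F ((gd H U).θ (ρ r)) = fU (π r) := by
    intro r
    change gF H U (gθ H U (ρ r)) = fU (π r)
    rw [hθρ]
    exact gF_const H e (π r)
  have hcst : ∀ r : Γ(St, Vt), (cst H g1 g2 r).1 = (ρ r ^ p, fU (π r)) := by
    intro r
    refine Prod.ext rfl ?_
    change (f.appLE (iS ⁻¹ᵁ Vt) U g2).hom ((iS.app Vt).hom r) = (f.appLE V U e).hom ((iS.appLE Vt V hVV.ge).hom r)
    have g2' : U ≤ (f ≫ iS) ⁻¹ᵁ Vt := g2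
    rw [comp_eq H g2 g2', appLE_appLE f iS hVV.ge e g2']
  choose at' hat using fun j => hL.surj (gw pr U (v j))
  let xt : Fin n → P (gd H U) := fun j => ⟨(at' j, v j), hat j⟩
  have hsm : @Algebra.FormallySmooth (MvPolynomial (Fin n) Γ(S, V)) Γ(X, U) _ _
      (MvPolynomial.eval₂Hom fU (fun j => (xt j).1.2)).toAlgebra := by
    letI := (MvPolynomial.eval₂Hom fU (fun j => (xt j).1.2)).toAlgebra
    have h1 : Algebra.Etale (MvPolynomial (Fin n) Γ(S, V)) Γ(X, U) := het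
    exact inferInstance
  have hconst : ∀ c : Γ(X1, pr ⁻¹ᵁ U), δ.app U ((gd H U).F c) = 0 := const H hU hV e
  have hder : IsDer (dat (gd H U)) (δ.app U) := isDer (gd H U) (δ_mul U) hconst (by
    rintro c ⟨W, h1, h2, r, rfl⟩
    exact K922.DSec.dS_appLE (d := δ) h2 _)
  obtain ⟨lam, l1, l2, l3, l4, -⟩ := RelLam.exists_lam (G := gd H U) π ρ fU hρ hFρ hLS.surj hLS.ker hL.pp hL.surj hL.ker
    hL.tor xt hsm
  have hpb : IsRPB p (gd H U).F (fun j => (xt j).1.2) :=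
    RelPB.isRPB_of_etale_coord p fU v het (gw pr U) r1 (isPushout_tw' H hU hV e) (gF H U) (gF_gw H U)
      (gF_const H e)
  refine ⟨hU, n, b, xt, lam, hch1, ⟨hpb, δ_mul U, hconst, fun j => (hb j).symm⟩, hder, ⟨l1, l2, ?_⟩, ?_⟩
  · rintro a s (⟨c, h1, h2⟩ | ⟨_, ⟨W, h1, h2, r, rfl⟩, h3, h4⟩)
    · exact (l3 a c h1).trans h2.symm
    · have h5 : a = cst H h1 h2 r := Subtype.ext h3
      have h6 : s = 0 := h4
      rw [h5, h6]
      exact lam_const H hU hUt hVt g1 g2 l2 (fun r => l4 _ r (hcst r)) h1 h2 r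
  · refine gen (G := gd H U) hL.surj hL.ker (δ_mul U) hconst b xt (fun j => (hb j).symm) hpb fU r1 (gF_const H e) ?_
      (mem_closure_of_isPushout (isPushout_tw' H hU hV e))
    intro r
    obtain ⟨r, rfl⟩ := hLS.surj r
    refine ⟨ρ r, Vt, g1, g2, r, ?_⟩
    exact Prod.ext rfl (congrArg Prod.snd (hcst r)).symm

include hφ hS in
variable {δ} in
/-- **Local existence of charts.** -/
theorem exists_isCh (hX : IsPullback iX f1 gt iS) [Smooth f] (hδ : OmegaSh.IsUniversal δ) (U : X.Opens) (x : X)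
    (hx : x ∈ U) : ∃ V, IsCh H δ V ∧ x ∈ V ∧ V ≤ U := by
  obtain ⟨U₁, n, v, hx₁, hU₁, hv⟩ := K922.Coord.exists_isCoord f hx
  obtain ⟨W, h, V, e, -, hxW, het⟩ := hv x U₁.1 le_rfl hx₁
  have hb := (hv.restrict h).isLocBasis (K922.Univ.affUniv hδ)
  have hbe : ∀ j, hb.basis le_rfl j = K922.DSec.dS δ W.1 (resO X h (v j)) := fun j => by
    rw [hb.basis_apply, res_self]
  exact ⟨W.1, isCh_of H hφ hS W.2 V.2 e x hxW hX _ het (hb.basis le_rfl) hbe, hxW, h.trans hU₁⟩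

end ex

end K224.RelCov
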