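import Groth.Agent.DelIll.K224.RelLocal
import Groth.Agent.DelIll.K904.Witt

/-!
# The data attached to a lifting modulo `p²` of the Frobenius twist
-/

set_option autoImplicit false
set_option linter.unusedSectionVars false
set_option linter.style.haveILetI false

open K905 K224.RelM K224.RelPhi K224.RelCartier K224.RelLocal
open K905.TotM (PZ)

namespace K224.RelGeom

universe u

/-- The data: `θ : At → A1` a lifting of the Frobenius twist, `w : A → A1` the projection of the twist, `F : A1 → A`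
the relative Frobenius, `C` the pairs of constants. -/
structure GDat (p : ℕ) (At A1 A : Type*) [CommRing At] [CommRing A1] [CommRing A] where
  /-- the lifting -/
  θ : At →+* A1
  /-- the projection of the twist -/
  w : A →+* A1
  /-- relative Frobenius -/
  F : A1 →+* A
  hF : ∀ a, F (w a) = a ^ p
  /-- the constants -/
  C : Set (At × A)
  hC : ∀ c ∈ C, θ c.1 ^ p = w c.2

variable {p : ℕ} [hp : Fact p.Prime] {At A1 A : Type*} [CommRing At] [CommRing A1] [CommRing A] (G : GDat p At A1 A)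

/-- The fibre product. -/
def P : Subring (At × A) := RingHom.eqLocus (G.θ.comp (RingHom.fst At A)) (G.w.comp (RingHom.snd At A))

theorem mem_P {x : At × A} : x ∈ P G ↔ G.θ x.1 = G.w x.2 := Iff.rfl

/-- The relations. -/
def Rel : Set (P G × A) :=
  {z | ∃ c : At, z.1.1 = (p • c, 0) ∧ z.2 = G.F (G.θ c)} ∪
    {z | ∃ c ∈ G.C, z.1.1 = (c.1 ^ p, c.2) ∧ z.2 = 0}

/-- The data. -/
noncomputable def dat : Dat p (P G) A1 A where
  α := (RingHom.snd At A).comp (P G).subtype
  β := (G.θ.comp (RingHom.fst At A)).comp (P G).subtype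
  F := G.F
  hF x := by
    have h : G.θ x.1.1 = G.w x.1.2 := x.2
    change G.F (G.θ x.1.1) = x.1.2 ^ p
    rw [h, G.hF]
  Rel := Rel G

theorem dat_α (x : P G) : (dat G).α x = x.1.2 := rfl
theorem dat_β (x : P G) : (dat G).β x = G.w x.1.2 := x.2
theorem dat_β' (x : P G) : (dat G).β x = G.θ x.1.1 := rfl
theorem dat_F : (dat G).F = G.F := rfl

/-- Derivations. -/
theorem isDer [PZ p A] {L : Type*} [AddCommGroup L] [Module A L] {δ : A →+ L}
    (leib : ∀ a b, δ (a * b) = a • δ b + b • δ a) (const : ∀ c : A1, δ (G.F c) = 0)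
    (hC : ∀ c ∈ G.C, δ c.2 = 0) : IsDer (dat G) δ where
  leib := leib
  const := const
  rel x s h := by
    rcases h with ⟨c, h1, h2⟩ | ⟨c, hc, h1, h2⟩
    · have h3 : (dat G).α x = 0 := congrArg Prod.snd h1
      have h4 : s = G.F (G.θ c) := h2
      rw [h3, map_zero, smul_zero, h4, const, add_zero]
    · have h3 : (dat G).α x = c.2 := by
        have h5 : x.1 = (c.1 ^ p, c.2) := h1
        change x.1.2 = c.2
        rw [h5]
      have h4 : s = 0 := h2
      rw [h3, hC c hc, smul_zero, h4, map_zero, add_zero]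

/-! ### Functoriality -/

variable {Bt B1 B : Type*} [CommRing Bt] [CommRing B1] [CommRing B] (H : GDat p Bt B1 B)

/-- Morphisms. -/
structure GMor where
  /-- on `At` -/
  ft : At →+* Bt
  /-- on `A1` -/
  f1 : A1 →+* B1
  /-- on `A` -/
  f : A →+* B
  θ : ∀ x, H.θ (ft x) = f1 (G.θ x)
  w : ∀ x, H.w (f x) = f1 (G.w x)
  F : ∀ x, H.F (f1 x) = f (G.F x)
  C : ∀ c ∈ G.C, (ft c.1, f c.2) ∈ H.C

variable {G H}

/-- The morphism of data. -/
noncomputable def mor (m : GMor G H) : Mor (dat G) (dat H) where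
  fP := ((RingHom.prodMap m.ft m.f).comp (P G).subtype).codRestrict (P H) (fun x => by
    have h : G.θ x.1.1 = G.w x.1.2 := x.2
    change H.θ (m.ft x.1.1) = H.w (m.f x.1.2)
    rw [m.θ, m.w, h])
  f1 := m.f1
  f := m.f
  α x := rfl
  β x := m.θ x.1.1
  F := m.F
  rel x s h := by
    rcases h with ⟨c, h1, h2⟩ | ⟨c, hc, h1, h2⟩
    · refine Or.inl ⟨m.ft c, ?_, ?_⟩
      · change (m.ft x.1.1, m.f x.1.2) = _
        have h3 : x.1 = (p • c, 0) := h1
        rw [h3, map_nsmul, map_zero]
      · have h4 : s = G.F (G.θ c) := h2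
        change m.f s = H.F (H.θ (m.ft c))
        rw [h4, m.θ, m.F]
    · refine Or.inr ⟨_, m.C c hc, ?_, ?_⟩
      · change (m.ft x.1.1, m.f x.1.2) = _
        have h3 : x.1 = (c.1 ^ p, c.2) := h1
        rw [h3, map_pow]
      · have h4 : s = 0 := h2
        change m.f s = 0
        rw [h4, map_zero]

theorem mor_fP (m : GMor G H) (x : P G) : ((mor m).fP x).1 = (m.ft x.1.1, m.f x.1.2) := rfl

/-! ### Generation -/

section gen

variable {J : Type*} [LinearOrder J] [Fintype J] [PZ p A1]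

/-- The quotient by `io`. -/
abbrev Qt (D : Dat p (P G) A1 A) : Type _ := T D ⧸ LinearMap.range (io D)

/-- The class of `a` modulo `io`. -/
theorem exists_der (hθ : Function.Surjective G.θ) (hker : ∀ a, G.θ a = 0 → ∃ b, a = p • b) :
    ∃ D : A →+ (T (dat G) ⧸ LinearMap.range (io (dat G))),
      (∀ a b, D (a * b) = G.w a • D b + G.w b • D a) ∧
      ∀ x : P G, D x.1.2 = Submodule.Quotient.mk (br (dat G) x) := by
  have hcong : ∀ x y : P G, x.1.2 = y.1.2 → br (dat G) x - br (dat G) y ∈ LinearMap.range (io (dat G)) := by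
    intro x y hxy
    have hx : G.θ x.1.1 = G.w x.1.2 := x.2
    have hy : G.θ y.1.1 = G.w y.1.2 := y.2
    obtain ⟨c, hc⟩ := hker (x.1.1 - y.1.1) (by rw [map_sub, hx, hy, hxy, sub_self])
    have h1 : (x - y).1 = (p • c, 0) := Prod.ext hc (by
      change x.1.2 - y.1.2 = 0
      rw [hxy, sub_self])
    have h2 := br_rel (dat G) (a := x - y) (s := G.F (G.θ c)) (Or.inl ⟨c, h1, rfl⟩)
    have h3 := br_add (dat G) (x - y) y
    rw [sub_add_cancel] at h3
    have h4 : br (dat G) (x - y) = -io (dat G) (toFr (dat G) (G.F (G.θ c))) := eq_neg_of_add_eq_zero_left h2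
    rw [h3, h4, add_sub_right_comm, add_sub_cancel_right]
    exact Submodule.add_mem _ (Submodule.neg_mem _ ⟨_, rfl⟩) ⟨_, rfl⟩
  have hex : ∀ a : A, ∃ x : P G, x.1.2 = a := fun a => by
    obtain ⟨b, hb⟩ := hθ (G.w a)
    exact ⟨⟨(b, a), hb⟩, rfl⟩
  let g : A → (T (dat G) ⧸ LinearMap.range (io (dat G))) := fun a =>
    Submodule.Quotient.mk (br (dat G) (hex a).choose)
  have hg : ∀ x : P G, g x.1.2 = Submodule.Quotient.mk (br (dat G) x) := fun x =>
    (Submodule.Quotient.eq _).2 (hcong _ _ (hex x.1.2).choose_spec)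
  refine ⟨AddMonoidHom.mk' g ?_, ?_, hg⟩
  · intro a b
    obtain ⟨x, rfl⟩ := hex a
    obtain ⟨y, rfl⟩ := hex b
    have h1 : x.1.2 + y.1.2 = (x + y).1.2 := rfl
    rw [h1, hg, hg, hg, br_add]
    refine (Submodule.Quotient.eq _).2 ?_
    rw [add_sub_cancel_left]
    exact ⟨_, rfl⟩
  · intro a b
    obtain ⟨x, rfl⟩ := hex a
    obtain ⟨y, rfl⟩ := hex b
    have h1 : x.1.2 * y.1.2 = (x * y).1.2 := rfl
    change g (x.1.2 * y.1.2) = G.w x.1.2 • g y.1.2 + G.w y.1.2 • g x.1.2
    rw [h1, hg, hg, hg, br_mul, dat_β, dat_β]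
    rfl

theorem der_pow {M : Type*} [AddCommGroup M] [Module A1 M] (D : A →+ M)
    (hD : ∀ a b, D (a * b) = G.w a • D b + G.w b • D a) (a : A) : D (a ^ p) = 0 := by
  have h : ∀ n : ℕ, D (a ^ (n + 1)) = ((n + 1 : ℕ) : A1) • G.w a ^ n • D a := by
    intro n
    induction n with
    | zero => simp
    | succ n ih =>
      rw [pow_succ, hD, ih, smul_smul, smul_smul, smul_smul, ← add_smul]
      congr 1
      rw [map_pow]
      push_cast
      ring
  obtain ⟨q, hq⟩ : ∃ q, p = q + 1 := ⟨p - 1, by have := hp.1.one_lt; omega⟩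
  have h1 := h q
  rw [← hq, PZ.eq_zero, zero_smul] at h1
  exact h1

/-- **Generation** of `T` modulo `io` by the symbols of the coordinates. -/
theorem gen (hθ : Function.Surjective G.θ) (hker : ∀ a, G.θ a = 0 → ∃ b, a = p • b)
    {L : Type*} [AddCommGroup L] [Module A L] {δ : A →+ L} (leib : ∀ a b, δ (a * b) = a • δ b + b • δ a)
    (const : ∀ c : A1, δ (G.F c) = 0) (e : Module.Basis J A L) (xt : J → P G) (ex : ∀ j, δ (xt j).1.2 = e j)
    (hpb : IsRPB p G.F (fun j => (xt j).1.2))
    {R : Type*} [CommRing R] (f : R →+* A) (r1 : R →+* A1) (hr1 : ∀ r, G.F (r1 r) = f r)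
    (hC : ∀ r : R, ∃ c : At, (c, f r) ∈ G.C)
    (hgen : ∀ c : A1, c ∈ AddSubgroup.closure {c | ∃ (a : A) (r : R), c = G.w a * r1 r})
    (m : T (dat G)) : ∃ (v : J → A1) (s : Fr (dat G)), m = ∑ j, v j • br (dat G) (xt j) + io (dat G) s := by
  obtain ⟨D, hD, hDx⟩ := exists_der hθ hker
  have hDf : ∀ r, D (f r) = 0 := by
    intro r
    obtain ⟨c, hc⟩ := hC r
    have h1 := G.hC _ hc
    let x : P G := ⟨(c ^ p, f r), by rw [mem_P, map_pow]; exact h1⟩
    have h2 := hDx x
    have h3 := br_rel (dat G) (a := x) (s := 0) (Or.inr ⟨_, hc, rfl, rfl⟩)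
    rw [map_zero, map_zero, add_zero] at h3
    rw [h3] at h2
    exact h2
  have hDF : ∀ c : A1, D (G.F c) = 0 := by
    intro c
    induction hgen c using AddSubgroup.closure_induction with
    | mem c hc =>
      obtain ⟨a, r, rfl⟩ := hc
      rw [map_mul, G.hF, hr1, hD, hDf, smul_zero, zero_add, der_pow D hD, smul_zero]
    | zero => rw [map_zero, map_zero]
    | add x y _ _ hx hy => rw [map_add, map_add, hx, hy, add_zero]
    | neg x _ hx => rw [map_neg, map_neg, hx, neg_zero]
  let D' : A →+ (T (dat G) ⧸ LinearMap.range (io (dat G))) :=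
    AddMonoidHom.mk' (fun a => ∑ j, G.w (e.repr (δ a) j) • D ((xt j).1.2)) (fun a b => by
      rw [← Finset.sum_add_distrib]
      refine Finset.sum_congr rfl fun j _ => ?_
      rw [map_add, map_add, Finsupp.add_apply, map_add, add_smul])
  have hD'a : ∀ a, D' a = ∑ j, G.w (e.repr (δ a) j) • D ((xt j).1.2) := fun _ => rfl
  have heq : ∀ a, D a = D' a := by
    refine der_ext hpb G.w D D' hD (fun a b => ?_) hDF (fun c => ?_) (fun j => ?_)
    · rw [hD'a, hD'a, hD'a, Finset.smul_sum, Finset.smul_sum, ← Finset.sum_add_distrib]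
      refine Finset.sum_congr rfl fun j _ => ?_
      rw [leib, map_add, map_smul, map_smul, Finsupp.add_apply, Finsupp.smul_apply, Finsupp.smul_apply, map_add,
        smul_eq_mul, smul_eq_mul, map_mul, map_mul, add_smul, mul_smul, mul_smul]
    · rw [hD'a, const]
      simp
    · rw [hD'a, ex]
      classical
      rw [Finset.sum_eq_single j]
      · simp
      · intro i _ hi
        simp [Ne.symm hi]
      · intro h
        exact absurd (Finset.mem_univ _) h
  induction m using RelM.induction with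
  | h1 c x =>
    have h1 := heq x.1.2
    rw [hDx, hD'a] at h1
    simp only [hDx] at h1
    have h2 : br (dat G) x - ∑ j, G.w (e.repr (δ x.1.2) j) • br (dat G) (xt j) ∈ LinearMap.range (io (dat G)) := by
      rw [← Submodule.Quotient.eq]
      refine h1.trans ?_
      exact (map_sum (LinearMap.range (io (dat G))).mkQ _ _).symm
    obtain ⟨s, hs⟩ := h2
    refine ⟨fun j => c * G.w (e.repr (δ x.1.2) j), c • s, ?_⟩
    rw [map_smul, hs, smul_sub, Finset.smul_sum]
    simp only [mul_smul]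
    abel
  | h2 s => exact ⟨0, s, by simp⟩
  | hadd x y hx hy =>
    obtain ⟨v, s, rfl⟩ := hx
    obtain ⟨v', s', rfl⟩ := hy
    refine ⟨v + v', s + s', ?_⟩
    simp only [Pi.add_apply, add_smul, Finset.sum_add_distrib, map_add]
    abel

end gen

end K224.RelGeom
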