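import Groth.Agent.DelIll.K224.RelPhi
import Groth.Agent.DelIll.K905.SheafKos
import Mathlib.Algebra.Category.Ring.Basic

/-!
# The complexes of presheaves attached to a presheaf of data
-/

set_option autoImplicit false
universe u v w

open CategoryTheory CategoryTheory.Limits Opposite TopologicalSpace K905 K224.RelM K224.RelPhi
open K905.TotM (PZ)

namespace K224.RelSys

/-- A presheaf of data. -/
structure Sys (p : ℕ) (C : Type v) [Category.{w} C] where
  /-- the rings `P` -/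
  P : C → CommRingCat.{u}
  /-- the rings `A1` -/
  A1 : C → CommRingCat.{u}
  /-- the rings `A` -/
  A : C → CommRingCat.{u}
  /-- the data -/
  D : ∀ U, Dat p (P U) (A1 U) (A U)
  /-- the restrictions -/
  m : ∀ {U V : C}, (U ⟶ V) → Mor (D U) (D V)
  id0 : ∀ U a, (m (𝟙 U)).fP a = a
  id1 : ∀ U a, (m (𝟙 U)).f1 a = a
  id2 : ∀ U a, (m (𝟙 U)).f a = a
  comp0 : ∀ {U V W : C} (f : U ⟶ V) (g : V ⟶ W) (a : P U), (m g).fP ((m f).fP a) = (m (f ≫ g)).fP a
  comp1 : ∀ {U V W : C} (f : U ⟶ V) (g : V ⟶ W) (a : A1 U), (m g).f1 ((m f).f1 a) = (m (f ≫ g)).f1 a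
  comp2 : ∀ {U V W : C} (f : U ⟶ V) (g : V ⟶ W) (a : A U), (m g).f ((m f).f a) = (m (f ≫ g)).f a

variable {p : ℕ} [hp : Fact p.Prime] {C : Type v} [Category.{w} C] (S : Sys.{u} p C)

/-- The Koszul group at `U`. -/
abbrev KU (U : C) : Type u := Kos.KK (S.A1 U) (Fr (S.D U)) (T (S.D U))

/-- The pieces. -/
noncomputable abbrev PU (j i : ℕ) (U : C) : AddSubgroup (KU S U) :=
  Kos.P (S.A1 U) (Fr (S.D U)) (T (S.D U)) j i

/-- Restriction. -/
noncomputable def resK {U V : C} (f : U ⟶ V) : KU S U →+ KU S V := mapK (S.D U) (S.m f)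

theorem resK_id (U : C) (z : KU S U) : resK S (𝟙 U) z = z :=
  mapK_id (S.D U) (S.m (𝟙 U)) (S.id0 U) (S.id1 U) (S.id2 U) z

theorem resK_comp {U V W : C} (f : U ⟶ V) (g : V ⟶ W) (z : KU S U) :
    resK S (f ≫ g) z = resK S g (resK S f z) :=
  (mapK_comp (S.D U) (S.m f) (S.m g) (S.m (f ≫ g)) (S.comp0 f g) (S.comp1 f g) (S.comp2 f g) z).symm

theorem resK_κ {U V : C} (f : U ⟶ V) (z : KU S U) :
    resK S f (Kos.κ (io (S.D U)) z) = Kos.κ (io (S.D V)) (resK S f z) := mapK_κ _ _ _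

theorem resK_mem {U V : C} (f : U ⟶ V) {j i : ℕ} {z : KU S U} (hz : z ∈ PU S j i U) : resK S f z ∈ PU S j i V :=
  mapK_mem _ _ hz

/-- The presheaf of total degree `j`, exterior degree `i`. -/
noncomputable def PP (j i : ℕ) : C ⥤ AddCommGrpCat.{u} where
  obj U := AddCommGrpCat.of (PU S j i U)
  map {U V} f := AddCommGrpCat.ofHom (AddMonoidHom.mk' (fun z => (⟨resK S f z.1, resK_mem S f z.2⟩ : PU S j i V))
    (fun a b => Subtype.ext (map_add (resK S f) a.1 b.1)))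
  map_id U := AddCommGrpCat.hom_ext (AddMonoidHom.ext fun z => Subtype.ext (resK_id S U z.1))
  map_comp f g := AddCommGrpCat.hom_ext (AddMonoidHom.ext fun z => Subtype.ext (resK_comp S f g z.1))

theorem PP_map {j i : ℕ} {U V : C} (f : U ⟶ V) (z : PU S j i U) :
    (((PP S j i).map f) z : PU S j i V).1 = resK S f z.1 := rfl

/-- The differential. -/
noncomputable def dd (j i : ℕ) : PP S j i ⟶ PP S j (i + 1) where
  app U := AddCommGrpCat.ofHom (AddMonoidHom.mk' (fun z => (⟨Kos.κ (io (S.D U)) z.1, Kos.κ_mem _ z.2⟩ :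
    PU S j (i + 1) U)) (fun a b => Subtype.ext (map_add (Kos.κ (io (S.D U))) a.1 b.1)))
  naturality U V f := by
    ext z
    exact Subtype.ext (resK_κ S f z.1).symm

theorem dd_app {j i : ℕ} (U : C) (z : PU S j i U) :
    ((dd S j i).app U z : PU S j (i + 1) U).1 = Kos.κ (io (S.D U)) z.1 := rfl

theorem dd_dd (j i : ℕ) : dd S j i ≫ dd S j (i + 1) = 0 := by
  ext U z
  exact Subtype.ext (Kos.κ_κ _ z.1)

/-- The complex. -/
noncomputable def PC (j : ℕ) : CochainComplex (C ⥤ AddCommGrpCat.{u}) ℕ :=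
  CochainComplex.of (fun i => PP S j i) (dd S j) (dd_dd S j)

theorem PC_X (j i : ℕ) : (PC S j).X i = PP S j i := rfl

theorem PC_d (j i : ℕ) : (PC S j).d i (i + 1) = dd S j i := CochainComplex.of_d _ _ _

end K224.RelSys
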