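import Groth.Prelude.Def_Frob
import Groth.Agent.DelIll.K224.RelGeom
import Groth.Agent.DelIll.K224.RelSys
import Groth.Agent.DelIll.K905.GeoPhi
import Groth.Agent.LogNCD.K922.DSec

/-!
# The presheaf of data attached to a lifting of the Frobenius twist
-/

set_option autoImplicit false
set_option linter.unusedSectionVars false
set_option linter.style.haveILetI false
universe u

open CategoryTheory CategoryTheory.Limits AlgebraicGeometry Opposite TopologicalSpace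
open K905 K905.GeoUp K905.GeoPhi K224.RelM K224.RelPhi K224.RelGeom K224.RelSys
open K905.TotM (PZ)

namespace K224.RelGD

variable {X X1 S Xt St : Scheme.{u}}

/-- The geometric situation. -/
structure IsGeo (p : ℕ) [Fact p.Prime] [FrobSch.IsCharP S p] [FrobSch.IsCharP X p] (f : X ⟶ S) (pr : X1 ⟶ X)
    (f1 : X1 ⟶ S) (F : X ⟶ X1) (iX : X1 ⟶ Xt) (gt : Xt ⟶ St) (iS : S ⟶ St) : Prop where
  tw : IsPullback pr f1 f (FrobSch.frob S p)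
  F1 : F ≫ pr = FrobSch.frob X p
  F2 : F ≫ f1 = f
  w : iX ≫ gt = f1 ≫ iS
  hi : Topology.IsOpenEmbedding iX

variable {p : ℕ} [hp : Fact p.Prime] [FrobSch.IsCharP S p] [FrobSch.IsCharP X p] {f : X ⟶ S} {pr : X1 ⟶ X}
    {f1 : X1 ⟶ S} {F : X ⟶ X1} {iX : X1 ⟶ Xt} {gt : Xt ⟶ St} {iS : S ⟶ St}
    (H : IsGeo p f pr f1 F iX gt iS)

include H in
theorem le_F (U : X.Opens) : U ≤ F ⁻¹ᵁ (pr ⁻¹ᵁ U) := by
  intro x hx
  change (F ≫ pr) x ∈ U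
  rw [H.F1]
  exact hx

theorem appLE_eq {Y Z : Scheme.{u}} {g h : Y ⟶ Z} (e : g = h) {U : Z.Opens} {V : Y.Opens} (e1 : V ≤ g ⁻¹ᵁ U)
    (e2 : V ≤ h ⁻¹ᵁ U) (x : Γ(Z, U)) : (g.appLE U V e1).hom x = (h.appLE U V e2).hom x := by
  subst e; rfl

theorem appLE_appLE {Y Z W : Scheme.{u}} (g : Y ⟶ Z) (h : Z ⟶ W) {U : W.Opens} {V : Z.Opens} {V' : Y.Opens}
    (e1 : V ≤ h ⁻¹ᵁ U) (e2 : V' ≤ g ⁻¹ᵁ V) (e3 : V' ≤ (g ≫ h) ⁻¹ᵁ U) (x : Γ(W, U)) :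
    (g.appLE V V' e2).hom ((h.appLE U V e1).hom x) = ((g ≫ h).appLE U V' e3).hom x := by
  have := Scheme.Hom.appLE_comp_appLE g h U V V' e1 e2
  exact congr($(this).hom x)

theorem res_appLE {Y Z : Scheme.{u}} (g : Y ⟶ Z) {U U' : Z.Opens} {V V' : Y.Opens} (e : V ≤ g ⁻¹ᵁ U)
    (e' : V' ≤ g ⁻¹ᵁ U') (hU : U' ≤ U) (hV : V' ≤ V) (x : Γ(Z, U)) :
    (Y.presheaf.map (homOfLE hV).op).hom ((g.appLE U V e).hom x) =
      (g.appLE U' V' e').hom ((Z.presheaf.map (homOfLE hU).op).hom x) := by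
  have h1 := Scheme.Hom.appLE_map g e (homOfLE hV).op
  have h2 := Scheme.Hom.map_appLE g e' (homOfLE hU).op
  exact congr($(h1.trans h2.symm).hom x)

theorem frob_appLE {X : Scheme.{u}} [FrobSch.IsCharP X p] {U V : X.Opens} (h : V ≤ (FrobSch.frob X p) ⁻¹ᵁ U)
    (h' : V ≤ U) (x : Γ(X, U)) :
    ((FrobSch.frob X p).appLE U V h).hom x = ((X.presheaf.map (homOfLE h').op).hom x) ^ p := by
  have h1 : ((FrobSch.frob X p).appLE U V h).hom x =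
    (X.presheaf.map (homOfLE h).op).hom (((FrobSch.frob X p).app U).hom x) := rfl
  rw [h1]
  have h2 : ((FrobSch.frob X p).app U).hom x = x ^ p := FrobSch.frob_app X p U x
  rw [h2]
  exact map_pow _ _ _

theorem map_homOfLE_id {Y : Scheme.{u}} {U : Y.Opens} (h : U ≤ U) (x : Γ(Y, U)) :
    (Y.presheaf.map (homOfLE h).op).hom x = x := by
  have h2 : (homOfLE h) = 𝟙 U := rfl
  rw [h2, op_id, Y.presheaf.map_id]
  rfl

theorem frob_appLE' {X : Scheme.{u}} [FrobSch.IsCharP X p] {U : X.Opens} (h : U ≤ (FrobSch.frob X p) ⁻¹ᵁ U)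
    (x : Γ(X, U)) : ((FrobSch.frob X p).appLE U U h).hom x = x ^ p :=
  (frob_appLE (p := p) h (le_refl U) x).trans (congrArg (· ^ p) (map_homOfLE_id (le_refl U) x))

/-- The reduction. -/
noncomputable abbrev gθ (U : X.Opens) : Γ(Xt, up H.hi (pr ⁻¹ᵁ U)) →+* Γ(X1, pr ⁻¹ᵁ U) :=
  (iX.appLE (up H.hi (pr ⁻¹ᵁ U)) (pr ⁻¹ᵁ U) (le_preimage_up H.hi _)).hom

/-- The projection of the twist. -/
noncomputable abbrev gw (pr : X1 ⟶ X) (U : X.Opens) : Γ(X, U) →+* Γ(X1, pr ⁻¹ᵁ U) := (pr.appLE U (pr ⁻¹ᵁ U) le_rfl).hom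

/-- The relative Frobenius. -/
noncomputable abbrev gF (U : X.Opens) : Γ(X1, pr ⁻¹ᵁ U) →+* Γ(X, U) := (F.appLE (pr ⁻¹ᵁ U) U (le_F H U)).hom

theorem gF_gw (U : X.Opens) (a : Γ(X, U)) : gF H U (gw pr U a) = a ^ p := by
  have h1 := appLE_appLE F pr (le_rfl : pr ⁻¹ᵁ U ≤ pr ⁻¹ᵁ U) (le_F H U) (le_F H U) a
  refine h1.trans ?_
  refine (appLE_eq H.F1 (le_F H U) (by exact le_rfl) a).trans ?_
  exact frob_appLE' (p := p) le_rfl a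

/-- The constants over `U`. -/
def CC (U : X.Opens) : Set (Γ(Xt, up H.hi (pr ⁻¹ᵁ U)) × Γ(X, U)) :=
  {c | ∃ (W : St.Opens) (h1 : up H.hi (pr ⁻¹ᵁ U) ≤ gt ⁻¹ᵁ W) (h2 : U ≤ f ⁻¹ᵁ (iS ⁻¹ᵁ W)) (r : Γ(St, W)),
    c = ((gt.appLE W _ h1).hom r, (f.appLE (iS ⁻¹ᵁ W) U h2).hom ((iS.app W).hom r))}

include H in
theorem le_f1 {U : X.Opens} {V : S.Opens} (h : U ≤ f ⁻¹ᵁ V) : pr ⁻¹ᵁ U ≤ f1 ⁻¹ᵁ V := by
  intro x hx
  have h1 : (pr ≫ f) x ∈ V := h hx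
  rw [H.tw.w] at h1
  exact h1

/-- Compatibility of the constants with `w`. -/
theorem gw_const {U : X.Opens} {V : S.Opens} (h : U ≤ f ⁻¹ᵁ V) (r : Γ(S, V)) :
    gw pr U ((f.appLE V U h).hom r) = ((f1.appLE V (pr ⁻¹ᵁ U) (le_f1 H h)).hom r) ^ p := by
  have e1 : pr ⁻¹ᵁ U ≤ (pr ≫ f) ⁻¹ᵁ V := by
    intro x hx
    exact h hx
  have h1 := appLE_appLE pr f h (le_rfl : pr ⁻¹ᵁ U ≤ pr ⁻¹ᵁ U) e1 r
  refine h1.trans ?_
  have e2 : pr ⁻¹ᵁ U ≤ (f1 ≫ FrobSch.frob S p) ⁻¹ᵁ V := le_f1 H h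
  refine (appLE_eq H.tw.w e1 e2 r).trans ?_
  have h2 := appLE_appLE f1 (FrobSch.frob S p) (le_rfl : V ≤ (FrobSch.frob S p) ⁻¹ᵁ V) (le_f1 H h) e2 r
  refine h2.symm.trans ?_
  refine (congrArg _ (frob_appLE' (p := p) (le_rfl : V ≤ (FrobSch.frob S p) ⁻¹ᵁ V) r)).trans ?_
  exact map_pow _ _ _

theorem gF_const {U : X.Opens} {V : S.Opens} (h : U ≤ f ⁻¹ᵁ V) (r : Γ(S, V)) :
    gF H U ((f1.appLE V (pr ⁻¹ᵁ U) (le_f1 H h)).hom r) = (f.appLE V U h).hom r := by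
  have e1 : U ≤ (F ≫ f1) ⁻¹ᵁ V := by
    rw [H.F2]; exact h
  exact (appLE_appLE F f1 (le_f1 H h) (le_F H U) e1 r).trans (appLE_eq H.F2 e1 h r)

theorem gθ_const {U : X.Opens} {W : St.Opens} (h1 : up H.hi (pr ⁻¹ᵁ U) ≤ gt ⁻¹ᵁ W) (h2 : pr ⁻¹ᵁ U ≤ f1 ⁻¹ᵁ (iS ⁻¹ᵁ W))
    (r : Γ(St, W)) : gθ H U ((gt.appLE W _ h1).hom r) = (f1.appLE (iS ⁻¹ᵁ W) (pr ⁻¹ᵁ U) h2).hom ((iS.app W).hom r) := by
  have e1 : pr ⁻¹ᵁ U ≤ (iX ≫ gt) ⁻¹ᵁ W := (le_preimage_up H.hi _).trans fun x hx => h1 hx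
  have e2 : pr ⁻¹ᵁ U ≤ (f1 ≫ iS) ⁻¹ᵁ W := h2
  refine (appLE_appLE iX gt h1 (le_preimage_up H.hi _) e1 r).trans ?_
  refine (appLE_eq H.w e1 e2 r).trans ?_
  have h3 := appLE_appLE f1 iS (le_rfl : iS ⁻¹ᵁ W ≤ iS ⁻¹ᵁ W) h2 e2 r
  refine h3.symm.trans ?_
  rw [Scheme.Hom.appLE_eq_app]

/-- The data over `U`. -/
noncomputable def gd (U : X.Opens) : GDat p Γ(Xt, up H.hi (pr ⁻¹ᵁ U)) Γ(X1, pr ⁻¹ᵁ U) Γ(X, U) where
  θ := gθ H U
  w := gw pr U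
  F := gF H U
  hF := gF_gw H U
  C := CC H U
  hC c hc := by
    obtain ⟨W, h1, h2, r, rfl⟩ := hc
    rw [gw_const H h2, gθ_const H h1 (le_f1 H h2)]

theorem pre_mono (pr : X1 ⟶ X) {U V : X.Opens} (h : V ≤ U) : pr ⁻¹ᵁ V ≤ pr ⁻¹ᵁ U := fun _ hx => h hx

/-- Restriction. -/
noncomputable def gm {U V : X.Opens} (h : V ≤ U) : GMor (gd H U) (gd H V) where
  ft := (Xt.presheaf.map (homOfLE (up_mono H.hi (pre_mono pr h))).op).hom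
  f1 := (X1.presheaf.map (homOfLE (pre_mono pr h)).op).hom
  f := rO h
  θ x := (res_appLE iX (le_preimage_up H.hi (pr ⁻¹ᵁ U)) (le_preimage_up H.hi (pr ⁻¹ᵁ V))
    (up_mono H.hi (pre_mono pr h)) (pre_mono pr h) x).symm
  w x := (res_appLE pr le_rfl le_rfl h (pre_mono pr h) x).symm
  F x := (res_appLE F (le_F H U) (le_F H V) (pre_mono pr h) h x).symm
  C c hc := by
    obtain ⟨W, h1, h2, r, rfl⟩ := hc
    refine ⟨W, (up_mono H.hi (pre_mono pr h)).trans h1, h.trans h2, r, Prod.ext ?_ ?_⟩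
    · exact congr($(Scheme.Hom.appLE_map gt h1 (homOfLE (up_mono H.hi (pre_mono pr h))).op).hom r)
    · exact congr($(Scheme.Hom.appLE_map f h2 (homOfLE h).op).hom ((iS.app W).hom r))

theorem map_homOfLE_comp {Y : Scheme.{u}} {U V W : Y.Opens} (h : V ≤ U) (h' : W ≤ V) (h'' : W ≤ U) (x : Γ(Y, U)) :
    (Y.presheaf.map (homOfLE h').op).hom ((Y.presheaf.map (homOfLE h).op).hom x) =
      (Y.presheaf.map (homOfLE h'').op).hom x := by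
  have h2 : (homOfLE h'') = homOfLE h' ≫ homOfLE h := rfl
  rw [h2, op_comp, Y.presheaf.map_comp]
  rfl

/-- The presheaf of data. -/
noncomputable def sys : Sys.{u} p (X.Opens)ᵒᵖ where
  P U := CommRingCat.of (P (gd H U.unop))
  A1 U := Γ(X1, pr ⁻¹ᵁ U.unop)
  A U := Γ(X, U.unop)
  D U := dat (gd H U.unop)
  m {U V} g := mor (gm H g.unop.le)
  id0 U a := by
    refine Subtype.ext (Prod.ext ?_ ?_)
    · exact map_homOfLE_id _ a.1.1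
    · exact map_homOfLE_id _ a.1.2
  id1 U a := map_homOfLE_id _ a
  id2 U a := map_homOfLE_id _ a
  comp0 g h a := by
    refine Subtype.ext (Prod.ext ?_ ?_)
    · exact map_homOfLE_comp _ _ _ a.1.1
    · exact map_homOfLE_comp _ _ _ a.1.2
  comp1 g h a := map_homOfLE_comp _ _ _ a
  comp2 g h a := map_homOfLE_comp _ _ _ a

include H in
theorem pz (U : X.Opens) : PZ p Γ(X, U) := ⟨FrobSch.natCast_eq_zero_app X p U⟩

end K224.RelGD
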