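import Groth.Agent.DelIll.K224.RelPhi
import Groth.Agent.DelIll.K224.RelCartier
import Groth.Agent.DelIll.K905.TotLocal

/-!
# Local theorem (relative version): the Koszul complexes compute the de Rham cohomology in one degree
-/

set_option autoImplicit false
set_option linter.unusedSectionVars false

open ExteriorAlgebra K904 K905 Module K224.RelM K224.RelPhi K224.RelCartier
open K905.TotM (PZ)

namespace K224.RelLocal

section lam

variable {p : ℕ} [hp : Fact p.Prime] {P A1 A : Type*} [CommRing P] [CommRing A1] [CommRing A] (D : Dat p P A1 A)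

/-- The function attached to a lifting of Frobenius. -/
structure IsLam (lam : P → A) : Prop where
  add : ∀ a b, lam (a + b) = lam a + lam b - Cross.c p (D.α a) (D.α b)
  mul : ∀ a b, lam (a * b) = D.α a ^ p * lam b + D.α b ^ p * lam a
  rel : ∀ a s, (a, s) ∈ D.Rel → lam a = s

variable {D} {lam : P → A} (h : IsLam D lam)

/-- The retraction. -/
noncomputable def ρ : T D →ₗ[A1] Fr D :=
  lift D (RingHom.id A1) (fun a => -toFr D (lam a)) (AddMonoidHom.id _) (fun _ _ => rfl)
    (fun a b => by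
      rw [h.add, map_sub, map_add, AddMonoidHom.id_apply]
      abel)
    (fun a b => by
      rw [h.mul, RingHom.id_apply, RingHom.id_apply, smul_neg, smul_neg,
        smul_toFr, smul_toFr, map_add, D.hF, D.hF]
      abel)
    (fun a t hat => by rw [h.rel a t hat, AddMonoidHom.id_apply, neg_add_cancel])

theorem ρ_io (s : Fr D) : ρ h (io D s) = s := lift_io _ _ _ _ _ _ _ _ _

theorem ρ_br (a : P) : ρ h (br D a) = -toFr D (lam a) := lift_br _ _ _ _ _ _ _ _ _

end lam

/-- The charts. -/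
structure Chart {p : ℕ} [hp : Fact p.Prime] {P A1 A : Type*} [CommRing P] [CommRing A1] [CommRing A]
    (D : Dat p P A1 A) [PZ p A] {L : Type*} [AddCommGroup L] [Module A L] (δ : A →+ L)
    {J : Type*} [LinearOrder J] [Fintype J] (e : Basis J A L) (xt : J → P) (lam : P → A) : Prop where
  char : CharP A1 p
  chart : RChart p D.F (fun j => D.α (xt j)) δ e
  der : IsDer D δ
  lam : IsLam D lam
  gen : ∀ m : T D, ∃ (v : J → A1) (s : Fr D), m = ∑ j, v j • br D (xt j) + io D s

variable {p : ℕ} [hp : Fact p.Prime] {P A1 A : Type*} [CommRing P] [CommRing A1] [CommRing A]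
  {D : Dat p P A1 A} [PZ p A] {L : Type*} [AddCommGroup L] [Module A L] {δ : A →+ L}
  {J : Type*} [LinearOrder J] [Fintype J] {e : Basis J A L} {xt : J → P} {lam : P → A}
  (h : Chart D δ e xt lam)

/-! ### Coordinates -/

section coord

variable {x : J → A} (hx : IsRPB p D.F x)

variable (D) in
/-- The linear map of coordinates. -/
noncomputable def lc (x : J → A) : ((J → ZMod p) → A1) →ₗ[A1] Fr D :=
  Fintype.linearCombination A1 (fun a : J → ZMod p => toFr D (LocalCartier.mon x (fun j => (a j).val)))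

theorem lc_apply (x : J → A) (β : (J → ZMod p) → A1) :
    lc D x β = toFr D (∑ a, D.F (β a) * LocalCartier.mon x (fun j => (a j).val)) := by
  rw [lc, Fintype.linearCombination_apply, map_sum]
  exact Finset.sum_congr rfl fun a _ => smul_toFr D _ _

include hx in
theorem lc_bijective : Function.Bijective (lc D x) := by
  have : (lc D x : ((J → ZMod p) → A1) → Fr D) = (toFr D) ∘
      (fun β : (J → ZMod p) → A1 => ∑ a, D.F (β a) * LocalCartier.mon x (fun j => (a j).val)) := by
    funext β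
    exact lc_apply x β
  rw [this]
  exact (toFr D).bijective.comp hx

/-- The basis of `Fr D`. -/
noncomputable def bF : Basis (J → ZMod p) A1 (Fr D) :=
  Basis.ofEquivFun (LinearEquiv.ofBijective (lc D x) (lc_bijective hx)).symm

/-- The coordinates. -/
noncomputable def ε {lam : P → A} (hl : IsLam D lam) (a : J → ZMod p) : Module.Dual A1 (T D) :=
  ((bF hx).coord a).comp (ρ hl)

theorem coord {lam : P → A} (hl : IsLam D lam) : Kos.Coord (io D) (bF hx) (ε hx hl) where
  span_e s := (bF hx).mem_span s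
  dual i j := by
    classical
    rw [ε, LinearMap.comp_apply, ρ_io, Basis.coord_apply, Basis.repr_self]
    by_cases hij : i = j
    · subst hij
      rw [Finsupp.single_eq_same, if_pos rfl]
    · rw [Finsupp.single_apply, if_neg (fun h => hij h.symm), if_neg hij]
  span_M m := by
    have hm : m = (m - io D (ρ hl m)) + io D (ρ hl m) := by abel
    rw [hm]
    refine Submodule.add_mem _ (Submodule.subset_span (Or.inr fun l => ?_)) ?_
    · rw [ε, LinearMap.comp_apply, map_sub, ρ_io, sub_self, map_zero]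
    · generalize ρ hl m = s
      induction (bF hx).mem_span s using Submodule.span_induction with
      | mem y hy =>
        obtain ⟨l, rfl⟩ := hy
        exact Submodule.subset_span (Or.inl ⟨l, rfl⟩)
      | zero => rw [map_zero]; exact Submodule.zero_mem _
      | add a b _ _ ha hb => rw [map_add]; exact Submodule.add_mem _ ha hb
      | smul c a _ ha => rw [map_smul]; exact Submodule.smul_mem _ _ ha

end coord

include h in
/-- **Local exactness.** -/
theorem exact {j i : ℕ} (hij : i < j) (hw : j - i + 1 < p ∨ j < p) {z : Kos.KK A1 (Fr D) (T D)}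
    (hz : z ∈ Kos.P A1 (Fr D) (T D) j i) (hκ : Kos.κ (io D) z = 0) :
    ∃ y ∈ Kos.Pp A1 (Fr D) (T D) j i, Kos.κ (io D) y = z :=
  have := h.char
  Kos.exact p (CharP.cast_eq_zero A1 p) (coord h.chart.pbasis h.lam) hij hw hz hκ

/-! ### The top degree -/

variable (D xt) in
/-- The section. -/
noncomputable def σ : (J → A1) →ₗ[A1] T D := Fintype.linearCombination A1 (fun j => br D (xt j))

theorem σ_apply (v : J → A1) : σ D xt v = ∑ j, v j • br D (xt j) := Fintype.linearCombination_apply _ _ _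

include h in
theorem φ_σ (v : J → A1) : φ D h.der (σ D xt v) = fadd p D.F (fun j => D.α (xt j)) e v := by
  rw [σ_apply, map_sum]
  refine Finset.sum_congr rfl fun j _ => ?_
  rw [φ_smul, φ_br, h.chart.ex]

include h in
theorem FF_σ (ω : ExteriorAlgebra A1 (J → A1)) :
    FF D h.der (ExteriorAlgebra.map (σ D xt) ω) = c0 p D.F (fun j => D.α (xt j)) e ω := by
  have : (FF D h.der).comp (ExteriorAlgebra.map (σ D xt)).toRingHom =
      c0 p D.F (fun j => D.α (xt j)) e := by
    refine Semi.ringHom_ext (fun a => ?_) (fun m => ?_)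
    · change FF D h.der (ExteriorAlgebra.map (σ D xt) (algebraMap A1 _ a)) = _
      rw [AlgHom.commutes, FF_algebraMap, c0_algebraMap]
    · change FF D h.der (ExteriorAlgebra.map (σ D xt) (ι A1 m)) = _
      rw [ExteriorAlgebra.map_apply_ι, FF_ι, c0_ι, φ_σ h]
  exact RingHom.congr_fun this ω

variable (L) in
/-- The exterior powers of degree `j - 1`. -/
def prevL (A : Type*) (L : Type*) [CommRing A] [AddCommGroup L] [Module A L] : ℕ → Submodule A (ExteriorAlgebra A L)
  | 0 => ⊥
  | n + 1 => ⋀[A]^n L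

theorem A_E_mem {j i : ℕ} (m : T D) {z : Kos.KK A1 (Fr D) (T D)} (hz : z ∈ Kos.P A1 (Fr D) (T D) j i) :
    Kos.A (Ext.E m) z ∈ Kos.P A1 (Fr D) (T D) (j + 1) (i + 1) := by
  refine Kos.map_P_le _ _ (fun t ω ht hω => ?_) hz
  rw [Kos.A_mk]
  exact Kos.mk_mem_P _ _ (by omega) (Ext.E_mem m i ω hω)

theorem A_E_mem' {j : ℕ} (m : T D) {z : Kos.KK A1 (Fr D) (T D)} (hz : z ∈ Kos.Pp A1 (Fr D) (T D) j j) :
    Kos.A (Ext.E m) z ∈ Kos.Pp A1 (Fr D) (T D) (j + 1) (j + 1) := by
  cases j with
  | zero =>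
    rw [show z = 0 from hz, map_zero]
    exact AddSubgroup.zero_mem _
  | succ i => exact A_E_mem m hz

include h in
theorem exists_sub (j : ℕ) {ω : ExteriorAlgebra A1 (T D)} (hω : ω ∈ ⋀[A1]^j (T D)) :
    ∃ ω' ∈ ⋀[A1]^j (J → A1), ∃ y ∈ Kos.Pp A1 (Fr D) (T D) j j, Kos.κ (io D) y =
      Kos.mk 0 (ω - ExteriorAlgebra.map (σ D xt) ω') := by
  induction j generalizing ω with
  | zero =>
    rw [exteriorPower, pow_zero, Submodule.mem_one] at hω
    obtain ⟨a, rfl⟩ := hω
    refine ⟨algebraMap A1 _ a, ?_, 0, AddSubgroup.zero_mem _, ?_⟩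
    · rw [exteriorPower, pow_zero, Submodule.mem_one]
      exact ⟨a, rfl⟩
    · rw [map_zero, AlgHom.commutes, sub_self, Kos.mk_zero]
  | succ j ih =>
    rw [exteriorPower, pow_succ'] at hω
    induction hω using Submodule.mul_induction_on' with
    | mem_mul_mem v hv ω' hω' =>
      obtain ⟨v, rfl⟩ := hv
      obtain ⟨ω'', hω'', y, hy, hy2⟩ := ih hω'
      obtain ⟨v', s, hs⟩ := h.gen v
      rw [← σ_apply] at hs
      refine ⟨ι A1 v' * ω'', ?_, Kos.mk {s} ω' - Kos.A (Ext.E (σ D xt v')) y,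
        AddSubgroup.sub_mem _ (Kos.mk_mem_P _ _ (by rw [Multiset.card_singleton, add_comm]) hω') (A_E_mem' _ hy), ?_⟩
      · rw [exteriorPower, pow_succ']
        exact Submodule.mul_mem_mul ⟨v', rfl⟩ hω''
      · rw [map_sub, Kos.κ_E, hy2, Kos.κ_mk, ← Multiset.cons_zero, Kos.κ₀_cons, Kos.κ₀_zero, map_zero, add_zero,
          Kos.A_mk, sub_neg_eq_add, ← Kos.mk_add, Ext.E_apply, map_mul, ExteriorAlgebra.map_apply_ι]
        congr 1
        rw [hs, map_add]
        noncomm_ring
    | add x _ y _ hx hy =>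
      obtain ⟨a, ha, u, hu, hu2⟩ := hx
      obtain ⟨b, hb, w, hw, hw2⟩ := hy
      refine ⟨a + b, Submodule.add_mem _ ha hb, u + w, AddSubgroup.add_mem _ hu hw, ?_⟩
      rw [map_add, hu2, hw2, ← Kos.mk_add, map_add]
      congr 1
      abel

theorem exists_of_mem_top {j : ℕ} {z : Kos.KK A1 (Fr D) (T D)} (hz : z ∈ Kos.P A1 (Fr D) (T D) j j) :
    ∃ ω ∈ ⋀[A1]^j (T D), z = Kos.mk 0 ω := by
  induction hz using AddSubgroup.closure_induction with
  | mem z hz =>
    obtain ⟨t, ω, ht, hω, rfl⟩ := hz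
    obtain rfl : t = 0 := Multiset.card_eq_zero.1 (by omega)
    exact ⟨ω, hω, rfl⟩
  | zero => exact ⟨0, Submodule.zero_mem _, by rw [Kos.mk_zero]⟩
  | add x y _ _ hx hy =>
    obtain ⟨a, ha, rfl⟩ := hx
    obtain ⟨b, hb, rfl⟩ := hy
    exact ⟨a + b, Submodule.add_mem _ ha hb, by rw [Kos.mk_add]⟩
  | neg x _ hx =>
    obtain ⟨a, ha, rfl⟩ := hx
    exact ⟨-a, Submodule.neg_mem _ ha, by rw [Kos.mk_neg]⟩

theorem map_mem_ext {R M N : Type*} [CommRing R] [AddCommGroup M] [Module R M] [AddCommGroup N] [Module R N]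
    (g : M →ₗ[R] N) {n : ℕ} {ω : ExteriorAlgebra R M} (hω : ω ∈ ⋀[R]^n M) : ExteriorAlgebra.map g ω ∈ ⋀[R]^n N := by
  have hg : ∀ (a : R) (m : M), g.toAddMonoidHom (a • m) = (RingHom.id R) a • g.toAddMonoidHom m :=
    fun a m => map_smul g a m
  have h1 := Semi.extR_mem (RingHom.id R) g.toAddMonoidHom hg n ω hω
  have h2 : (ExteriorAlgebra.map g).toRingHom = Semi.extR (RingHom.id R) g.toAddMonoidHom hg := by
    refine Semi.ringHom_ext (fun a => ?_) (fun m => ?_)
    · exact (AlgHom.commutes _ a).trans (Semi.extR_algebraMap _ _ hg a).symm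
    · exact (ExteriorAlgebra.map_apply_ι g m).trans (Semi.extR_ι _ _ hg m).symm
  rw [← RingHom.congr_fun h2 ω] at h1
  exact h1

include h in
/-- **Top degree.** -/
theorem top (j : ℕ) :
    (∀ y ∈ ⋀[A]^j L, LocalCartier.d δ e y = 0 → ∃ z ∈ Kos.P A1 (Fr D) (T D) j j, ∃ w ∈ prevL A L j,
      y = Φ D h.der z + LocalCartier.d δ e w) ∧
    (∀ z ∈ Kos.P A1 (Fr D) (T D) j j, ∀ w ∈ prevL A L j, Φ D h.der z = LocalCartier.d δ e w →
      ∃ y ∈ Kos.Pp A1 (Fr D) (T D) j j, Kos.κ (io D) y = z) := by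
  have := h.char
  obtain ⟨H, r, h1, h2, h3, h4, -, -, h7, h8, h9⟩ := RelCartier.main h.chart
  have hdr := RelCartier.isDR h.chart
  constructor
  · intro y hy hdy
    have h10 := h1 y
    rw [hdy, map_zero, add_zero] at h10
    refine ⟨Kos.mk 0 (ExteriorAlgebra.map (σ D xt) (r y)), Kos.mk_mem_P _ _ (by simp)
      (map_mem_ext _ (h9 j y hy)), H y, ?_, ?_⟩
    · cases j with
      | zero => exact h8 y hy
      | succ n => exact h7 n y hy
    · rw [Φ_mk, pr_zero, one_smul, FF_σ h, h10]
      abel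
  · intro z hz w hw hzw
    obtain ⟨ω, hω, rfl⟩ := exists_of_mem_top hz
    obtain ⟨ω', hω', y, hy, hy2⟩ := exists_sub h j hω
    have e1 : FF D h.der ω = LocalCartier.d δ e w := by
      rw [← hzw, Φ_mk, pr_zero, one_smul]
    have e2 : FF D h.der (ω - ExteriorAlgebra.map (σ D xt) ω') =
        LocalCartier.d δ e (Φ D h.der y) := by
      rw [d_Φ D h.der hdr, hy2, Φ_mk, pr_zero, one_smul]
    rw [map_sub, e1, FF_σ h] at e2
    have e3 := congrArg r e2
    rw [map_sub, h2, h3, h3, zero_sub, neg_eq_zero] at e3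
    rw [e3, map_zero, sub_zero] at hy2
    exact ⟨y, hy, hy2⟩

end K224.RelLocal
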