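import Groth.Agent.DelIll.K905.TotM

/-!
# The extension attached to a lifting modulo `p²` of the Frobenius twist (relative version)

Data: rings `P`, `A1`, `A`, `α : P → A`, `β : P → A1`, `F : A1 → A` with `F (β x) = (α x) ^ p`, `p = 0` in `A` and
`A1`, a set `Rel ⊆ P × A`.  The `A1`-module `T` is generated by symbols `br x` (`x ∈ P`) and `io s` (`s ∈ A`, `A1`
acting through `F`) with `br (x + y) = br x + br y + io (((a + b) ^ p - a ^ p - b ^ p) / p)`,
`br (x y) = β x • br y + β y • br x` and `br x + io s = 0` for `(x, s) ∈ Rel`.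
-/

set_option autoImplicit false
set_option linter.unusedSectionVars false

open K905 K905.TotM

namespace K224.RelM

universe u

/-- The data. -/
structure Dat (p : ℕ) (P A1 A : Type*) [CommRing P] [CommRing A1] [CommRing A] where
  /-- first projection -/
  α : P →+* A
  /-- second projection -/
  β : P →+* A1
  /-- relative Frobenius -/
  F : A1 →+* A
  hF : ∀ x, F (β x) = α x ^ p
  /-- relations -/
  Rel : Set (P × A)

variable {p : ℕ} [hp : Fact p.Prime] {P A1 A : Type*} [CommRing P] [CommRing A1] [CommRing A] (D : Dat p P A1 A)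

/-- `A`, to be acted on by `A1` through `F`. -/
def Fr (_ : Dat p P A1 A) : Type _ := A

instance : AddCommGroup (Fr D) := inferInstanceAs (AddCommGroup A)

/-- The identity. -/
def toFr : A ≃+ Fr D := AddEquiv.refl A

instance : Module A1 (Fr D) := Module.compHom A D.F

theorem smul_toFr (c : A1) (s : A) : c • toFr D s = toFr D (D.F c * s) := rfl

theorem smul_Fr (c : A1) (s : Fr D) : c • s = toFr D (D.F c * (toFr D).symm s) := rfl

/-! ### The module -/

/-- The relations. -/
noncomputable def relT : Submodule A1 ((P →₀ A1) × Fr D) :=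
  Submodule.span A1
    ({z | ∃ a b : P, z = (Finsupp.single (a + b) 1 - Finsupp.single a 1 - Finsupp.single b 1,
        -toFr D (Cross.c p (D.α a) (D.α b)))} ∪
      {z | ∃ a b : P, z = (Finsupp.single (a * b) 1 - Finsupp.single b (D.β a) - Finsupp.single a (D.β b), 0)} ∪
      {z | ∃ (a : P) (s : A), (a, s) ∈ D.Rel ∧ z = (Finsupp.single a 1, toFr D s)})

/-- The module. -/
def T : Type _ := ((P →₀ A1) × Fr D) ⧸ relT D

noncomputable instance : AddCommGroup (T D) := inferInstanceAs (AddCommGroup (((P →₀ A1) × Fr D) ⧸ relT D))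
noncomputable instance : Module A1 (T D) := inferInstanceAs (Module A1 (((P →₀ A1) × Fr D) ⧸ relT D))

/-- The projection. -/
noncomputable def prj : ((P →₀ A1) × Fr D) →ₗ[A1] T D := (relT D).mkQ

theorem prj_surjective : Function.Surjective (prj D) := (relT D).mkQ_surjective

/-- The symbols. -/
noncomputable def br (a : P) : T D := prj D (Finsupp.single a 1, 0)

/-- The submodule. -/
noncomputable def io : Fr D →ₗ[A1] T D := (prj D).comp (LinearMap.inr A1 (P →₀ A1) (Fr D))

theorem prj_single (a : P) (c : A1) : prj D (Finsupp.single a c, 0) = c • br D a := by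
  rw [br, ← map_smul, Prod.smul_mk, smul_zero, Finsupp.smul_single, smul_eq_mul, mul_one]

theorem prj_inr (s : Fr D) : prj D (0, s) = io D s := rfl

theorem prj_eq_zero {z : (P →₀ A1) × Fr D} (hz : z ∈ relT D) : prj D z = 0 :=
  (Submodule.Quotient.mk_eq_zero _).2 hz

theorem br_add (a b : P) : br D (a + b) = br D a + br D b + io D (toFr D (Cross.c p (D.α a) (D.α b))) := by
  have h := prj_eq_zero D (Submodule.subset_span (Or.inl (Or.inl ⟨a, b, rfl⟩)))
  have h2 : (Finsupp.single (a + b) (1 : A1) - Finsupp.single a 1 - Finsupp.single b 1,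
      -toFr D (Cross.c p (D.α a) (D.α b))) =
      (Finsupp.single (a + b) (1 : A1), (0 : Fr D)) - (Finsupp.single a 1, 0) - (Finsupp.single b 1, 0) -
        (0, toFr D (Cross.c p (D.α a) (D.α b))) := by
    ext <;> simp
  rw [h2, map_sub, map_sub, map_sub, prj_inr] at h
  change br D (a + b) - br D a - br D b - _ = 0 at h
  rw [sub_eq_zero, sub_eq_iff_eq_add, sub_eq_iff_eq_add] at h
  rw [h]
  abel

theorem br_mul (a b : P) : br D (a * b) = D.β a • br D b + D.β b • br D a := by
  have h := prj_eq_zero D (Submodule.subset_span (Or.inl (Or.inr ⟨a, b, rfl⟩)))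
  have h2 : (Finsupp.single (a * b) (1 : A1) - Finsupp.single b (D.β a) - Finsupp.single a (D.β b), (0 : Fr D)) =
      (Finsupp.single (a * b) (1 : A1), (0 : Fr D)) - (Finsupp.single b (D.β a), 0) - (Finsupp.single a (D.β b), 0) := by
    ext <;> simp
  rw [h2, map_sub, map_sub, prj_single, prj_single, prj_single, one_smul] at h
  rw [sub_eq_zero, sub_eq_iff_eq_add] at h
  rw [h, add_comm]

theorem br_rel {a : P} {s : A} (h : (a, s) ∈ D.Rel) : br D a + io D (toFr D s) = 0 := by
  have h1 := prj_eq_zero D (Submodule.subset_span (Or.inr ⟨a, s, h, rfl⟩))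
  have h2 : (Finsupp.single a (1 : A1), toFr D s) = (Finsupp.single a (1 : A1), (0 : Fr D)) + (0, toFr D s) := by
    simp
  rw [h2, map_add, prj_inr] at h1
  exact h1

/-- Induction. -/
theorem induction {Q : T D → Prop} (h1 : ∀ (c : A1) (a : P), Q (c • br D a)) (h2 : ∀ s, Q (io D s))
    (hadd : ∀ x y, Q x → Q y → Q (x + y)) (m : T D) : Q m := by
  obtain ⟨⟨f, s⟩, rfl⟩ := prj_surjective D m
  have h : (f, s) = (f, 0) + ((0, s) : (P →₀ A1) × Fr D) := by simp
  rw [h, map_add]
  refine hadd _ _ ?_ (h2 s)
  have h0 : Q 0 := by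
    have := h2 0
    rwa [map_zero] at this
  induction f using Finsupp.induction_linear with
  | zero => exact (map_zero (prj D)).symm ▸ h0
  | add f g hf hg =>
    have h3 : (f + g, 0) = (f, 0) + ((g, 0) : (P →₀ A1) × Fr D) := by simp
    rw [h3, map_add]
    exact hadd _ _ (hf (by simp)) (hg (by simp))
  | single a c => rw [prj_single]; exact h1 c a

section lift

variable {R' N : Type*} [CommRing R'] [AddCommGroup N] [Module R' N] (σ : A1 →+* R') (g : P → N) (s : Fr D →+ N)
  (hs : ∀ (c : A1) x, s (c • x) = σ c • s x)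
  (h1 : ∀ a b, g (a + b) = g a + g b + s (toFr D (Cross.c p (D.α a) (D.α b))))
  (h2 : ∀ a b, g (a * b) = σ (D.β a) • g b + σ (D.β b) • g a)
  (h3 : ∀ a t, (a, t) ∈ D.Rel → g a + s (toFr D t) = 0)

/-- The semilinear map on the free module. -/
noncomputable def lift₀ : ((P →₀ A1) × Fr D) →ₛₗ[σ] N where
  toFun z := z.1.sum (fun a c => σ c • g a) + s z.2
  map_add' z w := by
    rw [Prod.fst_add, Prod.snd_add, map_add, Finsupp.sum_add_index' (by simp) (by simp [add_smul])]
    abel
  map_smul' c z := by
    rw [Prod.smul_fst, Prod.smul_snd, hs, Finsupp.sum_smul_index (by simp), smul_add, Finsupp.smul_sum]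
    simp only [map_mul, mul_smul]

/-- The universal property, semilinear form. -/
noncomputable def lift : T D →ₛₗ[σ] N :=
  (relT D).liftQ (lift₀ D σ g s hs) (by
    rw [relT, Submodule.span_le]
    rintro z ((⟨a, b, rfl⟩ | ⟨a, b, rfl⟩) | ⟨a, t, ht, rfl⟩)
    · rw [SetLike.mem_coe, LinearMap.mem_ker]
      change (Finsupp.single (a + b) (1 : A1) - Finsupp.single a 1 - Finsupp.single b 1).sum (fun a c => σ c • g a) +
        s (-toFr D (Cross.c p (D.α a) (D.α b))) = 0
      rw [Finsupp.sum_sub_index (by simp [sub_smul]), Finsupp.sum_sub_index (by simp [sub_smul]),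
        Finsupp.sum_single_index (by simp), Finsupp.sum_single_index (by simp), Finsupp.sum_single_index (by simp),
        map_one, one_smul, one_smul, one_smul, h1, map_neg]
      abel
    · rw [SetLike.mem_coe, LinearMap.mem_ker]
      change (Finsupp.single (a * b) (1 : A1) - Finsupp.single b (D.β a) - Finsupp.single a (D.β b)).sum
        (fun a c => σ c • g a) + s 0 = 0
      rw [Finsupp.sum_sub_index (by simp [sub_smul]), Finsupp.sum_sub_index (by simp [sub_smul]),
        Finsupp.sum_single_index (by simp), Finsupp.sum_single_index (by simp), Finsupp.sum_single_index (by simp),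
        map_one, one_smul, h2, map_zero]
      abel
    · rw [SetLike.mem_coe, LinearMap.mem_ker]
      change (Finsupp.single a (1 : A1)).sum (fun a c => σ c • g a) + s (toFr D t) = 0
      rw [Finsupp.sum_single_index (by simp), map_one, one_smul]
      exact h3 a t ht)

@[simp]
theorem lift_br (a : P) : lift D σ g s hs h1 h2 h3 (br D a) = g a := by
  change (Finsupp.single a (1 : A1)).sum (fun a c => σ c • g a) + s 0 = g a
  rw [Finsupp.sum_single_index (by simp), map_one, one_smul, map_zero, add_zero]

@[simp]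
theorem lift_io (x : Fr D) : lift D σ g s hs h1 h2 h3 (io D x) = s x := by
  change (0 : P →₀ A1).sum (fun a c => σ c • g a) + s x = s x
  rw [Finsupp.sum_zero_index, zero_add]

end lift

theorem hom_ext {R' N : Type*} [CommRing R'] [AddCommGroup N] [Module R' N] {f g : T D →+ N} (σ : A1 →+* R')
    (hf : ∀ (c : A1) m, f (c • m) = σ c • f m) (hg : ∀ (c : A1) m, g (c • m) = σ c • g m)
    (h1 : ∀ a, f (br D a) = g (br D a)) (h2 : ∀ s, f (io D s) = g (io D s)) (m : T D) : f m = g m := by
  induction m using induction with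
  | h1 c a => rw [hf, hg, h1]
  | h2 s => exact h2 s
  | hadd x y hx hy => rw [map_add, map_add, hx, hy]

/-! ### Functoriality -/

variable {Q B1 B : Type*} [CommRing Q] [CommRing B1] [CommRing B] (E : Dat p Q B1 B)

/-- A morphism of data. -/
structure Mor where
  /-- on `P` -/
  fP : P →+* Q
  /-- on `A1` -/
  f1 : A1 →+* B1
  /-- on `A` -/
  f : A →+* B
  α : ∀ x, E.α (fP x) = f (D.α x)
  β : ∀ x, E.β (fP x) = f1 (D.β x)
  F : ∀ x, E.F (f1 x) = f (D.F x)
  rel : ∀ x s, (x, s) ∈ D.Rel → (fP x, f s) ∈ E.Rel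

variable {D E} (m : Mor D E)

/-- The map `Fr D → Fr E`. -/
def frMap : Fr D →+ Fr E := m.f.toAddMonoidHom

@[simp] theorem frMap_toFr (s : A) : frMap m (toFr D s) = toFr E (m.f s) := rfl

theorem frMap_smul (c : A1) (x : Fr D) : frMap m (c • x) = m.f1 c • frMap m x := by
  obtain ⟨s, rfl⟩ := (toFr D).surjective x
  rw [smul_toFr, frMap_toFr, frMap_toFr, smul_toFr, map_mul, m.F]

/-- Functoriality. -/
noncomputable def mapT : T D →ₛₗ[m.f1] T E :=
  lift D m.f1 (fun a => br E (m.fP a)) ((io E).toAddMonoidHom.comp (frMap m))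
    (fun c x => by
      change io E (frMap m (c • x)) = m.f1 c • io E (frMap m x)
      rw [frMap_smul, map_smul])
    (fun a b => by
      change br E (m.fP (a + b)) = _ + io E (frMap m _)
      rw [map_add, br_add, frMap_toFr, Cross.map_c, m.α, m.α])
    (fun a b => by rw [map_mul, br_mul, m.β, m.β])
    (fun a t h => by
      change br E (m.fP a) + io E (frMap m _) = 0
      rw [frMap_toFr]
      exact br_rel E (m.rel a t h))

@[simp]
theorem mapT_br (a : P) : mapT m (br D a) = br E (m.fP a) := lift_br _ _ _ _ _ _ _ _ _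

@[simp]
theorem mapT_io (x : Fr D) : mapT m (io D x) = io E (frMap m x) := lift_io _ _ _ _ _ _ _ _ _

theorem mapT_smul (c : A1) (x : T D) : mapT m (c • x) = m.f1 c • mapT m x := LinearMap.map_smulₛₗ _ c x

end K224.RelM
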