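import Groth.Agent.DelIll.K224.RelCov
import Groth.Agent.DelIll.K905.GeoMain

/-!
# The Koszul complexes of sheaves on a relative scheme with a lifting of its twist and their maps to the de Rham complex
-/

set_option autoImplicit false
set_option linter.style.haveILetI false
set_option linter.unusedSectionVars false
universe u

open CategoryTheory CategoryTheory.Limits AlgebraicGeometry Opposite TopologicalSpace K904 K905
open K905.GeoUp K905.GeoPhi K905.SheafKos K224.RelM K224.RelPhi K224.RelGeom K224.RelSys K224.RelGD K224.RelCov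
open K905.TotM (PZ)
open K905.TotPhi (IsDR)

namespace K224.RelMain

variable {X X1 S Xt St : Scheme.{u}} {p : ℕ} [hp : Fact p.Prime] [FrobSch.IsCharP S p] [FrobSch.IsCharP X p]
    {f : X ⟶ S} {pr : X1 ⟶ X}
    {f1 : X1 ⟶ S} {F : X ⟶ X1} {iX : X1 ⟶ Xt} {gt : Xt ⟶ St} {iS : S ⟶ St}
    {Ω' : X.Modules} {δ : OmegaSh.Der f Ω'} (D : DeRhamSh.Cx f Ω' δ)
    (H : IsGeo p f pr f1 F iX gt iS)

/-- `Φ` on sections. -/
noncomputable def PhiV {V : X.Opens} (hV : IsCh H δ V) (j m : ℕ) (z : PU (sys H) j m (op V)) :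
    ↥(⋀[Γ(X, V)]^m Γ(Ω', V)) :=
  letI := pz H V
  have hδ : IsDer (dat (gd H V)) (δ.app V) := hV.chart.choose_spec.choose_spec.choose_spec.choose_spec.der
  ⟨Φ (dat (gd H V)) hδ z.1, Φ_mem _ hδ z.2⟩

theorem PhiV_val {V : X.Opens} (hV : IsCh H δ V) (hδ : IsDer (dat (gd H V)) (δ.app V)) (j m : ℕ)
    (z : PU (sys H) j m (op V)) :
    (PhiV H hV j m z).1 = (letI := pz H V; Φ (dat (gd H V)) hδ z.1) := rfl

theorem PhiV_add {V : X.Opens} (hV : IsCh H δ V) (j m : ℕ) (z w : PU (sys H) j m (op V)) :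
    PhiV H hV j m (z + w) = PhiV H hV j m z + PhiV H hV j m w := by
  letI := pz H V
  have hδ : IsDer (dat (gd H V)) (δ.app V) := hV.chart.choose_spec.choose_spec.choose_spec.choose_spec.der
  exact Subtype.ext (map_add (Φ (dat (gd H V)) hδ) z.1 w.1)

theorem PhiV_res {U V : X.Opens} (hU : IsCh H δ U) (hV : IsCh H δ V) (h : V ≤ U) (j m : ℕ)
    (z : PU (sys H) j m (op U)) :
    (PhiV H hV j m ⟨resK (sys H) (homOfLE h).op z.1, resK_mem _ _ z.2⟩).1 =
      Semi.extR (rO h) (rM Ω' h) (rM_smul Ω' h) (PhiV H hU j m z).1 := by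
  letI := pz H V
  letI := pz H U
  have hδU : IsDer (dat (gd H U)) (δ.app U) := hU.chart.choose_spec.choose_spec.choose_spec.choose_spec.der
  have hδV : IsDer (dat (gd H V)) (δ.app V) := hV.chart.choose_spec.choose_spec.choose_spec.choose_spec.der
  exact (extR_Φ (dat (gd H U)) hδU (mor (gm H h)) hδV (rM Ω' h) (rM_smul Ω' h) (rM_δ h) z.1).symm

/-- `PhiV` as a homomorphism. -/
noncomputable def PhiH {V : X.Opens} (hV : IsCh H δ V) (j m : ℕ) :
    PU (sys H) j m (op V) →+ ↥(⋀[Γ(X, V)]^m Γ(Ω', V)) :=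
  AddMonoidHom.mk' (PhiV H hV j m) (PhiV_add H hV j m)

/-- The set of chart opens. -/
def chs (δ : OmegaSh.Der f Ω') : Set (Opens X) := {V | IsCh H δ V}

theorem span_of {V : X.Opens} {n : ℕ} {e : Module.Basis (Fin n) Γ(X, V) Γ(Ω', V)} {y : Fin n → Γ(X, V)}
    (he : ∀ l, δ.app V (y l) = e l) (m : Γ(Ω', V)) : m ∈ Submodule.span Γ(X, V) (Set.range (δ.app V)) := by
  refine Submodule.span_mono ?_ (e.mem_span m)
  rintro _ ⟨l, rfl⟩
  exact ⟨_, he l⟩

/-- The data on the basis. -/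
noncomputable def bm (j : ℕ) : BasisMap (chs H δ) (PC (sys H) j) D.K where
  φ m V := (sec D m ⟨V.1, V.2.aff⟩).toAddMonoidHom.comp (PhiH H V.2 j m)
  nat m V W g z := by
    have h : W.1 ≤ V.1 := g.le
    have hg : g = homOfLE h := Subsingleton.elim _ _
    subst hg
    refine Eq.trans ?_ (sec_res D m ⟨V.1, V.2.aff⟩ ⟨W.1, W.2.aff⟩ h (PhiV H V.2 j m z)).symm
    change sec D m ⟨W.1, _⟩ _ = sec D m ⟨W.1, _⟩ _
    congr 1
    exact Subtype.ext (PhiV_res H V.2 W.2 h j m z)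
  comm m V z := by
    letI := pz H V.1
    obtain ⟨n, e, xt, lam, hc⟩ := V.2.chart
    have hchar := hc.char
    have hdr := RelCartier.isDR hc.chart
    refine Eq.trans ?_ (sec_d D m ⟨V.1, V.2.aff⟩ hdr (span_of hc.chart.ex) (PhiV H V.2 j m z)).symm
    have h1 : (PC (sys H) j).d m (m + 1) = dd (sys H) j m := PC_d _ _ _
    rw [h1]
    change sec D (m + 1) ⟨V.1, V.2.aff⟩ _ = sec D (m + 1) ⟨V.1, V.2.aff⟩ _
    congr 1
    exact Subtype.ext (d_Φ (dat (gd H V.1)) hc.der hdr z.1).symm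

/-- Exactness. -/
theorem exactAt (hcov : ∀ (U : Opens X) (x : X), x ∈ U → ∃ V ∈ chs H δ, x ∈ V ∧ V ≤ U) (j m : ℕ) (hmj : m ≠ j)
    (hw : j < m ∨ j - m + 1 < p ∨ j < p) : (shC (PC (sys H) j)).ExactAt m := by
  refine SheafKos.exactAt m hcov ?_
  intro V hV x hx
  rw [PC_d] at hx
  rcases lt_or_gt_of_ne hmj with h | h
  · letI := pz H V
    obtain ⟨n, e, xt, lam, hc⟩ := hV.chart
    obtain ⟨y, hy, hy2⟩ := RelLocal.exact hc (j := j) (i := m) h (by omega) x.2 (congrArg Subtype.val hx)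
    cases m with
    | zero =>
      refine ⟨0, ?_⟩
      rw [map_zero]
      rw [show y = 0 from hy, map_zero] at hy2
      exact Subtype.ext hy2
    | succ m =>
      have hp : (ComplexShape.up ℕ).prev (m + 1) = m := CochainComplex.prev_nat_succ m
      rw [hp]
      refine ⟨⟨y, hy⟩, ?_⟩
      rw [PC_d]
      exact Subtype.ext hy2
  · refine ⟨0, ?_⟩
    rw [map_zero]
    exact Subtype.ext (GeoMain.P_eq_zero h x.2).symm

/-- Quasi-isomorphism in the top degree. -/
theorem quasiIsoAt (hcov : ∀ (U : Opens X) (x : X), x ∈ U → ∃ V ∈ chs H δ, x ∈ V ∧ V ≤ U) (j : ℕ) :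
    QuasiIsoAt (shHom hcov (bm D H j)) j := by
  refine SheafKos.quasiIsoAt hcov (bm D H j) j ?_ ?_
  · intro V y hy
    letI := pz H V.1
    obtain ⟨n, e, xt, lam, hc⟩ := V.2.chart
    have hchar := hc.char
    have hdr := RelCartier.isDR hc.chart
    have hspan := span_of hc.chart.ex
    obtain ⟨Y, rfl⟩ := (sec D j ⟨V.1, V.2.aff⟩).surjective y
    have h1 := sec_d D j ⟨V.1, V.2.aff⟩ hdr hspan Y
    have h2 : LocalCartier.d (δ.app V.1) e Y.1 = 0 := by
      have h3 := (sec D (j + 1) ⟨V.1, V.2.aff⟩).map_eq_zero_iff.1 (h1.symm.trans hy)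
      exact congrArg Subtype.val h3
    obtain ⟨z, hz, w, hw, hyw⟩ := (RelLocal.top hc j).1 Y.1 Y.2 h2
    refine ⟨⟨z, hz⟩, ?_, ?_⟩
    · rw [PC_d]
      exact Subtype.ext (GeoMain.P_eq_zero (Nat.lt_succ_self j) (Kos.κ_mem _ hz))
    · cases j with
      | zero =>
        refine ⟨0, ?_⟩
        rw [map_zero, add_zero]
        rw [show w = 0 from hw, map_zero, add_zero] at hyw
        change sec D 0 ⟨V.1, _⟩ Y = sec D 0 ⟨V.1, _⟩ _
        congr 1
        exact Subtype.ext hyw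
      | succ m =>
        have hprev : (ComplexShape.up ℕ).prev (m + 1) = m := CochainComplex.prev_nat_succ m
        rw [hprev]
        refine ⟨sec D m ⟨V.1, V.2.aff⟩ ⟨w, hw⟩, ?_⟩
        have h3 := sec_d D m ⟨V.1, V.2.aff⟩ hdr hspan ⟨w, hw⟩
        refine Eq.trans ?_ (congrArg₂ (· + ·) rfl h3.symm)
        change sec D (m + 1) ⟨V.1, _⟩ Y = sec D (m + 1) ⟨V.1, _⟩ _ + sec D (m + 1) ⟨V.1, _⟩ _
        rw [← map_add]
        congr 1
        exact Subtype.ext hyw
  · intro V x hx b hb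
    letI := pz H V.1
    obtain ⟨n, e, xt, lam, hc⟩ := V.2.chart
    have hchar := hc.char
    have hdr := RelCartier.isDR hc.chart
    have hspan := span_of hc.chart.ex
    cases j with
    | zero =>
      rw [D.K.shape _ _ (by simp)] at hb
      have h0 : (PhiV H V.2 0 0 x).1 = 0 := by
        have h3 := (sec D 0 ⟨V.1, V.2.aff⟩).map_eq_zero_iff.1 hb
        exact congrArg Subtype.val h3
      obtain ⟨y, hy, hy2⟩ := (RelLocal.top hc 0).2 x.1 x.2 0 (Submodule.zero_mem _) (by rw [map_zero]; exact h0)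
      refine ⟨0, ?_⟩
      rw [map_zero]
      rw [show y = 0 from hy, map_zero] at hy2
      exact Subtype.ext hy2
    | succ m =>
      have hprev : (ComplexShape.up ℕ).prev (m + 1) = m := CochainComplex.prev_nat_succ m
      generalize (ComplexShape.up ℕ).prev (m + 1) = q at b hb hprev ⊢
      subst hprev
      obtain ⟨B, rfl⟩ := (sec D q ⟨V.1, V.2.aff⟩).surjective b
      have h3 := hb.trans (sec_d D q ⟨V.1, V.2.aff⟩ hdr hspan B)
      have h4 : (PhiV H V.2 (q + 1) (q + 1) x).1 = LocalCartier.d (δ.app V.1) e B.1 := by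
        have h5 := (sec D (q + 1) ⟨V.1, V.2.aff⟩).injective h3
        exact congrArg Subtype.val h5
      obtain ⟨y, hy, hy2⟩ := (RelLocal.top hc (q + 1)).2 x.1 x.2 B.1 B.2 h4
      refine ⟨⟨y, hy⟩, ?_⟩
      rw [PC_d]
      exact Subtype.ext hy2

/-- **Decomposition** of windows of the relative de Rham complex, given charts. -/
theorem decomp (hcov : ∀ (U : Opens X) (x : X), x ∈ U → ∃ V ∈ chs H δ, x ∈ V ∧ V ≤ U)
    [HasDerivedCategory.{u} (Sheaf (Opens.grothendieckTopology ↥X) AddCommGrpCat.{u})]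
    (a b : ℤ) (hab : b + 2 ≤ a + p ∨ b < p) :
    Nonempty ((DerivedCategory.TStructure.t.truncGELE a b).obj (DerivedCategory.Q.obj D.KZ) ≅
      ⨁ (fun j : Finset.Icc a b =>
        (DerivedCategory.singleFunctor (Sheaf (Opens.grothendieckTopology ↥X) AddCommGrpCat.{u}) j.1).obj
          (D.KZ.homology j.1))) := by
  refine Decomp.complex D.K a b fun j haj hjb => ?_
  refine ⟨shC (PC (sys H) j), shHom hcov (bm D H j), fun m ham hmj => ?_, quasiIsoAt D H hcov j⟩
  exact exactAt H hcov j m hmj (by omega)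

end K224.RelMain
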