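import Groth.Agent.DelIll.K224.RelM
import Groth.Agent.DelIll.K905.TotPhi

/-!
# The map from the Koszul complex of `Fr D → T D` to the de Rham complex
-/

set_option autoImplicit false
set_option linter.unusedSectionVars false

open ExteriorAlgebra K904 K905 K224.RelM
open K905.TotM (PZ)

namespace K224.RelPhi

variable {p : ℕ} [hp : Fact p.Prime] {P A1 A : Type*} [CommRing P] [CommRing A1] [CommRing A] (D : Dat p P A1 A)
  [PZ p A]

/-- Compatible derivations. -/
structure IsDer {L : Type*} [AddCommGroup L] [Module A L] (δ : A →+ L) : Prop where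
  leib : ∀ a b, δ (a * b) = a • δ b + b • δ a
  const : ∀ c : A1, δ (D.F c) = 0
  rel : ∀ x s, (x, s) ∈ D.Rel → D.α x ^ (p - 1) • δ (D.α x) + δ s = 0

variable {L : Type*} [AddCommGroup L] [Module A L] {δ : A →+ L} (hδ : IsDer D δ)

/-- `δ` on `Fr D`. -/
def δF (δ : A →+ L) : Fr D →+ L := δ

omit [PZ p A] in
@[simp] theorem δF_toFr (s : A) : δF D δ (toFr D s) = δ s := rfl

/-- The map `φ : T D → L`, semilinear, `br a ↦ a ^ (p - 1) δ a`, `io s ↦ δ s`. -/
noncomputable def φ : T D →ₛₗ[D.F] L :=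
  lift D D.F (fun a => D.α a ^ (p - 1) • δ (D.α a)) (δF D δ)
    (fun c x => by
      obtain ⟨s, rfl⟩ := (toFr D).surjective x
      rw [smul_toFr, δF_toFr, δF_toFr, hδ.leib, hδ.const, smul_zero, add_zero])
    (fun a b => by
      rw [δF_toFr, Cross.δ_c hp.1 δ hδ.leib, map_add]
      abel)
    (fun a b => by
      have hq : ∀ x : A, x ^ p = x ^ (p - 1) * x := fun x => by
        rw [← pow_succ, Nat.sub_add_cancel hp.1.one_le]
      rw [map_mul, hδ.leib, smul_add, D.hF, D.hF, smul_smul, smul_smul, smul_smul, smul_smul, hq, hq, mul_pow]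
      congr 2 <;> ring)
    (fun a t h => hδ.rel a t h)

@[simp] theorem φ_br (a : P) : φ D hδ (br D a) = D.α a ^ (p - 1) • δ (D.α a) := lift_br _ _ _ _ _ _ _ _ _
@[simp] theorem φ_io (s : Fr D) : φ D hδ (io D s) = δF D δ s := lift_io _ _ _ _ _ _ _ _ _
theorem φ_smul (c : A1) (m : T D) : φ D hδ (c • m) = D.F c • φ D hδ m := LinearMap.map_smulₛₗ _ c m

/-- The ring homomorphism on exterior algebras. -/
noncomputable def FF : ExteriorAlgebra A1 (T D) →+* ExteriorAlgebra A L :=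
  Semi.extR D.F (φ D hδ).toAddMonoidHom (φ_smul D hδ)

@[simp] theorem FF_ι (m : T D) : FF D hδ (ι A1 m) = ι A (φ D hδ m) := Semi.extR_ι _ _ _ _
@[simp] theorem FF_algebraMap (a : A1) : FF D hδ (algebraMap A1 _ a) = algebraMap A _ (D.F a) :=
  Semi.extR_algebraMap _ _ _ _
theorem FF_smul (a : A1) (x : ExteriorAlgebra A1 (T D)) : FF D hδ (a • x) = D.F a • FF D hδ x :=
  Semi.extR_smul _ _ _ _ _

/-- The product of a multiset in `Fr D`. -/
def pr (t : Multiset (Fr D)) : A := (t.map (toFr D).symm).prod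

omit [PZ p A] in
theorem pr_cons (x : Fr D) (t : Multiset (Fr D)) : pr D (x ::ₘ t) = (toFr D).symm x * pr D t := by
  rw [pr, Multiset.map_cons, Multiset.prod_cons, pr]

omit [PZ p A] in
theorem pr_zero : pr D (0 : Multiset (Fr D)) = 1 := by
  rw [pr, Multiset.map_zero, Multiset.prod_zero]

/-- The map from the Koszul complex to the de Rham complex. -/
noncomputable def Φ : Kos.KK A1 (Fr D) (T D) →+ ExteriorAlgebra A L :=
  Kos.lift (fun t ω => pr D t • FF D hδ ω) (fun t ω ω' => by rw [map_add, smul_add])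
    (fun x y t ω => by rw [pr_cons, map_add, add_mul, add_smul, pr_cons, pr_cons])
    (fun c x t ω => by
      obtain ⟨s, rfl⟩ := (toFr D).surjective x
      rw [pr_cons, pr_cons, smul_toFr, AddEquiv.symm_apply_apply, AddEquiv.symm_apply_apply, FF_smul, smul_smul]
      congr 1
      ring)

@[simp]
theorem Φ_mk (t : Multiset (Fr D)) (ω : ExteriorAlgebra A1 (T D)) :
    Φ D hδ (Kos.mk t ω) = pr D t • FF D hδ ω := Kos.lift_mk _ _ _ _ _ _

theorem Φ_X (x : Fr D) (z : Kos.KK A1 (Fr D) (T D)) :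
    Φ D hδ (Kos.X x z) = (toFr D).symm x • Φ D hδ z := by
  have : (Φ D hδ).comp (Kos.X x) = (DistribSMul.toAddMonoidHom _ ((toFr D).symm x)).comp (Φ D hδ) :=
    Kos.hom_ext fun t ω => by
      rw [AddMonoidHom.comp_apply, AddMonoidHom.comp_apply, Kos.X_mk, Φ_mk, Φ_mk, pr_cons, mul_smul]
      rfl
  exact DFunLike.congr_fun this z

theorem Φ_E (v : T D) (z : Kos.KK A1 (Fr D) (T D)) :
    Φ D hδ (Kos.A (Ext.E v) z) = ι A (φ D hδ v) * Φ D hδ z := by
  have : (Φ D hδ).comp (Kos.A (Ext.E v)) = (AddMonoidHom.mulLeft (ι A (φ D hδ v))).comp (Φ D hδ) :=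
    Kos.hom_ext fun t ω => by
      rw [AddMonoidHom.comp_apply, AddMonoidHom.comp_apply, Kos.A_mk, Φ_mk, Φ_mk, Ext.E_apply, map_mul, FF_ι,
        AddMonoidHom.coe_mulLeft, mul_smul_comm]
  exact DFunLike.congr_fun this z

theorem Φ_mem {j i : ℕ} {z : Kos.KK A1 (Fr D) (T D)} (hz : z ∈ Kos.P A1 (Fr D) (T D) j i) :
    Φ D hδ z ∈ ⋀[A]^i L := by
  have : Φ D hδ z ∈ (⋀[A]^i L).toAddSubgroup := by
    refine Kos.map_P_le _ _ (fun t ω _ hω => ?_) hz
    rw [Φ_mk]
    exact Submodule.smul_mem _ _ (Semi.extR_mem _ _ _ _ _ hω)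
  exact this

section d

variable {d : ExteriorAlgebra A L →+ ExteriorAlgebra A L} (hd : TotPhi.IsDR δ d)

include hd in
theorem d_φ (m : T D) : d (ι A (φ D hδ m)) = 0 := by
  have hc : ∀ (c : A1) (y : ExteriorAlgebra A L), d (D.F c • y) = D.F c • d y := fun c y => by
    rw [hd.smul, hδ.const, map_zero, zero_mul, zero_add]
  induction m using RelM.induction with
  | h1 c a =>
    have hq : ∃ q, p = q + 2 := ⟨p - 2, by have := hp.1.two_le; omega⟩
    rw [φ_smul, map_smul, hc, φ_br, map_smul, hd.smul, hd.dd, smul_zero, add_zero]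
    have h2 : δ (D.α a ^ (p - 1)) = ((p - 1 : ℕ) : A) • D.α a ^ (p - 2) • δ (D.α a) := by
      obtain ⟨q, rfl⟩ := hq
      exact TotPhi.δ_pow hδ.leib (D.α a) q
    rw [h2, map_smul, map_smul, smul_mul_assoc, smul_mul_assoc, ι_sq_zero, smul_zero, smul_zero, smul_zero]
  | h2 s =>
    obtain ⟨s, rfl⟩ := (toFr D).surjective s
    rw [φ_io, δF_toFr, hd.dd]
  | hadd x y hx hy => rw [map_add, map_add, map_add, hx, hy, add_zero]

include hd in
theorem d_FF (ω : ExteriorAlgebra A1 (T D)) : d (FF D hδ ω) = 0 := by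
  induction ω using ExteriorAlgebra.induction with
  | algebraMap r => rw [FF_algebraMap, hd.alg, hδ.const, map_zero]
  | ι m => rw [FF_ι, d_φ D hδ hd]
  | mul a b ha hb => rw [map_mul, hd.mul, ha, hb, zero_mul, mul_zero, add_zero]
  | add a b ha hb => rw [map_add, map_add, ha, hb, add_zero]

include hd in
/-- `Φ` is a morphism of complexes. -/
theorem d_Φ (z : Kos.KK A1 (Fr D) (T D)) :
    d (Φ D hδ z) = Φ D hδ (Kos.κ (io D) z) := by
  induction z using Kos.mk_induction with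
  | h t ω =>
    induction t using Multiset.induction_on with
    | empty => rw [Φ_mk, pr_zero, one_smul, d_FF D hδ hd, Kos.κ_mk, Kos.κ₀_zero, map_zero]
    | cons x t ih =>
      rw [← Kos.X_mk, Φ_X, hd.smul, ih, Kos.κ_X, map_add, Φ_X, Φ_E, φ_io, add_comm]
      rfl
  | h0 => simp
  | hadd x y hx hy => simp only [map_add, hx, hy]
  | hneg x hx => simp only [map_neg, hx]

end d

/-! ### Naturality -/

variable {Q B1 B : Type*} [CommRing Q] [CommRing B1] [CommRing B] {E : Dat p Q B1 B} [PZ p B] (m : Mor D E)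
  {L' : Type*} [AddCommGroup L'] [Module B L'] {δ' : B →+ L'}
  (hδ' : IsDer E δ') (fL : L →+ L') (hfL : ∀ (a : A) (x : L), fL (a • x) = m.f a • fL x)
  (hfδ : ∀ a, fL (δ a) = δ' (m.f a))

/-- The map of exterior algebras. -/
noncomputable def EE : ExteriorAlgebra A1 (T D) →+* ExteriorAlgebra B1 (T E) :=
  Semi.extR m.f1 (mapT m).toAddMonoidHom (mapT_smul m)

omit [PZ p A] [PZ p B] in
theorem EE_ι (x : T D) : EE D m (ι A1 x) = ι B1 (mapT m x) := Semi.extR_ι _ _ _ _

omit [PZ p A] [PZ p B] in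
theorem EE_algebraMap (a : A1) : EE D m (algebraMap A1 _ a) = algebraMap B1 _ (m.f1 a) := Semi.extR_algebraMap _ _ _ _

/-- The map of Koszul groups. -/
noncomputable def mapK : Kos.KK A1 (Fr D) (T D) →+ Kos.KK B1 (Fr E) (T E) :=
  Kos.map m.f1 (frMap m) (frMap_smul m) (mapT m).toAddMonoidHom (mapT_smul m)

omit [PZ p A] [PZ p B] in
theorem mapK_mk (t : Multiset (Fr D)) (ω : ExteriorAlgebra A1 (T D)) :
    mapK D m (Kos.mk t ω) = Kos.mk (t.map (frMap m)) (EE D m ω) := Kos.map_mk _ _ _ _ _ _ _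

omit [PZ p A] [PZ p B] in
theorem mapK_κ (z : Kos.KK A1 (Fr D) (T D)) :
    mapK D m (Kos.κ (io D) z) = Kos.κ (io E) (mapK D m z) :=
  Kos.map_κ _ _ _ _ _ _ _ (fun x => mapT_io m x) z

omit [PZ p A] [PZ p B] in
theorem mapK_mem {j i : ℕ} {z : Kos.KK A1 (Fr D) (T D)} (hz : z ∈ Kos.P A1 (Fr D) (T D) j i) :
    mapK D m z ∈ Kos.P B1 (Fr E) (T E) j i := Kos.map_mem _ _ _ _ _ hz

omit [PZ p A] in
theorem mapK_id (m : Mor D D) (h0 : ∀ a, m.fP a = a) (h1 : ∀ a, m.f1 a = a) (h2 : ∀ a, m.f a = a)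
    (z : Kos.KK A1 (Fr D) (T D)) : mapK D m z = z := by
  refine Kos.map_id m.f1 (frMap m) (frMap_smul m) _ _ h1 (fun x => ?_) (fun y => ?_) z
  · obtain ⟨s, rfl⟩ := (toFr D).surjective x
    rw [frMap_toFr, h2]
  · refine RelM.hom_ext D (f := (mapT m).toAddMonoidHom) (g := AddMonoidHom.id _) m.f1
      (fun c y => mapT_smul m c y) (fun c y => ?_) (fun a => ?_) (fun s => ?_) y
    · rw [h1]; rfl
    · exact (mapT_br m a).trans (by rw [h0]; rfl)
    · refine (mapT_io m s).trans ?_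
      obtain ⟨s, rfl⟩ := (toFr D).surjective s
      rw [frMap_toFr, h2]
      rfl

omit [PZ p A] [PZ p B] in
theorem mapK_comp {Q' C1 C : Type*} [CommRing Q'] [CommRing C1] [CommRing C] {G : Dat p Q' C1 C} (n : Mor E G)
    (k : Mor D G) (h0 : ∀ a, n.fP (m.fP a) = k.fP a) (h1 : ∀ a, n.f1 (m.f1 a) = k.f1 a)
    (h2 : ∀ a, n.f (m.f a) = k.f a) (z : Kos.KK A1 (Fr D) (T D)) :
    mapK E n (mapK D m z) = mapK D k z := by
  refine Kos.map_comp _ _ _ _ _ _ _ _ _ _ _ _ _ _ _ h1 (fun x => ?_) (fun y => ?_) z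
  · obtain ⟨s, rfl⟩ := (toFr D).surjective x
    rw [frMap_toFr, frMap_toFr, frMap_toFr, h2]
  · refine RelM.hom_ext D
      (f := (mapT n).toAddMonoidHom.comp (mapT m).toAddMonoidHom)
      (g := (mapT k).toAddMonoidHom) k.f1
      (fun c y => ?_) (fun c y => mapT_smul k c y) (fun a => ?_) (fun s => ?_) y
    · change mapT n (mapT m (c • y)) = k.f1 c • mapT n (mapT m y)
      rw [mapT_smul, mapT_smul, h1]
    · change mapT n (mapT m (br D a)) = mapT k (br D a)
      rw [mapT_br, mapT_br, mapT_br, h0]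
    · change mapT n (mapT m (io D s)) = mapT k (io D s)
      obtain ⟨s, rfl⟩ := (toFr D).surjective s
      rw [mapT_io, mapT_io, mapT_io, frMap_toFr, frMap_toFr, frMap_toFr, h2]

include hfL hfδ in
theorem extR_φ (x : T D) : fL (φ D hδ x) = φ E hδ' (mapT m x) := by
  refine RelM.hom_ext D (f := fL.comp (φ D hδ).toAddMonoidHom)
      (g := (φ E hδ').toAddMonoidHom.comp (mapT m).toAddMonoidHom) (E.F.comp m.f1)
      (fun c x => ?_) (fun c x => ?_) (fun a => ?_) (fun s => ?_) x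
  · change fL (φ D hδ (c • x)) = _ • fL (φ D hδ x)
    rw [φ_smul, hfL, RingHom.comp_apply, m.F]
  · change φ E hδ' (mapT m (c • x)) = _ • φ E hδ' (mapT m x)
    rw [mapT_smul, φ_smul]
    rfl
  · change fL (φ D hδ (br D a)) = φ E hδ' (mapT m (br D a))
    rw [mapT_br, φ_br, φ_br, m.α, hfL, hfδ, map_pow]
  · change fL (φ D hδ (io D s)) = φ E hδ' (mapT m (io D s))
    obtain ⟨s, rfl⟩ := (toFr D).surjective s
    rw [mapT_io, φ_io, φ_io, frMap_toFr, δF_toFr, δF_toFr, hfδ]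

include hfδ in
/-- Naturality of `Φ`. -/
theorem extR_Φ (z : Kos.KK A1 (Fr D) (T D)) :
    Semi.extR m.f fL hfL (Φ D hδ z) = Φ E hδ' (mapK D m z) := by
  have : (Semi.extR m.f fL hfL).toAddMonoidHom.comp (Φ D hδ) = (Φ E hδ').comp (mapK D m) := by
    refine Kos.hom_ext fun t ω => ?_
    change Semi.extR m.f fL hfL (Φ D hδ (Kos.mk t ω)) = Φ E hδ' (mapK D m (Kos.mk t ω))
    rw [Φ_mk, mapK_mk, Φ_mk, Semi.extR_smul]
    congr 1
    · rw [pr, pr, map_multiset_prod, Multiset.map_map, Multiset.map_map]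
      congr 1
    · have h : (Semi.extR m.f fL hfL).comp (FF D hδ) = (FF E hδ').comp (EE D m) := by
        refine Semi.ringHom_ext (fun a => ?_) (fun x => ?_)
        · rw [RingHom.comp_apply, RingHom.comp_apply, FF_algebraMap, Semi.extR_algebraMap, EE_algebraMap,
            FF_algebraMap, m.F]
        · rw [RingHom.comp_apply, RingHom.comp_apply, FF_ι, Semi.extR_ι, EE_ι, FF_ι,
            extR_φ D hδ m hδ' fL hfL hfδ]
      exact RingHom.congr_fun h ω
  exact DFunLike.congr_fun this z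

end K224.RelPhi
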