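import Groth.Agent.DelIll.K224.RelMain

/-!
# Windows of the relative de Rham complex
-/

set_option autoImplicit false
universe u

open CategoryTheory CategoryTheory.Limits AlgebraicGeometry Opposite TopologicalSpace

namespace K224.RelThm

variable {p : ℕ} [hp : Fact p.Prime] {S : Scheme.{u}} [FrobSch.IsCharP S p] {St : Scheme.{u}}
    {A0 B0 : Type u} [CommRing A0] [CommRing B0] {φ : A0 →+* B0} (hφ : RelBase.IsLft p φ)
    {gS : St ⟶ Spec (CommRingCat.of A0)} [Flat gS]
    {iS : S ⟶ St} {sS : S ⟶ Spec (CommRingCat.of B0)} (hS : IsPullback iS sS gS (Spec.map (CommRingCat.ofHom φ)))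
    {X : Scheme.{u}} [FrobSch.IsCharP X p] {f : X ⟶ S} [Smooth f]
    {Xt : Scheme.{u}} {gt : Xt ⟶ St} [Smooth gt] {iX : FrobSch.frobTwist f p ⟶ Xt}
    (hX : IsPullback iX (pullback.snd f (FrobSch.frob S p)) gt iS)
    {Ω' : X.Modules} {d : OmegaSh.Der f Ω'} (hd : OmegaSh.IsUniversal d)
    (D : DeRhamSh.Cx f Ω' d)

include hφ hS hX in
omit [Smooth f] [Smooth gt] [Flat gS] in
theorem isGeo : RelGD.IsGeo p f (pullback.fst f (FrobSch.frob S p)) (pullback.snd f (FrobSch.frob S p))
    (FrobSch.relFrob f p) iX gt iS where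
  tw := IsPullback.of_hasPullback f (FrobSch.frob S p)
  F1 := FrobSch.relFrob_fst f p
  F2 := FrobSch.relFrob_snd f p
  w := hX.w
  hi := RelBase.isOpenEmbedding hφ (hX.paste_vert hS)

include hφ hS hX hd in
/-- **Decomposition** of windows of the relative de Rham complex. -/
theorem decomp [HasDerivedCategory.{u} (Sheaf (Opens.grothendieckTopology ↥X) AddCommGrpCat.{u})]
    (a b : ℤ) (hab : b + 2 ≤ a + p ∨ b < p) :
    Nonempty ((DerivedCategory.TStructure.t.truncGELE a b).obj (DerivedCategory.Q.obj D.KZ) ≅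
      ⨁ (fun j : Finset.Icc a b =>
        (DerivedCategory.singleFunctor (Sheaf (Opens.grothendieckTopology ↥X) AddCommGrpCat.{u}) j.1).obj
          (D.KZ.homology j.1))) :=
  RelMain.decomp D (isGeo hφ hS hX)
    (fun U x hx => RelCov.exists_isCh (isGeo hφ hS hX) hφ hS hX hd U x hx) a b hab

end K224.RelThm
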