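import Groth.Agent.DelIll.K224.TwoQ

/-!
# Two-term windows of the relative de Rham complex
-/

set_option autoImplicit false
set_option linter.style.haveILetI false
set_option linter.unusedSectionVars false
universe w v u

open CategoryTheory CategoryTheory.Limits AlgebraicGeometry Opposite TopologicalSpace K904 K905
open K905.GeoUp K905.GeoPhi K905.SheafKos K224.RelM K224.RelPhi K224.RelGeom K224.RelSys K224.RelGD K224.RelCov
open K224.RelMain K224.TwoE K224.TwoM K224.TwoS K224.TwoQ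
open K905.TotM (PZ)
open K905.TotPhi (IsDR)

namespace K224.TwoD

/-- A biproduct over a window of two integers is a binary biproduct. -/
theorem biprodIso {C : Type v} [Category.{w} C] [Preadditive C] [HasFiniteBiproducts C] [HasBinaryBiproducts C] (F : ℤ → C) (q : ℤ) :
    Nonempty ((⨁ fun j : Finset.Icc (q - 1) q => F j.1) ≅ F (q - 1) ⊞ F q) := by
  have h1 : q - 1 ∈ Finset.Icc (q - 1) q := Finset.mem_Icc.2 ⟨le_rfl, by omega⟩
  have h2 : q ∈ Finset.Icc (q - 1) q := Finset.mem_Icc.2 ⟨by omega, le_rfl⟩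
  have hne : (⟨q - 1, h1⟩ : Finset.Icc (q - 1) q) ≠ ⟨q, h2⟩ := by
    intro h
    have := congrArg Subtype.val h
    dsimp only at this
    omega
  have hun : (Finset.univ : Finset (Finset.Icc (q - 1) q)) = {⟨q - 1, h1⟩, ⟨q, h2⟩} := by
    ext ⟨j, hj⟩
    have hj' := Finset.mem_Icc.1 hj
    simp only [Finset.mem_univ, Finset.mem_insert, Finset.mem_singleton, Subtype.mk.injEq, true_iff]
    omega
  let G : Finset.Icc (q - 1) q → C := fun j => F j.1
  refine ⟨⟨biprod.lift (biproduct.π G ⟨q - 1, h1⟩) (biproduct.π G ⟨q, h2⟩),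
    biprod.desc (biproduct.ι G ⟨q - 1, h1⟩) (biproduct.ι G ⟨q, h2⟩), ?_, ?_⟩⟩
  · rw [biprod.lift_desc]
    have h3 := biproduct.total (f := G)
    rw [hun, Finset.sum_pair hne] at h3
    exact h3
  · refine biprod.hom_ext' _ _ ?_ ?_
    · rw [biprod.inl_desc_assoc, Category.comp_id]
      refine biprod.hom_ext _ _ ?_ ?_
      · rw [Category.assoc, biprod.lift_fst, biprod.inl_fst]
        exact biproduct.ι_π_self G _
      · rw [Category.assoc, biprod.lift_snd, biprod.inl_snd]
        exact biproduct.ι_π_ne G hne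
    · rw [biprod.inr_desc_assoc, Category.comp_id]
      refine biprod.hom_ext _ _ ?_ ?_
      · rw [Category.assoc, biprod.lift_fst, biprod.inr_fst]
        exact biproduct.ι_π_ne G hne.symm
      · rw [Category.assoc, biprod.lift_snd, biprod.inr_snd]
        exact biproduct.ι_π_self G _

section

variable {X X1 S Xt St : Scheme.{u}} {p : ℕ} [hp : Fact p.Prime] [FrobSch.IsCharP S p] [FrobSch.IsCharP X p]
    {f : X ⟶ S} {pr : X1 ⟶ X}
    {f1 : X1 ⟶ S} {F : X ⟶ X1} {iX : X1 ⟶ Xt} {gt : Xt ⟶ St} {iS : S ⟶ St}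
    {Ω' : X.Modules} {δ : OmegaSh.Der f Ω'} (D : DeRhamSh.Cx f Ω' δ)
    (H : IsGeo p f pr f1 F iX gt iS)

include H in
/-- Two-term windows, `p = 2`. -/
theorem decomp2 (hp2 : p = 2) (hcov : ∀ (U : Opens X) (x : X), x ∈ U → ∃ V ∈ chs H δ, x ∈ V ∧ V ≤ U)
    [HasDerivedCategory.{u} (Sheaf (Opens.grothendieckTopology ↥X) AddCommGrpCat.{u})] (q : ℤ) :
    Nonempty ((DerivedCategory.TStructure.t.truncGELE (q - 1) q).obj (DerivedCategory.Q.obj D.KZ) ≅
      ⨁ (fun j : Finset.Icc (q - 1) q =>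
        (DerivedCategory.singleFunctor (Sheaf (Opens.grothendieckTopology ↥X) AddCommGrpCat.{u}) j.1).obj
          (D.KZ.homology j.1))) := by
  refine Decomp.complex D.K (q - 1) q fun j haj hjb => ?_
  by_cases hj : j < 2 ∨ (j : ℤ) < q
  · refine ⟨shC (PC (sys H) j), shHom hcov (bm D H j), fun m ham hmj => ?_, RelMain.quasiIsoAt D H hcov j⟩
    exact RelMain.exactAt H hcov j m hmj (by omega)
  · have hj1 : 2 ≤ j := by omega
    have hj2 : (j : ℤ) = q := by omega
    obtain ⟨k, rfl⟩ := Nat.exists_eq_add_of_le' hj1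
    refine ⟨shC (PC2 δ H k), shHom hcov (bm2 D hp2 k), fun m ham hmj => ?_, quasiIsoAt2 D hp2 hcov k⟩
    have hm : m = k + 1 ∨ k + 2 < m := by omega
    rcases hm with rfl | hm
    · exact exactAt_one hp2 hcov k
    · exact exactAt_high hcov k m hm

include H in
/-- Two-term windows. -/
theorem decomp (hcov : ∀ (U : Opens X) (x : X), x ∈ U → ∃ V ∈ chs H δ, x ∈ V ∧ V ≤ U)
    [HasDerivedCategory.{u} (Sheaf (Opens.grothendieckTopology ↥X) AddCommGrpCat.{u})] (q : ℤ) :
    Nonempty ((DerivedCategory.TStructure.t.truncGELE (q - 1) q).obj (DerivedCategory.Q.obj D.KZ) ≅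
      (DerivedCategory.singleFunctor (Sheaf (Opens.grothendieckTopology ↥X) AddCommGrpCat.{u}) (q - 1)).obj
          (D.KZ.homology (q - 1)) ⊞
        (DerivedCategory.singleFunctor (Sheaf (Opens.grothendieckTopology ↥X) AddCommGrpCat.{u}) q).obj
          (D.KZ.homology q)) := by
  have hp2 := hp.out.two_le
  obtain ⟨e1⟩ : Nonempty ((DerivedCategory.TStructure.t.truncGELE (q - 1) q).obj (DerivedCategory.Q.obj D.KZ) ≅
      ⨁ (fun j : Finset.Icc (q - 1) q =>
        (DerivedCategory.singleFunctor (Sheaf (Opens.grothendieckTopology ↥X) AddCommGrpCat.{u}) j.1).obj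
          (D.KZ.homology j.1))) := by
    by_cases h : p = 2
    · exact decomp2 D H h hcov q
    · exact RelMain.decomp D H hcov (q - 1) q (Or.inl (by omega))
  obtain ⟨e2⟩ := biprodIso (fun j => (DerivedCategory.singleFunctor
    (Sheaf (Opens.grothendieckTopology ↥X) AddCommGrpCat.{u}) j).obj (D.KZ.homology j)) q
  exact ⟨e1 ≪≫ e2⟩

end

end K224.TwoD
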