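import Mathlib.LinearAlgebra.TensorAlgebra.Grading
import Mathlib.LinearAlgebra.ExteriorAlgebra.Basic
import Mathlib.RingTheory.Ideal.Quotient.Operations
import Mathlib.Tactic.NoncommRing

/-!
# Tools on tensor algebras
-/

set_option autoImplicit false
set_option linter.unusedSectionVars false
set_option linter.style.haveILetI false

open TensorAlgebra

namespace K224.TwoT

section lift

variable {R M : Type*} [CommRing R] [AddCommGroup M] [Module R M] {B : Type*} [Ring B]

/-- Ring homomorphisms out of a tensor algebra. -/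
noncomputable def liftR (f : R →+* B) (hf : ∀ r b, f r * b = b * f r) (g : M →+ B)
    (hg : ∀ (r : R) (m : M), g (r • m) = f r * g m) : TensorAlgebra R M →+* B :=
  letI : Algebra R B := RingHom.toAlgebra' f hf
  (TensorAlgebra.lift R (⟨⟨g, map_add g⟩, hg⟩ : M →ₗ[R] B)).toRingHom

variable (f : R →+* B) (hf : ∀ r b, f r * b = b * f r) (g : M →+ B) (hg : ∀ (r : R) (m : M), g (r • m) = f r * g m)

@[simp]
theorem liftR_ι (m : M) : liftR f hf g hg (ι R m) = g m := by
  letI : Algebra R B := RingHom.toAlgebra' f hf
  exact TensorAlgebra.lift_ι_apply (⟨⟨g, map_add g⟩, hg⟩ : M →ₗ[R] B) m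

@[simp]
theorem liftR_algebraMap (r : R) : liftR f hf g hg (algebraMap R _ r) = f r := by
  letI : Algebra R B := RingHom.toAlgebra' f hf
  exact (TensorAlgebra.lift R (⟨⟨g, map_add g⟩, hg⟩ : M →ₗ[R] B)).commutes r

theorem ringHom_ext {g h : TensorAlgebra R M →+* B} (h1 : ∀ a : R, g (algebraMap R _ a) = h (algebraMap R _ a))
    (h2 : ∀ m : M, g (ι R m) = h (ι R m)) : g = h := by
  ext x
  induction x using TensorAlgebra.induction with
  | algebraMap r => exact h1 r
  | ι x => exact h2 x
  | mul a b ha hb => rw [map_mul, map_mul, ha, hb]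
  | add a b ha hb => rw [map_add, map_add, ha, hb]

end lift

section graded

variable (R M : Type*) [CommRing R] [AddCommGroup M] [Module R M]

/-- Words of length `n`. -/
abbrev W (n : ℕ) : Submodule R (TensorAlgebra R M) := (LinearMap.range (ι R : M →ₗ[R] TensorAlgebra R M)) ^ n

variable {R M}

theorem algebraMap_mem (r : R) : algebraMap R (TensorAlgebra R M) r ∈ W R M 0 := by
  rw [W, pow_zero, Submodule.mem_one]
  exact ⟨r, rfl⟩

theorem one_mem : (1 : TensorAlgebra R M) ∈ W R M 0 := by
  have := algebraMap_mem (R := R) (M := M) 1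
  rwa [map_one] at this

theorem ι_mem (m : M) : ι R m ∈ W R M 1 := by
  rw [W, pow_one]
  exact ⟨m, rfl⟩

theorem mul_mem {a b n : ℕ} (h : a + b = n) {x y : TensorAlgebra R M} (hx : x ∈ W R M a) (hy : y ∈ W R M b) :
    x * y ∈ W R M n := by
  rw [W, ← h, pow_add]
  exact Submodule.mul_mem_mul hx hy

/-- Induction on words. -/
theorem W_induction {Q : ∀ n : ℕ, TensorAlgebra R M → Prop} (h0 : ∀ r, Q 0 (algebraMap R _ r))
    (hadd : ∀ n x y, x ∈ W R M n → y ∈ W R M n → Q n x → Q n y → Q n (x + y))
    (hmul : ∀ n m x, x ∈ W R M n → Q n x → Q (n + 1) (ι R m * x)) {n : ℕ} {x : TensorAlgebra R M}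
    (hx : x ∈ W R M n) : Q n x := by
  induction hx using Submodule.pow_induction_on_left' with
  | algebraMap r => exact h0 r
  | add x y i hx hy ihx ihy => exact hadd i x y hx hy ihx ihy
  | mem_mul m hm i x hx ih =>
    obtain ⟨m, rfl⟩ := hm
    exact hmul i m x hx ih

/-- Homogeneous elements generate. -/
theorem exists_hom (x : TensorAlgebra R M) :
    x ∈ AddSubgroup.closure {z : TensorAlgebra R M | ∃ n, z ∈ W R M n} := by
  induction x using TensorAlgebra.induction with
  | algebraMap r => exact AddSubgroup.subset_closure ⟨0, algebraMap_mem r⟩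
  | ι x => exact AddSubgroup.subset_closure ⟨1, ι_mem x⟩
  | mul a b ha hb =>
    induction ha using AddSubgroup.closure_induction with
    | mem x hx =>
      obtain ⟨n, hn⟩ := hx
      induction hb using AddSubgroup.closure_induction with
      | mem y hy =>
        obtain ⟨m, hm⟩ := hy
        exact AddSubgroup.subset_closure ⟨n + m, mul_mem rfl hn hm⟩
      | zero => rw [mul_zero]; exact AddSubgroup.zero_mem _
      | add x y _ _ hx hy => rw [mul_add]; exact AddSubgroup.add_mem _ hx hy
      | neg x _ hx => rw [mul_neg]; exact AddSubgroup.neg_mem _ hx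
    | zero => rw [zero_mul]; exact AddSubgroup.zero_mem _
    | add x y _ _ hx hy => rw [add_mul]; exact AddSubgroup.add_mem _ hx hy
    | neg x _ hx => rw [neg_mul]; exact AddSubgroup.neg_mem _ hx
  | add a b ha hb => exact AddSubgroup.add_mem _ ha hb

/-- The elements `x m m y`. -/
def sqs (R M : Type*) [CommRing R] [AddCommGroup M] [Module R M] : Set (TensorAlgebra R M) :=
  {z | ∃ (x y : TensorAlgebra R M) (m : M), z = x * (ι R m * ι R m) * y}

theorem mul_mem_sqs (a : TensorAlgebra R M) {z : TensorAlgebra R M} (hz : z ∈ AddSubgroup.closure (sqs R M)) :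
    a * z ∈ AddSubgroup.closure (sqs R M) := by
  induction hz using AddSubgroup.closure_induction with
  | mem z hz =>
    obtain ⟨x, y, m, rfl⟩ := hz
    exact AddSubgroup.subset_closure ⟨a * x, y, m, by noncomm_ring⟩
  | zero => rw [mul_zero]; exact AddSubgroup.zero_mem _
  | add x y _ _ hx hy => rw [mul_add]; exact AddSubgroup.add_mem _ hx hy
  | neg x _ hx => rw [mul_neg]; exact AddSubgroup.neg_mem _ hx

theorem mem_sqs_mul (a : TensorAlgebra R M) {z : TensorAlgebra R M} (hz : z ∈ AddSubgroup.closure (sqs R M)) :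
    z * a ∈ AddSubgroup.closure (sqs R M) := by
  induction hz using AddSubgroup.closure_induction with
  | mem z hz =>
    obtain ⟨x, y, m, rfl⟩ := hz
    exact AddSubgroup.subset_closure ⟨x, y * a, m, by noncomm_ring⟩
  | zero => rw [zero_mul]; exact AddSubgroup.zero_mem _
  | add x y _ _ hx hy => rw [add_mul]; exact AddSubgroup.add_mem _ hx hy
  | neg x _ hx => rw [neg_mul]; exact AddSubgroup.neg_mem _ hx

/-- The ideal. -/
def I (R M : Type*) [CommRing R] [AddCommGroup M] [Module R M] : Ideal (TensorAlgebra R M) where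
  carrier := AddSubgroup.closure (sqs R M)
  add_mem' := AddSubgroup.add_mem _
  zero_mem' := AddSubgroup.zero_mem _
  smul_mem' a _ hz := mul_mem_sqs a hz

theorem mem_I {z : TensorAlgebra R M} : z ∈ I R M ↔ z ∈ AddSubgroup.closure (sqs R M) := Iff.rfl

instance : (I R M).IsTwoSided := ⟨fun b ha => mem_sqs_mul b ha⟩

/-- The map from the exterior algebra to the quotient. -/
noncomputable def fromExt : ExteriorAlgebra R M →ₐ[R] (TensorAlgebra R M ⧸ I R M) :=
  ExteriorAlgebra.lift R ⟨(Ideal.Quotient.mkₐ R (I R M)).toLinearMap.comp (ι R), fun m => by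
    change Ideal.Quotient.mk (I R M) (ι R m) * Ideal.Quotient.mk (I R M) (ι R m) = 0
    rw [← map_mul, Ideal.Quotient.eq_zero_iff_mem]
    exact AddSubgroup.subset_closure ⟨1, 1, m, by rw [one_mul, mul_one]⟩⟩

theorem fromExt_toExterior (x : TensorAlgebra R M) : fromExt (toExterior x) = Ideal.Quotient.mk (I R M) x := by
  have : fromExt.comp toExterior = Ideal.Quotient.mkₐ R (I R M) := by
    refine TensorAlgebra.hom_ext (LinearMap.ext fun m => ?_)
    change fromExt (toExterior (ι R m)) = Ideal.Quotient.mkₐ R (I R M) (ι R m)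
    rw [toExterior_ι, fromExt, ExteriorAlgebra.lift_ι_apply]
    rfl
  exact DFunLike.congr_fun this x

theorem mem_closure_of_toExterior {x : TensorAlgebra R M} (h : toExterior x = 0) :
    x ∈ AddSubgroup.closure (sqs R M) := by
  have h1 := fromExt_toExterior x
  rw [h, map_zero] at h1
  exact Ideal.Quotient.eq_zero_iff_mem.1 h1.symm

/-- The homogeneous elements `x m m y`. -/
def sqn (R M : Type*) [CommRing R] [AddCommGroup M] [Module R M] (n : ℕ) : Set (TensorAlgebra R M) :=
  {z | ∃ a b, a + b + 2 = n ∧ ∃ x ∈ W R M a, ∃ y ∈ W R M b, ∃ m : M, z = x * (ι R m * ι R m) * y}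

/-- **The kernel of the map from the tensor algebra to the exterior algebra**, homogeneous version. -/
theorem mem_closure_sqn {n : ℕ} {w : TensorAlgebra R M} (hw : w ∈ W R M n) (h : toExterior w = 0) :
    w ∈ AddSubgroup.closure (sqn R M n) := by
  classical
  have h1 := mem_closure_of_toExterior h
  let 𝒜 : ℕ → Submodule R (TensorAlgebra R M) := fun i => W R M i
  let pr : TensorAlgebra R M →+ TensorAlgebra R M := AddMonoidHom.mk' (fun z => (DirectSum.decompose 𝒜 z n : TensorAlgebra R M))
    (fun a b => by rw [DirectSum.decompose_add]; rfl)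
  have hpr : ∀ z, pr z = (DirectSum.decompose 𝒜 z n : TensorAlgebra R M) := fun _ => rfl
  have key : ∀ z ∈ AddSubgroup.closure (sqs R M), pr z ∈ AddSubgroup.closure (sqn R M n) := by
    intro z hz
    induction hz using AddSubgroup.closure_induction with
    | mem z hz =>
      obtain ⟨x, y, m, rfl⟩ := hz
      induction exists_hom x using AddSubgroup.closure_induction with
      | mem x hx =>
        obtain ⟨a, ha⟩ := hx
        induction exists_hom y using AddSubgroup.closure_induction with
        | mem y hy =>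
          obtain ⟨b, hb⟩ := hy
          have h2 : x * (ι R m * ι R m) * y ∈ 𝒜 (a + b + 2) :=
            mul_mem (by omega) (mul_mem rfl ha (mul_mem rfl (ι_mem m) (ι_mem m))) hb
          by_cases hn : a + b + 2 = n
          · subst hn
            rw [hpr, DirectSum.decompose_of_mem_same _ h2]
            exact AddSubgroup.subset_closure ⟨a, b, rfl, x, ha, y, hb, m, rfl⟩
          · rw [hpr, DirectSum.decompose_of_mem_ne _ h2 hn]
            exact AddSubgroup.zero_mem _
        | zero => rw [mul_zero, map_zero]; exact AddSubgroup.zero_mem _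
        | add x y _ _ hx hy => rw [mul_add, map_add]; exact AddSubgroup.add_mem _ hx hy
        | neg x _ hx => rw [mul_neg, map_neg]; exact AddSubgroup.neg_mem _ hx
      | zero => rw [zero_mul, zero_mul, map_zero]; exact AddSubgroup.zero_mem _
      | add x y _ _ hx hy => rw [add_mul, add_mul, map_add]; exact AddSubgroup.add_mem _ hx hy
      | neg x _ hx => rw [neg_mul, neg_mul, map_neg]; exact AddSubgroup.neg_mem _ hx
    | zero => rw [map_zero]; exact AddSubgroup.zero_mem _
    | add x y _ _ hx hy => rw [map_add]; exact AddSubgroup.add_mem _ hx hy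
    | neg x _ hx => rw [map_neg]; exact AddSubgroup.neg_mem _ hx
  have h2 := key w h1
  rwa [hpr, DirectSum.decompose_of_mem_same _ (show w ∈ 𝒜 n from hw)] at h2

end graded

section ext

variable {A B M N : Type*} [CommRing A] [CommRing B] [AddCommGroup M] [Module A M] [AddCommGroup N] [Module B N]

/-- The ring homomorphism of tensor algebras induced by a semilinear map. -/
noncomputable def extT (ρ : A →+* B) (f : M →+ N) (hf : ∀ (a : A) (m : M), f (a • m) = ρ a • f m) :
    TensorAlgebra A M →+* TensorAlgebra B N :=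
  liftR ((algebraMap B (TensorAlgebra B N)).comp ρ) (fun r b => Algebra.commutes (ρ r) b)
    ((ι B).toAddMonoidHom.comp f) (fun r m => by
      change ι B (f (r • m)) = algebraMap B _ (ρ r) * ι B (f m)
      rw [hf, map_smul, Algebra.smul_def])

variable (ρ : A →+* B) (f : M →+ N) (hf : ∀ (a : A) (m : M), f (a • m) = ρ a • f m)

@[simp]
theorem extT_ι (m : M) : extT ρ f hf (ι A m) = ι B (f m) := liftR_ι _ _ _ _ _

@[simp]
theorem extT_algebraMap (a : A) : extT ρ f hf (algebraMap A _ a) = algebraMap B _ (ρ a) := liftR_algebraMap _ _ _ _ _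

theorem extT_mem {n : ℕ} {x : TensorAlgebra A M} (hx : x ∈ W A M n) : extT ρ f hf x ∈ W B N n := by
  refine W_induction (Q := fun n x => extT ρ f hf x ∈ W B N n) (fun r => ?_) (fun n x y _ _ hx hy => ?_)
    (fun n m x _ hx => ?_) hx
  · rw [extT_algebraMap]; exact algebraMap_mem _
  · rw [map_add]; exact Submodule.add_mem _ hx hy
  · rw [map_mul, extT_ι]; exact mul_mem (by omega) (ι_mem _) hx

end ext

end K224.TwoT
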