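import Groth.Agent.DelIll.K224.RelPhi
import Groth.Agent.DelIll.K224.TwoT
import Mathlib.GroupTheory.FreeAbelianGroup

/-!
# The extension in characteristic two: definition and functoriality
-/

set_option autoImplicit false
set_option linter.unusedSectionVars false
set_option linter.style.haveILetI false

open K904 K905 K224.RelM K224.RelPhi K224.TwoT
open K905.TotM (PZ)
open ExteriorAlgebra (ιMulti)

namespace K224.TwoE

variable {p : ℕ} [hp : Fact p.Prime] {P A1 A : Type*} [CommRing P] [CommRing A1] [CommRing A] (D : Dat p P A1 A)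
  [PZ p A] {L : Type*} [AddCommGroup L] [Module A L] {δ : A →+ L} (hδ : IsDer D δ)

/-- The ring homomorphism from the tensor algebra to the forms. -/
noncomputable def FT : TensorAlgebra A1 (T D) →+* ExteriorAlgebra A L :=
  (FF D hδ).comp (TensorAlgebra.toExterior : TensorAlgebra A1 (T D) →ₐ[A1] ExteriorAlgebra A1 (T D)).toRingHom

theorem FT_ι (t : T D) : FT D hδ (TensorAlgebra.ι A1 t) = ExteriorAlgebra.ι A (φ D hδ t) := by
  change FF D hδ (TensorAlgebra.toExterior (TensorAlgebra.ι A1 t)) = _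
  rw [TensorAlgebra.toExterior_ι, FF_ι]

theorem FT_algebraMap (c : A1) : FT D hδ (algebraMap A1 _ c) = algebraMap A _ (D.F c) := by
  change FF D hδ (TensorAlgebra.toExterior (algebraMap A1 _ c)) = _
  rw [AlgHom.commutes, FF_algebraMap]

theorem FT_mem {n : ℕ} {x : TensorAlgebra A1 (T D)} (hx : x ∈ W A1 (T D) n) : FT D hδ x ∈ ⋀[A]^n L := by
  refine W_induction (Q := fun n x => FT D hδ x ∈ ⋀[A]^n L) (fun r => ?_) (fun n x y _ _ hx hy => ?_)
    (fun n m x _ hx => ?_) hx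
  · rw [FT_algebraMap, ExteriorAlgebra.exteriorPower, pow_zero, Submodule.mem_one]
    exact ⟨_, rfl⟩
  · rw [map_add]; exact Submodule.add_mem _ hx hy
  · rw [map_mul, FT_ι, ExteriorAlgebra.exteriorPower, pow_succ']
    exact Submodule.mul_mem_mul ⟨_, rfl⟩ hx

/-- The relations. -/
noncomputable def relS (k : ℕ) : Set (TensorAlgebra A1 (T D) × ExteriorAlgebra A L) :=
  {z | ∃ a b, a + b = k + 1 ∧ ∃ x ∈ W A1 (T D) a, ∃ y ∈ W A1 (T D) b, ∃ s : A,
    z = (x * TensorAlgebra.ι A1 (io D (toFr D s)) * y, s • (FT D hδ x * FT D hδ y))} ∪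
  {z | ∃ a b, a + b = k ∧ ∃ x ∈ W A1 (T D) a, ∃ y ∈ W A1 (T D) b, ∃ t t' : T D,
    z = (x * (TensorAlgebra.ι A1 t * TensorAlgebra.ι A1 t' + TensorAlgebra.ι A1 t' * TensorAlgebra.ι A1 t) * y, 0)} ∪
  {z | ∃ a b, a + b = k ∧ ∃ x ∈ W A1 (T D) a, ∃ y ∈ W A1 (T D) b, ∃ c : P,
    z = (x * (TensorAlgebra.ι A1 (br D c) * TensorAlgebra.ι A1 (br D c)) * y,
      FT D hδ x * (D.α c ^ 3 • ExteriorAlgebra.ι A (δ (D.α c))) * FT D hδ y)} ∪
  {z | ∃ b : Fin (k + 1) → A, z = (0, ιMulti A (k + 1) (fun i => δ (b i)))}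

/-- The relations. -/
noncomputable def rel (k : ℕ) : AddSubgroup (TensorAlgebra A1 (T D) × ExteriorAlgebra A L) := AddSubgroup.closure (relS D hδ k)

/-- The extension. -/
noncomputable abbrev E (k : ℕ) : Type _ := (TensorAlgebra A1 (T D) × ExteriorAlgebra A L) ⧸ rel D hδ k

/-- The projection. -/
noncomputable def mk (k : ℕ) : TensorAlgebra A1 (T D) × ExteriorAlgebra A L →+ E D hδ k := QuotientAddGroup.mk' _

theorem mk_surjective (k : ℕ) : Function.Surjective (mk D hδ k) := QuotientAddGroup.mk'_surjective _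

theorem mk_eq_zero {k : ℕ} {z : TensorAlgebra A1 (T D) × ExteriorAlgebra A L} : mk D hδ k z = 0 ↔ z ∈ rel D hδ k :=
  QuotientAddGroup.eq_zero_iff z

/-- The subgroup of elements of the right degree. -/
noncomputable def P2 (k : ℕ) : AddSubgroup (E D hδ k) where
  carrier := {e | ∃ w ∈ W A1 (T D) (k + 2), ∃ ω ∈ ⋀[A]^(k + 1) L, e = mk D hδ k (w, ω)}
  zero_mem' := ⟨0, Submodule.zero_mem _, 0, Submodule.zero_mem _, (map_zero _).symm⟩
  add_mem' := by
    rintro _ _ ⟨w, hw, ω, hω, rfl⟩ ⟨w', hw', ω', hω', rfl⟩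
    exact ⟨w + w', Submodule.add_mem _ hw hw', ω + ω', Submodule.add_mem _ hω hω', (map_add _ _ _).symm⟩
  neg_mem' := by
    rintro _ ⟨w, hw, ω, hω, rfl⟩
    exact ⟨-w, Submodule.neg_mem _ hw, -ω, Submodule.neg_mem _ hω, (map_neg _ _).symm⟩

/-- The inclusion of forms. -/
noncomputable def κ (k : ℕ) : ExteriorAlgebra A L →+ E D hδ k := (mk D hδ k).comp (AddMonoidHom.inr _ _)

theorem κ_apply (k : ℕ) (ω : ExteriorAlgebra A L) : κ D hδ k ω = mk D hδ k (0, ω) := rfl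

variable (δ) in
/-- The differential on words. -/
noncomputable def bd (k : ℕ) : FreeAbelianGroup (Fin (k + 1) → A) →+ ExteriorAlgebra A L :=
  FreeAbelianGroup.lift (fun b => ιMulti A (k + 1) (fun i => δ (b i)))

theorem bd_of (k : ℕ) (b : Fin (k + 1) → A) : bd δ k (FreeAbelianGroup.of b) = ιMulti A (k + 1) (fun i => δ (b i)) :=
  FreeAbelianGroup.lift_apply_of _ _

theorem bd_mem (k : ℕ) (b : FreeAbelianGroup (Fin (k + 1) → A)) : bd δ k b ∈ ⋀[A]^(k + 1) L := by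
  induction b using FreeAbelianGroup.induction_on with
  | zero => rw [map_zero]; exact Submodule.zero_mem _
  | of b => rw [bd_of]; exact ExteriorAlgebra.ιMulti_range _ _ ⟨_, rfl⟩
  | neg b hb => rw [map_neg]; exact Submodule.neg_mem _ hb
  | add a b ha hb => rw [map_add]; exact Submodule.add_mem _ ha hb

theorem κ_bd (k : ℕ) (b : FreeAbelianGroup (Fin (k + 1) → A)) : κ D hδ k (bd δ k b) = 0 := by
  induction b using FreeAbelianGroup.induction_on with
  | zero => rw [map_zero, map_zero]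
  | of b =>
    rw [bd_of, κ_apply, mk_eq_zero]
    exact AddSubgroup.subset_closure (Or.inr ⟨b, rfl⟩)
  | neg b hb => rw [map_neg, map_neg, hb, neg_zero]
  | add a b ha hb => rw [map_add, map_add, ha, hb, add_zero]

/-- The total group. -/
noncomputable abbrev TT (k : ℕ) : Type _ := FreeAbelianGroup (Fin (k + 1) → A) × ExteriorAlgebra A L × E D hδ k

/-- The differential. -/
noncomputable def dT (k : ℕ) : TT D hδ k →+ TT D hδ k :=
  AddMonoidHom.mk' (fun z => (0, bd δ k z.1, κ D hδ k z.2.1)) (fun a b => by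
    rw [Prod.fst_add, Prod.snd_add, Prod.fst_add, map_add, map_add, Prod.mk_add_mk, Prod.mk_add_mk, add_zero])

theorem dT_apply (k : ℕ) (z : TT D hδ k) : dT D hδ k z = (0, bd δ k z.1, κ D hδ k z.2.1) := rfl

theorem dT_dT (k : ℕ) (z : TT D hδ k) : dT D hδ k (dT D hδ k z) = 0 := by
  rw [dT_apply, dT_apply, map_zero, κ_bd]
  rfl

/-- The pieces. -/
noncomputable def PT (k i : ℕ) : AddSubgroup (TT D hδ k) where
  carrier := {z | (i = k ∨ z.1 = 0) ∧ (z.2.1 ∈ ⋀[A]^(k + 1) L ∧ (i = k + 1 ∨ z.2.1 = 0)) ∧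
    (z.2.2 ∈ P2 D hδ k ∧ (i = k + 2 ∨ z.2.2 = 0))}
  zero_mem' := ⟨Or.inr rfl, ⟨Submodule.zero_mem _, Or.inr rfl⟩, ⟨AddSubgroup.zero_mem _, Or.inr rfl⟩⟩
  add_mem' := by
    rintro z w ⟨h1, ⟨h2, h3⟩, ⟨h4, h5⟩⟩ ⟨g1, ⟨g2, g3⟩, ⟨g4, g5⟩⟩
    refine ⟨?_, ⟨Submodule.add_mem _ h2 g2, ?_⟩, ⟨AddSubgroup.add_mem _ h4 g4, ?_⟩⟩
    · rcases h1 with h | h
      · exact Or.inl h
      · rcases g1 with g | g
        · exact Or.inl g
        · exact Or.inr (by rw [Prod.fst_add, h, g, add_zero])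
    · rcases h3 with h | h
      · exact Or.inl h
      · rcases g3 with g | g
        · exact Or.inl g
        · exact Or.inr (by rw [Prod.snd_add, Prod.fst_add, h, g, add_zero])
    · rcases h5 with h | h
      · exact Or.inl h
      · rcases g5 with g | g
        · exact Or.inl g
        · exact Or.inr (by rw [Prod.snd_add, Prod.snd_add, h, g, add_zero])
  neg_mem' := by
    rintro z ⟨h1, ⟨h2, h3⟩, ⟨h4, h5⟩⟩
    refine ⟨?_, ⟨Submodule.neg_mem _ h2, ?_⟩, ⟨AddSubgroup.neg_mem _ h4, ?_⟩⟩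
    · exact h1.imp id fun h => by rw [Prod.fst_neg, h, neg_zero]
    · exact h3.imp id fun h => by rw [Prod.snd_neg, Prod.fst_neg, h, neg_zero]
    · exact h5.imp id fun h => by rw [Prod.snd_neg, Prod.snd_neg, h, neg_zero]

theorem κ_mem (k : ℕ) {ω : ExteriorAlgebra A L} (hω : ω ∈ ⋀[A]^(k + 1) L) : κ D hδ k ω ∈ P2 D hδ k :=
  ⟨0, Submodule.zero_mem _, ω, hω, rfl⟩

theorem dT_mem {k i : ℕ} {z : TT D hδ k} (hz : z ∈ PT D hδ k i) : dT D hδ k z ∈ PT D hδ k (i + 1) := by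
  obtain ⟨h1, ⟨h2, h3⟩, ⟨h4, h5⟩⟩ := hz
  refine ⟨Or.inr rfl, ⟨bd_mem k z.1, ?_⟩, ⟨κ_mem D hδ k h2, ?_⟩⟩
  · exact h1.imp (fun h => by rw [h]) fun h => by
      change bd δ k z.1 = 0
      rw [h, map_zero]
  · exact h3.imp (fun h => by rw [h]) fun h => by
      change κ D hδ k z.2.1 = 0
      rw [h, map_zero]

theorem eq_zero_of_lt {k i : ℕ} (h : k + 2 < i) {z : TT D hδ k} (hz : z ∈ PT D hδ k i) : z = 0 := by
  obtain ⟨h1, ⟨h2, h3⟩, ⟨h4, h5⟩⟩ := hz
  have e1 : z.1 = 0 := h1.resolve_left (by omega)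
  have e2 : z.2.1 = 0 := h3.resolve_left (by omega)
  have e3 : z.2.2 = 0 := h5.resolve_left (by omega)
  exact Prod.ext e1 (Prod.ext e2 e3)

/-! ### Functoriality -/

section fun_

variable {Q B1 B : Type*} [CommRing Q] [CommRing B1] [CommRing B] {G : Dat p Q B1 B} [PZ p B] (m : Mor D G)
  {L' : Type*} [AddCommGroup L'] [Module B L'] {δ' : B →+ L'}
  (hδ' : IsDer G δ') (fL : L →+ L') (hfL : ∀ (a : A) (x : L), fL (a • x) = m.f a • fL x)
  (hfδ : ∀ a, fL (δ a) = δ' (m.f a))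

/-- The map of tensor algebras. -/
noncomputable def mTA : TensorAlgebra A1 (T D) →+* TensorAlgebra B1 (T G) :=
  extT m.f1 (mapT m).toAddMonoidHom (mapT_smul m)

omit [PZ p A] [PZ p B] in
theorem mTA_ι (t : T D) : mTA D m (TensorAlgebra.ι A1 t) = TensorAlgebra.ι B1 (mapT m t) := extT_ι _ _ _ _

omit [PZ p A] [PZ p B] in
theorem mTA_algebraMap (a : A1) : mTA D m (algebraMap A1 _ a) = algebraMap B1 _ (m.f1 a) := extT_algebraMap _ _ _ _

omit [PZ p A] [PZ p B] in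
theorem mTA_mem {n : ℕ} {x : TensorAlgebra A1 (T D)} (hx : x ∈ W A1 (T D) n) : mTA D m x ∈ W B1 (T G) n :=
  extT_mem _ _ _ hx

include hfδ in
theorem extR_FT (x : TensorAlgebra A1 (T D)) :
    Semi.extR m.f fL hfL (FT D hδ x) = FT G hδ' (mTA D m x) := by
  have : (Semi.extR m.f fL hfL).comp (FT D hδ) = (FT G hδ').comp (mTA D m) := by
    refine TwoT.ringHom_ext (fun a => ?_) (fun t => ?_)
    · rw [RingHom.comp_apply, RingHom.comp_apply, FT_algebraMap, Semi.extR_algebraMap, mTA_algebraMap,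
        FT_algebraMap, m.F]
    · rw [RingHom.comp_apply, RingHom.comp_apply, FT_ι, Semi.extR_ι, mTA_ι, FT_ι,
        extR_φ D hδ m hδ' fL hfL hfδ]
  exact RingHom.congr_fun this x

/-- The map on pairs. -/
noncomputable def mPr : TensorAlgebra A1 (T D) × ExteriorAlgebra A L →+ TensorAlgebra B1 (T G) × ExteriorAlgebra B L' :=
  (mTA D m).toAddMonoidHom.prodMap (Semi.extR m.f fL hfL).toAddMonoidHom

omit [PZ p A] [PZ p B] in
theorem mPr_apply (z : TensorAlgebra A1 (T D) × ExteriorAlgebra A L) :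
    mPr D m fL hfL z = (mTA D m z.1, Semi.extR m.f fL hfL z.2) := rfl

include hfδ in
theorem mPr_rel {k : ℕ} {z : TensorAlgebra A1 (T D) × ExteriorAlgebra A L} (hz : z ∈ rel D hδ k) :
    mPr D m fL hfL z ∈ rel G hδ' k := by
  induction hz using AddSubgroup.closure_induction with
  | mem z hz =>
    refine AddSubgroup.subset_closure ?_
    rcases hz with ((⟨a, b, hab, x, hx, y, hy, s, rfl⟩ | ⟨a, b, hab, x, hx, y, hy, t, t', rfl⟩) |
      ⟨a, b, hab, x, hx, y, hy, c, rfl⟩) | ⟨b, rfl⟩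
    · refine Or.inl (Or.inl (Or.inl ⟨a, b, hab, _, mTA_mem D m hx, _, mTA_mem D m hy, m.f s, ?_⟩))
      rw [mPr_apply, map_mul, map_mul, mTA_ι, mapT_io, frMap_toFr, Semi.extR_smul, map_mul,
        extR_FT D hδ m hδ' fL hfL hfδ, extR_FT D hδ m hδ' fL hfL hfδ]
    · refine Or.inl (Or.inl (Or.inr ⟨a, b, hab, _, mTA_mem D m hx, _, mTA_mem D m hy, mapT m t, mapT m t', ?_⟩))
      rw [mPr_apply, map_mul, map_mul, map_add, map_mul, map_mul, mTA_ι, mTA_ι, map_zero]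
    · refine Or.inl (Or.inr ⟨a, b, hab, _, mTA_mem D m hx, _, mTA_mem D m hy, m.fP c, ?_⟩)
      rw [mPr_apply, map_mul, map_mul, map_mul, mTA_ι, mapT_br, map_mul, map_mul, Semi.extR_smul, Semi.extR_ι,
        extR_FT D hδ m hδ' fL hfL hfδ, extR_FT D hδ m hδ' fL hfL hfδ, m.α, hfδ, map_pow]
    · refine Or.inr ⟨fun i => m.f (b i), ?_⟩
      rw [mPr_apply, map_zero, Semi.extR_ιMulti]
      simp only [hfδ]
  | zero => rw [map_zero]; exact AddSubgroup.zero_mem _
  | add x y _ _ hx hy => rw [map_add]; exact AddSubgroup.add_mem _ hx hy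
  | neg x _ hx => rw [map_neg]; exact AddSubgroup.neg_mem _ hx

/-- The map on extensions. -/
noncomputable def mE (k : ℕ) : E D hδ k →+ E G hδ' k :=
  QuotientAddGroup.map _ _ (mPr D m fL hfL) (fun _ hz => mPr_rel D hδ m hδ' fL hfL hfδ hz)

theorem mE_mk (k : ℕ) (z : TensorAlgebra A1 (T D) × ExteriorAlgebra A L) :
    mE D hδ m hδ' fL hfL hfδ k (mk D hδ k z) = mk G hδ' k (mPr D m fL hfL z) := rfl

/-- The map on total groups. -/
noncomputable def mTT (k : ℕ) : TT D hδ k →+ TT G hδ' k :=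
  (FreeAbelianGroup.map (fun b : Fin (k + 1) → A => fun i => m.f (b i))).prodMap
    ((Semi.extR m.f fL hfL).toAddMonoidHom.prodMap (mE D hδ m hδ' fL hfL hfδ k))

theorem mTT_apply (k : ℕ) (z : TT D hδ k) :
    mTT D hδ m hδ' fL hfL hfδ k z = (FreeAbelianGroup.map (fun b : Fin (k + 1) → A => fun i => m.f (b i)) z.1,
      Semi.extR m.f fL hfL z.2.1, mE D hδ m hδ' fL hfL hfδ k z.2.2) := rfl

include hfδ in
omit [PZ p A] [PZ p B] in
theorem extR_bd (k : ℕ) (b : FreeAbelianGroup (Fin (k + 1) → A)) :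
    Semi.extR m.f fL hfL (bd δ k b) =
      bd δ' k (FreeAbelianGroup.map (fun b : Fin (k + 1) → A => fun i => m.f (b i)) b) := by
  induction b using FreeAbelianGroup.induction_on with
  | zero => rw [map_zero, map_zero, map_zero, map_zero]
  | of b =>
    rw [bd_of, FreeAbelianGroup.map_of_apply, bd_of, Semi.extR_ιMulti]
    simp only [hfδ]
  | neg b hb => rw [map_neg, map_neg, hb, map_neg, map_neg]
  | add a b ha hb => rw [map_add, map_add, ha, hb, map_add, map_add]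

theorem mTT_dT (k : ℕ) (z : TT D hδ k) :
    mTT D hδ m hδ' fL hfL hfδ k (dT D hδ k z) = dT G hδ' k (mTT D hδ m hδ' fL hfL hfδ k z) := by
  rw [dT_apply, dT_apply, mTT_apply, mTT_apply, map_zero, extR_bd D m fL hfL hfδ, κ_apply, κ_apply, mE_mk,
    mPr_apply, map_zero]

theorem mTT_mem {k i : ℕ} {z : TT D hδ k} (hz : z ∈ PT D hδ k i) :
    mTT D hδ m hδ' fL hfL hfδ k z ∈ PT G hδ' k i := by
  obtain ⟨h1, ⟨h2, h3⟩, ⟨h4, h5⟩⟩ := hz
  refine ⟨?_, ⟨Semi.extR_mem _ _ _ _ _ h2, ?_⟩, ⟨?_, ?_⟩⟩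
  · exact h1.imp id fun h => by
      change FreeAbelianGroup.map _ z.1 = 0
      rw [h, map_zero]
  · exact h3.imp id fun h => by
      change Semi.extR m.f fL hfL z.2.1 = 0
      rw [h, map_zero]
  · obtain ⟨w, hw, ω, hω, h⟩ := h4
    refine ⟨mTA D m w, mTA_mem D m hw, Semi.extR m.f fL hfL ω, Semi.extR_mem _ _ _ _ _ hω, ?_⟩
    change mE D hδ m hδ' fL hfL hfδ k z.2.2 = _
    rw [h]
    rfl
  · exact h5.imp id fun h => by
      change mE D hδ m hδ' fL hfL hfδ k z.2.2 = 0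
      rw [h, map_zero]

end fun_

/-! ### Identities and compositions -/

section idcomp

omit [PZ p A] in
theorem mapT_id (m : Mor D D) (h0 : ∀ a, m.fP a = a) (h1 : ∀ a, m.f1 a = a) (h2 : ∀ a, m.f a = a) (y : T D) :
    mapT m y = y := by
  refine RelM.hom_ext D (f := (mapT m).toAddMonoidHom) (g := AddMonoidHom.id _) m.f1
    (fun c y => mapT_smul m c y) (fun c y => ?_) (fun a => ?_) (fun s => ?_) y
  · rw [h1]; rfl
  · exact (mapT_br m a).trans (by rw [h0]; rfl)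
  · refine (mapT_io m s).trans ?_
    obtain ⟨s, rfl⟩ := (toFr D).surjective s
    rw [frMap_toFr, h2]
    rfl

omit [PZ p A] in
theorem mapT_comp {Q B1 B : Type*} [CommRing Q] [CommRing B1] [CommRing B] {G : Dat p Q B1 B} (m : Mor D G)
    {Q' C1 C : Type*} [CommRing Q'] [CommRing C1] [CommRing C] {K : Dat p Q' C1 C} (n : Mor G K)
    (k : Mor D K) (h0 : ∀ a, n.fP (m.fP a) = k.fP a) (h1 : ∀ a, n.f1 (m.f1 a) = k.f1 a)
    (h2 : ∀ a, n.f (m.f a) = k.f a) (y : T D) : mapT n (mapT m y) = mapT k y := by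
  refine RelM.hom_ext D
    (f := (mapT n).toAddMonoidHom.comp (mapT m).toAddMonoidHom)
    (g := (mapT k).toAddMonoidHom) k.f1
    (fun c y => ?_) (fun c y => mapT_smul k c y) (fun a => ?_) (fun s => ?_) y
  · change mapT n (mapT m (c • y)) = k.f1 c • mapT n (mapT m y)
    rw [mapT_smul, mapT_smul, h1]
  · change mapT n (mapT m (br D a)) = mapT k (br D a)
    rw [mapT_br, mapT_br, mapT_br, h0]
  · change mapT n (mapT m (io D s)) = mapT k (io D s)
    obtain ⟨s, rfl⟩ := (toFr D).surjective s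
    rw [mapT_io, mapT_io, mapT_io, frMap_toFr, frMap_toFr, frMap_toFr, h2]

theorem mTT_id (m : Mor D D) (h0 : ∀ a, m.fP a = a) (h1 : ∀ a, m.f1 a = a) (h2 : ∀ a, m.f a = a)
    (fL : L →+ L) (hfL : ∀ (a : A) (x : L), fL (a • x) = m.f a • fL x) (hfδ : ∀ a, fL (δ a) = δ (m.f a))
    (hL : ∀ x, fL x = x) (k : ℕ) (z : TT D hδ k) : mTT D hδ m hδ fL hfL hfδ k z = z := by
  have e1 : ∀ x, mTA D m x = x := by
    have : mTA D m = RingHom.id _ := TwoT.ringHom_ext (fun a => by rw [mTA_algebraMap, h1]; rfl)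
      (fun t => by rw [mTA_ι, mapT_id D m h0 h1 h2]; rfl)
    exact fun x => RingHom.congr_fun this x
  have e2 : ∀ x, Semi.extR m.f fL hfL x = x := by
    have : Semi.extR m.f fL hfL = RingHom.id _ := Semi.ringHom_ext
      (fun a => by rw [Semi.extR_algebraMap, h2]; rfl) (fun t => by rw [Semi.extR_ι, hL]; rfl)
    exact fun x => RingHom.congr_fun this x
  obtain ⟨z1, z2, z3⟩ := z
  obtain ⟨w, rfl⟩ := mk_surjective D hδ k z3
  rw [mTT_apply, mE_mk, mPr_apply]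
  dsimp only
  rw [e1, e2, e2]
  refine Prod.ext ?_ rfl
  change FreeAbelianGroup.map _ z1 = z1
  have e3 : (fun b : Fin (k + 1) → A => fun i => m.f (b i)) = id := funext fun b => funext fun i => h2 (b i)
  rw [e3, FreeAbelianGroup.map_id]
  rfl

theorem mTT_comp {Q B1 B : Type*} [CommRing Q] [CommRing B1] [CommRing B] {G : Dat p Q B1 B} [PZ p B] (m : Mor D G)
    {L' : Type*} [AddCommGroup L'] [Module B L'] {δ' : B →+ L'}
    (hδ' : IsDer G δ') (fL : L →+ L') (hfL : ∀ (a : A) (x : L), fL (a • x) = m.f a • fL x)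
    (hfδ : ∀ a, fL (δ a) = δ' (m.f a))
    {Q' C1 C : Type*} [CommRing Q'] [CommRing C1] [CommRing C] {K : Dat p Q' C1 C} [PZ p C] (n : Mor G K)
    {L'' : Type*} [AddCommGroup L''] [Module C L''] {δ'' : C →+ L''}
    (hδ'' : IsDer K δ'') (gL : L' →+ L'') (hgL : ∀ (a : B) (x : L'), gL (a • x) = n.f a • gL x)
    (hgδ : ∀ a, gL (δ' a) = δ'' (n.f a))
    (c : Mor D K) (h0 : ∀ a, n.fP (m.fP a) = c.fP a) (h1 : ∀ a, n.f1 (m.f1 a) = c.f1 a)
    (h2 : ∀ a, n.f (m.f a) = c.f a) (cL : L →+ L'') (hcL : ∀ (a : A) (x : L), cL (a • x) = c.f a • cL x)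
    (hcδ : ∀ a, cL (δ a) = δ'' (c.f a)) (h3 : ∀ x, gL (fL x) = cL x) (k : ℕ) (z : TT D hδ k) :
    mTT G hδ' n hδ'' gL hgL hgδ k (mTT D hδ m hδ' fL hfL hfδ k z) = mTT D hδ c hδ'' cL hcL hcδ k z := by
  have e1 : ∀ x, mTA G n (mTA D m x) = mTA D c x := by
    have : (mTA G n).comp (mTA D m) = mTA D c := TwoT.ringHom_ext
      (fun a => by rw [RingHom.comp_apply, mTA_algebraMap, mTA_algebraMap, mTA_algebraMap, h1])
      (fun t => by rw [RingHom.comp_apply, mTA_ι, mTA_ι, mTA_ι, mapT_comp D m n c h0 h1 h2])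
    exact fun x => RingHom.congr_fun this x
  have e2 : ∀ x, Semi.extR n.f gL hgL (Semi.extR m.f fL hfL x) = Semi.extR c.f cL hcL x := by
    have : (Semi.extR n.f gL hgL).comp (Semi.extR m.f fL hfL) = Semi.extR c.f cL hcL := Semi.ringHom_ext
      (fun a => by rw [RingHom.comp_apply, Semi.extR_algebraMap, Semi.extR_algebraMap, Semi.extR_algebraMap, h2])
      (fun t => by rw [RingHom.comp_apply, Semi.extR_ι, Semi.extR_ι, Semi.extR_ι, h3])
    exact fun x => RingHom.congr_fun this x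
  obtain ⟨z1, z2, z3⟩ := z
  obtain ⟨w, rfl⟩ := mk_surjective D hδ k z3
  rw [mTT_apply, mTT_apply, mTT_apply, mE_mk, mE_mk, mE_mk, mPr_apply, mPr_apply, mPr_apply]
  dsimp only
  rw [e1, e2, e2]
  refine Prod.ext ?_ rfl
  dsimp only
  rw [← FreeAbelianGroup.map_comp_apply]
  congr 2
  funext b i
  exact h2 (b i)

end idcomp

end K224.TwoE
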