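import Groth.Agent.DelIll.K224.TwoR
import Groth.Agent.DelIll.K905.GeoPhi

/-!
# The extension in characteristic two: the local theorem
-/

set_option autoImplicit false
set_option linter.unusedSectionVars false
set_option linter.style.haveILetI false

open K904 K905 Module K224.RelM K224.RelPhi K224.RelCartier K224.RelLocal K224.TwoT K224.TwoE K224.TwoL K224.TwoR
open K905.TotM (PZ)
open K905.TotPhi (IsDR)
open ExteriorAlgebra (ιMulti)

namespace K224.TwoI

variable {p : ℕ} [hp : Fact p.Prime] {P A1 A : Type*} [CommRing P] [CommRing A1] [CommRing A]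
  {D : Dat p P A1 A} [PZ p A] {L : Type*} [AddCommGroup L] [Module A L] {δ : A →+ L}
  {J : Type*} [LinearOrder J] [Fintype J] {e : Basis J A L} {xt : J → P} {lam : P → A}
  (h : Chart D δ e xt lam) (hp2 : p = 2) (h2 : (2 : A) = 0) (hR : ∀ a t, (a, t) ∈ D.Rel → δ t = 0)
  {l : T D →ₗ[A1] (J → A1)} {s : T D →ₗ[A1] Fr D} (hls : IsDec D xt l s)
  {d : ExteriorAlgebra A L →+ ExteriorAlgebra A L} (hd : IsDR δ d) (hc : ∀ z, d (c₀ D e xt z) = 0)

/-- Pullback of a word through the representation. -/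
theorem R_mul (hδ : IsDer D δ) (x y : TensorAlgebra A1 (T D)) (z : Q A1 A L J) :
    R D hδ e xt l s (x * y) z = R D hδ e xt l s x (R D hδ e xt l s y z) := by
  rw [map_mul]; rfl

theorem R_add (hδ : IsDer D δ) (x y : TensorAlgebra A1 (T D)) (z : Q A1 A L J) :
    R D hδ e xt l s (x + y) z = R D hδ e xt l s x z + R D hδ e xt l s y z := by
  rw [map_add]; rfl

include h h2 hls hd hc in
/-- The value on the vacuum. -/
theorem FT_eq (y : TensorAlgebra A1 (T D)) :
    FT D h.der y = c₀ D e xt (R D h.der e xt l s y (1, 0)).1 + d (R D h.der e xt l s y (1, 0)).2 := by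
  rw [inv_R h h2 hls hd hc]
  dsimp only
  rw [map_one, map_zero, add_zero, mul_one]

/-- The retraction, on pairs. -/
noncomputable def ret (D : Dat p P A1 A) (hδ : IsDer D δ) (e : Basis J A L) (xt : J → P)
    (l : T D →ₗ[A1] (J → A1)) (s : T D →ₗ[A1] Fr D) :
    TensorAlgebra A1 (T D) × ExteriorAlgebra A L →+ ExteriorAlgebra A L :=
  AddMonoidHom.mk' (fun z => (R D hδ e xt l s z.1 (1, 0)).2 + z.2) (fun a b => by
    rw [Prod.fst_add, R_add, Prod.snd_add, Prod.snd_add]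
    abel)

theorem ret_apply (hδ : IsDer D δ) (z : TensorAlgebra A1 (T D) × ExteriorAlgebra A L) :
    ret D hδ e xt l s z = (R D hδ e xt l s z.1 (1, 0)).2 + z.2 := rfl

include h h2 hls hd hc hp2 hR in
/-- The retraction sends the relations to exact forms. -/
theorem ret_rel {k : ℕ} {z : TensorAlgebra A1 (T D) × ExteriorAlgebra A L} (hz : z ∈ rel D h.der k) :
    ∃ η, ret D h.der e xt l s z = d η := by
  induction hz using AddSubgroup.closure_induction with
  | mem z hz =>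
    rcases hz with ((⟨a, b, hab, x, hx, y, hy, t, rfl⟩ | ⟨a, b, hab, x, hx, y, hy, t, t', rfl⟩) |
      ⟨a, b, hab, x, hx, y, hy, c, rfl⟩) | ⟨b, rfl⟩
    · rw [ret_apply]
      dsimp only
      rw [R_mul, R_mul, R_ι, op_io h.der hls, R_snd, FT_eq h h2 hls hd hc y]
      dsimp only
      generalize R D h.der e xt l s y (1, 0) = v
      refine ⟨FT D h.der x * (t • v.2), ?_⟩
      rw [d_mul h2 hd, d_FT h hd, zero_mul, zero_add, hd.smul, ← mul_smul_comm, ← mul_add, smul_add]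
      congr 1
      have e1 : ExteriorAlgebra.ι A (δ t) * v.2 + t • c₀ D e xt v.1 + (t • c₀ D e xt v.1 + t • d v.2) =
          ExteriorAlgebra.ι A (δ t) * v.2 + t • d v.2 + (t • c₀ D e xt v.1 + t • c₀ D e xt v.1) := by abel
      rw [e1, add_self h2, add_zero]
    · rw [ret_apply]
      dsimp only
      rw [R_mul, R_mul, R_add, R_mul, R_mul, R_ι, R_ι, op_comm h h2 hls hd hc, R_snd]
      dsimp only
      rw [add_zero]
      exact ⟨FT D h.der x * (((toFr D).symm (s t) * (toFr D).symm (s t')) •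
          c₀ D e xt (R D h.der e xt l s y (1, 0)).1 +
        (toFr D).symm (s t) • Ct D e xt (l t') (R D h.der e xt l s y (1, 0)).1 +
        (toFr D).symm (s t') • Ct D e xt (l t) (R D h.der e xt l s y (1, 0)).1), by
          rw [d_mul h2 hd (FT D h.der x), d_FT h hd, zero_mul, zero_add]⟩
    · rw [ret_apply]
      dsimp only
      rw [R_mul, R_mul, R_mul, R_ι, op_sq h h2 hls hd hc, R_snd, FT_eq h h2 hls hd hc y]
      dsimp only
      obtain ⟨u, hu⟩ := psi_formula h hR hp2 hls c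
      have e1 : (toFr D).symm (s (br D c)) • ExteriorAlgebra.ι A (δ ((toFr D).symm (s (br D c)))) +
          ∑ j, D.F (l (br D c) j) ^ 2 • ψj D e xt j =
          D.α c ^ 3 • ExteriorAlgebra.ι A (δ (D.α c)) + ExteriorAlgebra.ι A (δ u) := by
        have e2 := congrArg (ExteriorAlgebra.ι A) hu
        rw [map_smul, map_add, map_add, map_smul, map_sum] at e2
        have e3 : ∑ j, ExteriorAlgebra.ι A (D.F (l (br D c) j) ^ 2 • (D.α (xt j) ^ 3 • e j)) =
            ∑ j, D.F (l (br D c) j) ^ 2 • ψj D e xt j :=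
          Finset.sum_congr rfl fun j _ => by rw [map_smul, map_smul]; rfl
        rw [e2, e3, add_assoc _ (ExteriorAlgebra.ι A (δ u)), add_self h2, add_zero]
      rw [e1]
      generalize R D h.der e xt l s y (1, 0) = v
      generalize (toFr D).symm (s (br D c)) • Ct D e xt (l (br D c)) v.1 = K
      refine ⟨FT D h.der x * (u • c₀ D e xt v.1 + K + (D.α c ^ 3 • ExteriorAlgebra.ι A (δ (D.α c))) * v.2), ?_⟩
      rw [d_mul h2 hd (FT D h.der x), d_FT h hd, zero_mul, zero_add, map_add, map_add, hd.smul u, hc, smul_zero, add_zero,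
        d_mul h2 hd _ v.2, d_cube h2 hd, zero_mul, zero_add, mul_assoc (FT D h.der x), ← mul_add]
      congr 1
      generalize D.α c ^ 3 • ExteriorAlgebra.ι A (δ (D.α c)) = m
      generalize ExteriorAlgebra.ι A (δ u) = n
      generalize c₀ D e xt v.1 = y'
      have e3 : (m + n) * y' + d K + m * (y' + d v.2) = n * y' + d K + m * d v.2 + (m * y' + m * y') := by
        rw [add_mul, mul_add]
        abel
      rw [e3, add_self h2, add_zero]
    · rw [ret_apply]
      dsimp only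
      rw [map_zero]
      refine ⟨b 0 • ιMulti A k (fun i => δ (b i.succ)), ?_⟩
      rw [hd.rule]
      have e1 : (0 : AddMonoid.End (Q A1 A L J)) (1, 0) = 0 := rfl
      rw [e1]
      change (0 : ExteriorAlgebra A L) + _ = _
      rw [zero_add]
      congr 1
      funext i
      refine Fin.cases ?_ (fun i => ?_) i <;> rfl
  | zero => exact ⟨0, by rw [map_zero, map_zero]⟩
  | add x y _ _ hx hy =>
    obtain ⟨η, hη⟩ := hx
    obtain ⟨η', hη'⟩ := hy
    exact ⟨η + η', by rw [map_add, map_add, hη, hη']⟩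
  | neg x _ hx =>
    obtain ⟨η, hη⟩ := hx
    exact ⟨-η, by rw [map_neg, map_neg, hη]⟩

/-! ### Exactness in the middle -/

include h h2 hls hd hc hp2 hR in
theorem exact1 {H : ExteriorAlgebra A L →+ ExteriorAlgebra A L}
    {r : ExteriorAlgebra A L →+ ExteriorAlgebra A1 (J → A1)}
    (m1 : ∀ y, d (H y) + H (d y) = y - c₀ D e xt (r y)) (m3 : ∀ y, r (d y) = 0) (dd : ∀ y, d (d y) = 0)
    (m7 : ∀ n, ∀ y ∈ ⋀[A]^(n + 1) L, H y ∈ ⋀[A]^n L)
    (hspan : ∀ m : L, m ∈ Submodule.span A (Set.range δ)) {k : ℕ} {ω : ExteriorAlgebra A L}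
    (hω : ω ∈ ⋀[A]^(k + 1) L) (hκ : κ D h.der k ω = 0) : ∃ b, bd δ k b = ω := by
  rw [κ_apply, mk_eq_zero] at hκ
  obtain ⟨η, hη⟩ := ret_rel h hp2 h2 hR hls hd hc hκ
  rw [ret_apply] at hη
  dsimp only at hη
  rw [map_zero] at hη
  have e0 : (0 : AddMonoid.End (Q A1 A L J)) (1, 0) = 0 := rfl
  rw [e0] at hη
  have e1 : ω = d η := by
    rw [← hη]
    change ω = (0 : ExteriorAlgebra A L) + ω
    rw [zero_add]
  have e2 := m1 ω
  have e3 : d ω = 0 := by rw [e1, dd]
  have e4 : r ω = 0 := by rw [e1, m3]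
  rw [e3, map_zero, add_zero, e4, map_zero, sub_zero] at e2
  have e5 := GeoPhi.mem_closure δ hspan k (H ω) (m7 k ω hω)
  have e6 : ∀ y ∈ AddSubgroup.closure {z | ∃ (b₀ : A) (b : Fin k → A), z = b₀ • ιMulti A k (fun i => δ (b i))},
      ∃ b, bd δ k b = d y := by
    intro y hy
    induction hy using AddSubgroup.closure_induction with
    | mem y hy =>
      obtain ⟨b₀, b, rfl⟩ := hy
      refine ⟨FreeAbelianGroup.of (Fin.cons b₀ b), ?_⟩
      rw [bd_of, hd.rule]
      congr 1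
      funext i
      refine Fin.cases ?_ (fun i => ?_) i <;> rfl
    | zero => exact ⟨0, by rw [map_zero, map_zero]⟩
    | add x y _ _ hx hy =>
      obtain ⟨b, hb⟩ := hx
      obtain ⟨b', hb'⟩ := hy
      exact ⟨b + b', by rw [map_add, map_add, hb, hb']⟩
    | neg x _ hx =>
      obtain ⟨b, hb⟩ := hx
      exact ⟨-b, by rw [map_neg, map_neg, hb]⟩
  obtain ⟨b, hb⟩ := e6 _ e5
  exact ⟨b, hb.trans e2⟩

/-! ### The map to forms -/

/-- The map to forms, on pairs. -/
noncomputable def pre (hδ : IsDer D δ) (d : ExteriorAlgebra A L →+ ExteriorAlgebra A L) :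
    TensorAlgebra A1 (T D) × ExteriorAlgebra A L →+ ExteriorAlgebra A L :=
  AddMonoidHom.mk' (fun z => FT D hδ z.1 + d z.2) (fun a b => by
    rw [Prod.fst_add, Prod.snd_add, map_add, map_add]
    abel)

theorem pre_apply (hδ : IsDer D δ) (z : TensorAlgebra A1 (T D) × ExteriorAlgebra A L) :
    pre hδ d z = FT D hδ z.1 + d z.2 := rfl

theorem d_ιMulti (hd : IsDR δ d) {n : ℕ} (b : Fin n → A) : d (ιMulti A n (fun i => δ (b i))) = 0 := by
  have h1 := hd.rule 1 b
  have h2 : δ 1 = 0 := by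
    have := hd.leib 1 1
    rw [mul_one, one_smul] at this
    exact left_eq_add.1 this
  rw [one_smul, h2] at h1
  rw [h1]
  exact MultilinearMap.map_coord_zero (ιMulti A (n + 1) (M := L)).toMultilinearMap (0 : Fin (n + 1)) rfl

include h2 in
theorem pre_rel (hδ : IsDer D δ) (hd : IsDR δ d) {k : ℕ} {z : TensorAlgebra A1 (T D) × ExteriorAlgebra A L}
    (hz : z ∈ rel D hδ k) : pre hδ d z = 0 := by
  have dFT : ∀ w, d (FT D hδ w) = 0 := fun w => d_FF D hδ hd _
  induction hz using AddSubgroup.closure_induction with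
  | mem z hz =>
    rcases hz with ((⟨a, b, hab, x, hx, y, hy, t, rfl⟩ | ⟨a, b, hab, x, hx, y, hy, t, t', rfl⟩) |
      ⟨a, b, hab, x, hx, y, hy, c, rfl⟩) | ⟨b, rfl⟩
    · rw [pre_apply]
      dsimp only
      rw [map_mul, map_mul, FT_ι, φ_io, δF_toFr, hd.smul, ← map_mul, dFT, smul_zero, add_zero, map_mul,
        comm h2 (FT D hδ x) (ExteriorAlgebra.ι A (δ t)), mul_assoc, add_self h2]
    · rw [pre_apply]
      dsimp only
      rw [map_mul, map_mul, map_add, map_mul, map_mul, FT_ι, FT_ι, ExteriorAlgebra.ι_add_mul_swap, mul_zero,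
        zero_mul, map_zero, add_zero]
    · rw [pre_apply]
      dsimp only
      rw [map_mul, map_mul, map_mul, FT_ι, ExteriorAlgebra.ι_sq_zero, mul_zero, zero_mul, zero_add,
        d_mul h2 hd, d_mul h2 hd, dFT, dFT, d_cube h2 hd, mul_zero, zero_mul, add_zero, mul_zero, add_zero, zero_mul]
    · rw [pre_apply]
      dsimp only
      rw [map_zero, d_ιMulti hd, add_zero]
  | zero => rw [map_zero]
  | add x y _ _ hx hy => rw [map_add, hx, hy, add_zero]
  | neg x _ hx => rw [map_neg, hx, neg_zero]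

/-- The map to forms. -/
noncomputable def ΘE (h2 : (2 : A) = 0) (hδ : IsDer D δ) (hd : IsDR δ d) (k : ℕ) :
    E D hδ k →+ ExteriorAlgebra A L :=
  QuotientAddGroup.lift _ (pre hδ d) (fun _ hz => pre_rel h2 hδ hd hz)

theorem ΘE_mk (hδ : IsDer D δ) (k : ℕ) (z : TensorAlgebra A1 (T D) × ExteriorAlgebra A L) :
    ΘE h2 hδ hd k (mk D hδ k z) = FT D hδ z.1 + d z.2 := rfl

/-! ### The top degree -/

/-- The projection to the model. -/
noncomputable def mL (l : T D →ₗ[A1] (J → A1)) : TensorAlgebra A1 (T D) →ₐ[A1] TensorAlgebra A1 (J → A1) :=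
  TensorAlgebra.lift A1 ((TensorAlgebra.ι A1).comp l)

/-- The section from the model. -/
noncomputable def mσ (D : Dat p P A1 A) (xt : J → P) : TensorAlgebra A1 (J → A1) →ₐ[A1] TensorAlgebra A1 (T D) :=
  TensorAlgebra.lift A1 ((TensorAlgebra.ι A1).comp (σ D xt))

theorem mL_ι (t : T D) : mL l (TensorAlgebra.ι A1 t) = TensorAlgebra.ι A1 (l t) := by
  rw [mL, TensorAlgebra.lift_ι_apply]; rfl

theorem mσ_ι (v : J → A1) : mσ D xt (TensorAlgebra.ι A1 v) = TensorAlgebra.ι A1 (σ D xt v) := by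
  rw [mσ, TensorAlgebra.lift_ι_apply]; rfl

theorem mL_mem {n : ℕ} {x : TensorAlgebra A1 (T D)} (hx : x ∈ W A1 (T D) n) : mL l x ∈ W A1 (J → A1) n := by
  refine W_induction (Q := fun n x => mL l x ∈ W A1 (J → A1) n) (fun r => ?_) (fun n x y _ _ hx hy => ?_)
    (fun n m x _ hx => ?_) hx
  · rw [AlgHom.commutes]; exact algebraMap_mem _
  · rw [map_add]; exact Submodule.add_mem _ hx hy
  · rw [map_mul, mL_ι]; exact TwoT.mul_mem (by omega) (ι_mem _) hx

theorem mσ_mem {n : ℕ} {x : TensorAlgebra A1 (J → A1)} (hx : x ∈ W A1 (J → A1) n) : mσ D xt x ∈ W A1 (T D) n := by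
  refine W_induction (Q := fun n x => mσ D xt x ∈ W A1 (T D) n) (fun r => ?_) (fun n x y _ _ hx hy => ?_)
    (fun n m x _ hx => ?_) hx
  · rw [AlgHom.commutes]; exact algebraMap_mem _
  · rw [map_add]; exact Submodule.add_mem _ hx hy
  · rw [map_mul, mσ_ι]; exact TwoT.mul_mem (by omega) (ι_mem _) hx

theorem R_fst (hδ : IsDer D δ) (w : TensorAlgebra A1 (T D)) (z : Q A1 A L J) :
    (R D hδ e xt l s w z).1 = TensorAlgebra.toExterior (mL l w) * z.1 := by
  induction w using TensorAlgebra.induction generalizing z with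
  | algebraMap c =>
    rw [R_algebraMap, act_apply, AlgHom.commutes, AlgHom.commutes, ← Algebra.smul_def]
  | ι t => rw [R_ι, op_apply, mL_ι, TensorAlgebra.toExterior_ι]
  | mul a b ha hb => rw [R_mul, ha, hb, map_mul, map_mul, mul_assoc]
  | add a b ha hb => rw [R_add, Prod.fst_add, ha, hb, map_add, map_add, add_mul]

include h in
theorem FT_mσ (w : TensorAlgebra A1 (J → A1)) :
    FT D h.der (mσ D xt w) = c₀ D e xt (TensorAlgebra.toExterior w) := by
  have : (FT D h.der).comp (mσ D xt).toRingHom = (c₀ D e xt).comp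
      (TensorAlgebra.toExterior : TensorAlgebra A1 (J → A1) →ₐ[A1] ExteriorAlgebra A1 (J → A1)).toRingHom := by
    refine TwoT.ringHom_ext (fun a => ?_) (fun v => ?_)
    · change FT D h.der (mσ D xt (algebraMap A1 _ a)) = c₀ D e xt (TensorAlgebra.toExterior (algebraMap A1 _ a))
      rw [AlgHom.commutes, AlgHom.commutes, FT_algebraMap, c0_algebraMap]
    · change FT D h.der (mσ D xt (TensorAlgebra.ι A1 v)) = c₀ D e xt (TensorAlgebra.toExterior (TensorAlgebra.ι A1 v))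
      rw [mσ_ι, FT_ι, TensorAlgebra.toExterior_ι, c0_ι, φ_σ h]
  exact RingHom.congr_fun this w

/-! ### Reduction of words -/

section words

variable (hδ : IsDer D δ) {k : ℕ}

theorem smul_FT_mem {n : ℕ} (t : A) {a b : ℕ} (hab : a + b = n) {x y : TensorAlgebra A1 (T D)}
    (hx : x ∈ W A1 (T D) a) (hy : y ∈ W A1 (T D) b) : t • (FT D hδ x * FT D hδ y) ∈ ⋀[A]^n L := by
  refine Submodule.smul_mem _ _ ?_
  rw [← map_mul]
  exact FT_mem D hδ (TwoT.mul_mem hab hx hy)

/-- A word containing a symbol `io` is a form. -/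
theorem io_word {a b : ℕ} (hab : a + b = k + 1) {x y : TensorAlgebra A1 (T D)}
    (hx : x ∈ W A1 (T D) a) (hy : y ∈ W A1 (T D) b) (t : Fr D) :
    ∃ ω ∈ ⋀[A]^(k + 1) L, (x * TensorAlgebra.ι A1 (io D t) * y, ω) ∈ rel D hδ k := by
  obtain ⟨t, rfl⟩ := (toFr D).surjective t
  exact ⟨_, smul_FT_mem hδ t hab hx hy, AddSubgroup.subset_closure
    (Or.inl (Or.inl (Or.inl ⟨a, b, hab, x, hx, y, hy, t, rfl⟩)))⟩

/-- A word containing a square is a form. -/
theorem sq_word {a b : ℕ} (hab : a + b = k) (t : T D) : ∀ {x y : TensorAlgebra A1 (T D)}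
    (_ : x ∈ W A1 (T D) a) (_ : y ∈ W A1 (T D) b),
    ∃ ω ∈ ⋀[A]^(k + 1) L, (x * (TensorAlgebra.ι A1 t * TensorAlgebra.ι A1 t) * y, ω) ∈ rel D hδ k := by
  induction t using RelM.induction with
  | h1 c z =>
    intro x y hx hy
    have hx' : (c * c) • x ∈ W A1 (T D) a := Submodule.smul_mem _ _ hx
    refine ⟨FT D hδ ((c * c) • x) * (D.α z ^ 3 • ExteriorAlgebra.ι A (δ (D.α z))) * FT D hδ y, ?_, ?_⟩
    · have e1 := Submodule.mul_mem_mul (Submodule.mul_mem_mul (FT_mem D hδ hx')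
        (show D.α z ^ 3 • ExteriorAlgebra.ι A (δ (D.α z)) ∈ ⋀[A]^1 L by
          rw [ExteriorAlgebra.exteriorPower, pow_one]
          exact Submodule.smul_mem _ _ ⟨_, rfl⟩)) (FT_mem D hδ hy)
      rw [ExteriorAlgebra.exteriorPower, ExteriorAlgebra.exteriorPower, ExteriorAlgebra.exteriorPower, ← pow_add,
        ← pow_add, show a + 1 + b = k + 1 by omega] at e1
      exact e1
    · have e2 : x * (TensorAlgebra.ι A1 (c • br D z) * TensorAlgebra.ι A1 (c • br D z)) * y =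
          ((c * c) • x) * (TensorAlgebra.ι A1 (br D z) * TensorAlgebra.ι A1 (br D z)) * y := by
        rw [map_smul, smul_mul_smul_comm, mul_smul_comm, smul_mul_assoc (c * c) x]
      rw [e2]
      exact AddSubgroup.subset_closure (Or.inl (Or.inr ⟨a, b, hab, _, hx', y, hy, z, rfl⟩))
  | h2 z =>
    intro x y hx hy
    obtain ⟨ω, hω, h1⟩ := io_word hδ (k := k) (a := a) (b := b + 1) (by omega) hx
      (TwoT.mul_mem (n := b + 1) (by omega) (ι_mem (R := A1) (io D z)) hy) z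
    refine ⟨ω, hω, ?_⟩
    rwa [← mul_assoc, mul_assoc x] at h1
  | hadd t t' ht ht' =>
    intro x y hx hy
    obtain ⟨ω, hω, h1⟩ := ht hx hy
    obtain ⟨ω', hω', h1'⟩ := ht' hx hy
    have h3 : (x * (TensorAlgebra.ι A1 t * TensorAlgebra.ι A1 t' + TensorAlgebra.ι A1 t' * TensorAlgebra.ι A1 t) * y,
        (0 : ExteriorAlgebra A L)) ∈ rel D hδ k :=
      AddSubgroup.subset_closure (Or.inl (Or.inl (Or.inr ⟨a, b, hab, x, hx, y, hy, t, t', rfl⟩)))
    refine ⟨ω + ω' + 0, Submodule.add_mem _ (Submodule.add_mem _ hω hω') (Submodule.zero_mem _), ?_⟩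
    have h4 := AddSubgroup.add_mem _ (AddSubgroup.add_mem _ h1 h1') h3
    rw [Prod.mk_add_mk, Prod.mk_add_mk] at h4
    have e1 : x * (TensorAlgebra.ι A1 (t + t') * TensorAlgebra.ι A1 (t + t')) * y =
        x * (TensorAlgebra.ι A1 t * TensorAlgebra.ι A1 t) * y + x * (TensorAlgebra.ι A1 t' * TensorAlgebra.ι A1 t') * y +
        x * (TensorAlgebra.ι A1 t * TensorAlgebra.ι A1 t' + TensorAlgebra.ι A1 t' * TensorAlgebra.ι A1 t) * y := by
      rw [map_add]
      noncomm_ring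
    rw [e1]
    exact h4

variable (hls' : IsDec D xt l s)
include hls'

/-- Every word is congruent to a word in the symbols of the coordinates. -/
theorem red_word (b : ℕ) : ∀ a, a + b = k + 2 → ∀ x ∈ W A1 (T D) a, ∀ y ∈ W A1 (T D) b,
    ∃ ω ∈ ⋀[A]^(k + 1) L, (x * y - x * mσ D xt (mL l y), ω) ∈ rel D hδ k := by
  intro a hab x hx y hy
  revert a x
  refine W_induction (Q := fun b y => ∀ a, a + b = k + 2 → ∀ x ∈ W A1 (T D) a,
    ∃ ω ∈ ⋀[A]^(k + 1) L, (x * y - x * mσ D xt (mL l y), ω) ∈ rel D hδ k)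
    (fun r => ?_) (fun n y y' _ _ hy hy' => ?_) (fun n m y hyn hy => ?_) hy
  · intro a hab x hx
    refine ⟨0, Submodule.zero_mem _, ?_⟩
    rw [AlgHom.commutes, AlgHom.commutes, sub_self]
    exact AddSubgroup.zero_mem _
  · intro a hab x hx
    obtain ⟨ω, hω, h1⟩ := hy a hab x hx
    obtain ⟨ω', hω', h1'⟩ := hy' a hab x hx
    refine ⟨ω + ω', Submodule.add_mem _ hω hω', ?_⟩
    have h4 := AddSubgroup.add_mem _ h1 h1'
    rw [Prod.mk_add_mk] at h4
    have e1 : x * (y + y') - x * mσ D xt (mL l (y + y')) =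
        x * y - x * mσ D xt (mL l y) + (x * y' - x * mσ D xt (mL l y')) := by
      rw [map_add, map_add]
      noncomm_ring
    rw [e1]
    exact h4
  · intro a hab x hx
    have hx1 : x * TensorAlgebra.ι A1 (σ D xt (l m)) ∈ W A1 (T D) (a + 1) := TwoT.mul_mem rfl hx (ι_mem _)
    obtain ⟨ω, hω, h1⟩ := hy (a + 1) (by omega) _ hx1
    obtain ⟨ω', hω', h2⟩ := io_word hδ (k := k) (a := a) (b := n) (by omega) hx hyn (s m)
    refine ⟨ω + ω', Submodule.add_mem _ hω hω', ?_⟩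
    have h4 := AddSubgroup.add_mem _ h1 h2
    rw [Prod.mk_add_mk] at h4
    have e0 : TensorAlgebra.ι A1 m = TensorAlgebra.ι A1 (σ D xt (l m)) + TensorAlgebra.ι A1 (io D (s m)) := by
      rw [← map_add, σ_apply, ← hls'.eq m]
    have e1 : x * (TensorAlgebra.ι A1 m * y) - x * mσ D xt (mL l (TensorAlgebra.ι A1 m * y)) =
        x * TensorAlgebra.ι A1 (σ D xt (l m)) * y -
          x * TensorAlgebra.ι A1 (σ D xt (l m)) * mσ D xt (mL l y) + x * TensorAlgebra.ι A1 (io D (s m)) * y := by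
      rw [map_mul, map_mul, mL_ι, mσ_ι, e0]
      noncomm_ring
    rw [e1]
    exact h4

omit hls' in
/-- The words of the model killed in the exterior algebra. -/
theorem model_word {w : TensorAlgebra A1 (J → A1)} (hw : w ∈ W A1 (J → A1) (k + 2))
    (h0 : TensorAlgebra.toExterior w = 0) : ∃ ω ∈ ⋀[A]^(k + 1) L, (mσ D xt w, ω) ∈ rel D hδ k := by
  have hcl := mem_closure_sqn hw h0
  clear hw h0
  induction hcl using AddSubgroup.closure_induction with
  | mem z hz =>
    obtain ⟨a, b, hab, x, hx, y, hy, m, rfl⟩ := hz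
    obtain ⟨ω, hω, h1⟩ := sq_word hδ (k := k) (a := a) (b := b) (by omega) (σ D xt m) (mσ_mem hx) (mσ_mem hy)
    refine ⟨ω, hω, ?_⟩
    rw [map_mul, map_mul, map_mul, mσ_ι]
    exact h1
  | zero => exact ⟨0, Submodule.zero_mem _, by rw [map_zero]; exact AddSubgroup.zero_mem _⟩
  | add x y _ _ hx hy =>
    obtain ⟨ω, hω, h1⟩ := hx
    obtain ⟨ω', hω', h1'⟩ := hy
    refine ⟨ω + ω', Submodule.add_mem _ hω hω', ?_⟩
    have h4 := AddSubgroup.add_mem _ h1 h1'
    rwa [Prod.mk_add_mk, ← map_add] at h4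
  | neg x _ hx =>
    obtain ⟨ω, hω, h1⟩ := hx
    refine ⟨-ω, Submodule.neg_mem _ hω, ?_⟩
    have h4 := AddSubgroup.neg_mem _ h1
    rwa [Prod.neg_mk, ← map_neg] at h4

end words

include h h2 hls hc in
/-- **Top degree, injectivity.** -/
theorem top_inj {r : ExteriorAlgebra A L →+ ExteriorAlgebra A1 (J → A1)}
    (m2 : ∀ y, r (c₀ D e xt y) = y) (m3 : ∀ y, r (d y) = 0)
    {k : ℕ} {x : E D h.der k} (hx : x ∈ P2 D h.der k) {b : ExteriorAlgebra A L}
    (hb : ΘE h2 h.der hd k x = d b) : ∃ ω ∈ ⋀[A]^(k + 1) L, κ D h.der k ω = x := by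
  obtain ⟨w, hw, ω, hω, rfl⟩ := hx
  rw [ΘE_mk] at hb
  dsimp only at hb
  have e1 := FT_eq h h2 hls hd hc w
  rw [R_fst] at e1
  dsimp only at e1
  rw [mul_one] at e1
  have e2 := congrArg r hb
  rw [e1, map_add, map_add, m2, m3, m3, m3, add_zero, add_zero] at e2
  obtain ⟨ω', hω', h1⟩ := model_word (xt := xt) (D := D) (k := k) h.der (mL_mem (l := l) hw) e2
  obtain ⟨ω'', hω'', h3⟩ := red_word (k := k) h.der hls (k + 2) 0 (by omega) 1 TwoT.one_mem w hw
  have h4 := AddSubgroup.add_mem _ h1 h3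
  rw [Prod.mk_add_mk, one_mul, one_mul, add_sub_cancel] at h4
  refine ⟨ω - (ω' + ω''), Submodule.sub_mem _ hω (Submodule.add_mem _ hω' hω''), ?_⟩
  rw [κ_apply, ← sub_eq_zero, ← map_sub, mk_eq_zero]
  have e5 : ((0 : TensorAlgebra A1 (T D)), ω - (ω' + ω'')) - (w, ω) = -(w, ω' + ω'') := by
    rw [Prod.mk_sub_mk, Prod.neg_mk, zero_sub, sub_sub_cancel_left]
  rw [e5]
  exact AddSubgroup.neg_mem _ h4

theorem exists_word {R M : Type*} [CommRing R] [AddCommGroup M] [Module R M] {n : ℕ} {y : ExteriorAlgebra R M}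
    (hy : y ∈ ⋀[R]^n M) : ∃ w ∈ W R M n, TensorAlgebra.toExterior w = y := by
  have e1 : ⋀[R]^n M = (W R M n).map (TensorAlgebra.toExterior : TensorAlgebra R M →ₐ[R] _).toLinearMap := by
    rw [W, Submodule.map_pow, ExteriorAlgebra.exteriorPower]
    congr 1
    apply le_antisymm
    · rintro _ ⟨m, rfl⟩
      exact ⟨TensorAlgebra.ι R m, ⟨m, rfl⟩, TensorAlgebra.toExterior_ι m⟩
    · rintro _ ⟨_, ⟨m, rfl⟩, rfl⟩
      exact ⟨m, (TensorAlgebra.toExterior_ι m).symm⟩
  rw [e1] at hy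
  obtain ⟨w, hw, h⟩ := hy
  exact ⟨w, hw, h⟩

include h h2 in
/-- **Top degree, surjectivity.** -/
theorem top_surj {H : ExteriorAlgebra A L →+ ExteriorAlgebra A L}
    {r : ExteriorAlgebra A L →+ ExteriorAlgebra A1 (J → A1)}
    (m1 : ∀ y, d (H y) + H (d y) = y - c₀ D e xt (r y))
    (m7 : ∀ n, ∀ y ∈ ⋀[A]^(n + 1) L, H y ∈ ⋀[A]^n L)
    (m9 : ∀ n, ∀ y ∈ ⋀[A]^n L, r y ∈ ⋀[A1]^n (J → A1))
    {k : ℕ} {y : ExteriorAlgebra A L} (hy : y ∈ ⋀[A]^(k + 2) L) (hdy : d y = 0) :
    ∃ x ∈ P2 D h.der k, ∃ b ∈ ⋀[A]^(k + 1) L, y = ΘE h2 h.der hd k x + d b := by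
  obtain ⟨w, hw, hwr⟩ := exists_word (m9 _ y hy)
  refine ⟨mk D h.der k (mσ D xt w, 0), ⟨_, mσ_mem hw, 0, Submodule.zero_mem _, rfl⟩, H y, m7 _ y hy, ?_⟩
  rw [ΘE_mk]
  dsimp only
  rw [FT_mσ h, hwr, map_zero, add_zero]
  have e1 := m1 y
  rw [hdy, map_zero, add_zero] at e1
  rw [e1]
  abel

end K224.TwoI
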