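import Groth.Agent.DelIll.K224.TwoE
import Groth.Agent.DelIll.K224.RelLocal
import Mathlib.Tactic.Module

/-!
# The extension in characteristic two: local structure
-/

set_option autoImplicit false
set_option linter.unusedSectionVars false
set_option linter.style.haveILetI false

open K904 K905 Module K224.RelM K224.RelPhi K224.RelCartier K224.RelLocal K224.TwoT K224.TwoE
open K905.TotM (PZ)
open K905.TotPhi (IsDR)
open ExteriorAlgebra (ιMulti)

namespace K224.TwoL

section char2

variable {A L : Type*} [CommRing A] [AddCommGroup L] [Module A L] (h2 : (2 : A) = 0)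
include h2

theorem add_self (x : ExteriorAlgebra A L) : x + x = 0 := by rw [← two_smul A x, h2, zero_smul]

theorem neg_eq (x : ExteriorAlgebra A L) : -x = x := neg_eq_iff_add_eq_zero.2 (add_self h2 x)

theorem comm (x y : ExteriorAlgebra A L) : x * y = y * x := by
  induction x using ExteriorAlgebra.induction with
  | algebraMap r => exact Algebra.commutes r y
  | ι x =>
    induction y using ExteriorAlgebra.induction with
    | algebraMap r => exact (Algebra.commutes r _).symm
    | ι y =>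
      have h := ExteriorAlgebra.ι_add_mul_swap (R := A) x y
      rw [eq_neg_of_add_eq_zero_left h, neg_eq h2]
    | mul a b ha hb => rw [← mul_assoc, ha, mul_assoc, hb, mul_assoc]
    | add a b ha hb => rw [mul_add, ha, hb, add_mul]
  | mul a b ha hb => rw [mul_assoc, hb, ← mul_assoc, ha, mul_assoc]
  | add a b ha hb => rw [add_mul, ha, hb, mul_add]

theorem sg_eq (x : ExteriorAlgebra A L) : Iso.sg x = x := by
  induction x using ExteriorAlgebra.induction with
  | algebraMap r => exact AlgHom.commutes _ r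
  | ι x => rw [Iso.sg_ι, neg_eq h2]
  | mul a b ha hb => rw [map_mul, ha, hb]
  | add a b ha hb => rw [map_add, ha, hb]

theorem d_mul {δ : A →+ L} {d : ExteriorAlgebra A L →+ ExteriorAlgebra A L} (hd : IsDR δ d)
    (x y : ExteriorAlgebra A L) : d (x * y) = d x * y + x * d y := by
  rw [hd.mul, sg_eq h2]

/-- `a ^ 3 d a` is closed. -/
theorem d_cube {δ : A →+ L} {d : ExteriorAlgebra A L →+ ExteriorAlgebra A L} (hd : IsDR δ d) (a : A) :
    d (a ^ 3 • ExteriorAlgebra.ι A (δ a)) = 0 := by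
  rw [hd.smul, hd.dd, smul_zero, add_zero, TotPhi.δ_pow hd.leib a 2, map_smul, map_smul, smul_mul_assoc,
    smul_mul_assoc, ExteriorAlgebra.ι_sq_zero, smul_zero, smul_zero]

/-- `a d a` is closed. -/
theorem d_one {δ : A →+ L} {d : ExteriorAlgebra A L →+ ExteriorAlgebra A L} (hd : IsDR δ d) (a : A) :
    d (a • ExteriorAlgebra.ι A (δ a)) = 0 := by
  rw [hd.smul, hd.dd, smul_zero, add_zero, ExteriorAlgebra.ι_sq_zero]

end char2

variable {p : ℕ} [hp : Fact p.Prime] {P A1 A : Type*} [CommRing P] [CommRing A1] [CommRing A]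
  {D : Dat p P A1 A} [PZ p A] {L : Type*} [AddCommGroup L] [Module A L] {δ : A →+ L}
  {J : Type*} [LinearOrder J] [Fintype J] {e : Basis J A L} {xt : J → P} {lam : P → A}
  (h : Chart D δ e xt lam)

/-! ### Decomposition of `T` -/

/-- The coordinates of `T`. -/
structure IsDec (D : Dat p P A1 A) (xt : J → P) (l : T D →ₗ[A1] (J → A1)) (s : T D →ₗ[A1] Fr D) : Prop where
  eq : ∀ t, t = ∑ j, l t j • br D (xt j) + io D (s t)
  l_io : ∀ y, l (io D y) = 0
  s_io : ∀ y, s (io D y) = y
  l_br : ∀ v : J → A1, l (∑ j, v j • br D (xt j)) = v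
  s_br : ∀ v : J → A1, s (∑ j, v j • br D (xt j)) = 0

include h in
theorem exists_dec : ∃ (l : T D →ₗ[A1] (J → A1)) (s : T D →ₗ[A1] Fr D), IsDec D xt l s := by
  have := h.char
  obtain ⟨H, r, h1, h2, h3, h4, -⟩ := RelCartier.main h.chart
  have hdr := RelCartier.isDR h.chart
  let Ψ : ((J → A1) × Fr D) →ₗ[A1] T D := (σ D xt).coprod (io D)
  have hΨ : ∀ v y, Ψ (v, y) = ∑ j, v j • br D (xt j) + io D y := fun v y => by
    rw [LinearMap.coprod_apply, σ_apply]
  have hb : Function.Bijective Ψ := by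
    constructor
    · rw [injective_iff_map_eq_zero]
      rintro ⟨v, y⟩ hvy
      have e1 := congrArg (φ D h.der) hvy
      rw [LinearMap.coprod_apply, map_add, map_zero, φ_σ h, φ_io] at e1
      have e2 := congrArg (ExteriorAlgebra.ι A) e1
      rw [map_add, map_zero, ← c0_ι] at e2
      have e3 : ExteriorAlgebra.ι A (δF D δ y) = LocalCartier.d δ e (algebraMap A _ ((toFr D).symm y)) :=
        (hdr.alg _).symm
      have e4 := congrArg r e2
      rw [e3, map_add, h2, h3, add_zero, map_zero] at e4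
      have e5 : v = 0 := by
        have := (ExteriorAlgebra.ι_inj A1 v 0).1 (by rw [e4, map_zero])
        exact this
      subst e5
      have e6 := congrArg (ρ h.lam) hvy
      rw [LinearMap.coprod_apply, map_zero, zero_add, ρ_io, map_zero] at e6
      exact Prod.ext rfl e6
    · intro t
      obtain ⟨v, s, hs⟩ := h.gen t
      exact ⟨(v, s), by rw [hΨ, hs]⟩
  let dec := LinearEquiv.ofBijective Ψ hb
  have hdec : ∀ t, Ψ (dec.symm t) = t := fun t => dec.apply_symm_apply t
  have hdec' : ∀ z, dec.symm (Ψ z) = z := fun z => dec.symm_apply_apply z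
  refine ⟨(LinearMap.fst A1 _ _).comp dec.symm.toLinearMap, (LinearMap.snd A1 _ _).comp dec.symm.toLinearMap,
    ⟨fun t => ?_, fun y => ?_, fun y => ?_, fun v => ?_, fun v => ?_⟩⟩
  · have e1 := hΨ (dec.symm t).1 (dec.symm t).2
    exact (hdec t).symm.trans e1
  · have e1 : io D y = Ψ (0, y) := by rw [hΨ]; simp
    change (dec.symm (io D y)).1 = 0
    rw [e1, hdec']
  · have e1 : io D y = Ψ (0, y) := by rw [hΨ]; simp
    change (dec.symm (io D y)).2 = y
    rw [e1, hdec']
  · have e1 : ∑ j, v j • br D (xt j) = Ψ (v, 0) := by rw [hΨ, map_zero, add_zero]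
    change (dec.symm _).1 = v
    rw [e1, hdec']
  · have e1 : ∑ j, v j • br D (xt j) = Ψ (v, 0) := by rw [hΨ, map_zero, add_zero]
    change (dec.symm _).2 = 0
    rw [e1, hdec']

/-! ### The formula for `ψ` -/

/-- `L` as an `A1`-module. -/
def LF (_ : Dat p P A1 A) (L : Type*) : Type _ := L

noncomputable instance (D : Dat p P A1 A) : AddCommGroup (LF D L) := inferInstanceAs (AddCommGroup L)
noncomputable instance (D : Dat p P A1 A) : Module A1 (LF D L) := Module.compHom L D.F

variable (hR : ∀ a t, (a, t) ∈ D.Rel → δ t = 0)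

/-- The exact forms. -/
noncomputable def B1 (hδ : IsDer D δ) : Submodule A1 (LF D L) where
  carrier := {m | ∃ a : A, m = δ a}
  zero_mem' := ⟨0, (map_zero δ).symm⟩
  add_mem' := by
    rintro _ _ ⟨a, rfl⟩ ⟨b, rfl⟩
    exact ⟨a + b, (map_add δ a b).symm⟩
  smul_mem' := by
    rintro c _ ⟨a, rfl⟩
    refine ⟨D.F c * a, ?_⟩
    rw [hδ.leib, hδ.const, smul_zero, add_zero]
    rfl

/-- The class of a form. -/
noncomputable def cl (hδ : IsDer D δ) : L →+ (LF D L ⧸ B1 hδ) := (B1 hδ).mkQ.toAddMonoidHom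

theorem cl_smul (hδ : IsDer D δ) (c : A1) (m : L) : cl hδ (D.F c • m) = c • cl hδ m := rfl

theorem cl_eq_zero (hδ : IsDer D δ) {m : L} : cl hδ m = 0 ↔ ∃ a : A, m = δ a :=
  Submodule.Quotient.mk_eq_zero (B1 hδ)

theorem cl_congr (hδ : IsDer D δ) {m n : L} (a : A) (h : m - n = δ a) : cl hδ m = cl hδ n := by
  rw [← sub_eq_zero, ← map_sub, cl_eq_zero]
  exact ⟨a, h⟩

theorem two_smul_L (h2 : (2 : A) = 0) (m : L) : m + m = 0 := by
  rw [← two_smul A m, h2, zero_smul]

include hR in
/-- The map `ψ`. -/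
theorem exists_ψ (hp2 : p = 2) [CharP A1 p] (hδ : IsDer D δ) :
    ∃ ψ : T D →ₛₗ[frobenius A1 p] (LF D L ⧸ B1 hδ),
      (∀ c, ψ (br D c) = cl hδ (D.α c ^ 3 • δ (D.α c))) ∧ ∀ y : A, ψ (io D (toFr D y)) = cl hδ (y • δ y) := by
  subst hp2
  have h2 : (2 : A) = 0 := by
    have := PZ.eq_zero (p := 2) (A := A)
    exact_mod_cast this
  have hc2 : ∀ a b : A, Cross.c 2 a b = a * b := by
    intro a b
    simp [Cross.c]
  let sS : Fr D →+ (LF D L ⧸ B1 hδ) := AddMonoidHom.mk' (fun y => cl hδ ((toFr D).symm y • δ ((toFr D).symm y)))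
    (fun a b => by
      refine (cl_congr hδ (n := (toFr D).symm a • δ ((toFr D).symm a) + (toFr D).symm b • δ ((toFr D).symm b))
        ((toFr D).symm a * (toFr D).symm b) ?_).trans (map_add _ _ _)
      rw [map_add, map_add, hδ.leib, smul_add, add_smul, add_smul]
      abel)
  have hsS : ∀ y : A, sS (toFr D y) = cl hδ (y • δ y) := fun y => by
    change cl hδ ((toFr D).symm (toFr D y) • δ ((toFr D).symm (toFr D y))) = _
    rw [AddEquiv.symm_apply_apply]
  refine ⟨lift D (frobenius A1 2) (fun c => cl hδ (D.α c ^ 3 • δ (D.α c))) sS ?_ ?_ ?_ ?_, fun c => ?_, fun y => ?_⟩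
  · intro c x
    obtain ⟨y, rfl⟩ := (toFr D).surjective x
    rw [smul_toFr, hsS, hsS, ← cl_smul, frobenius_def, map_pow, hδ.leib, hδ.const, smul_zero, add_zero, smul_smul,
      smul_smul]
    congr 2
    ring
  · intro a b
    rw [hsS, hc2, map_add (D.α), ← map_add (cl hδ), ← map_add (cl hδ)]
    generalize D.α a = x
    generalize D.α b = y
    have hk1 : ∀ a : A, δ (a ^ 2) = 0 := by
      intro a
      rw [pow_two, hδ.leib]
      exact two_smul_L h2 _
    refine cl_congr hδ ((x ^ 2) * (x * y) + y ^ 2 * (x * y)) ?_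
    have e1 : ∀ z w : A, δ (z ^ 2 * w) = z ^ 2 • δ w := fun z w => by
      rw [hδ.leib, hk1, smul_zero, add_zero]
    rw [map_add δ (x ^ 2 * (x * y)), e1, e1, hδ.leib]
    have h3 : ∀ m : L, (2 : A) • m = 0 := fun m => by rw [h2, zero_smul]
    have e2 : ∀ m n : L, (x + y) ^ 3 • (m + n) - (x ^ 3 • m + y ^ 3 • n + (x * y) • (x • n + y • m)) =
      x ^ 2 • (x • n + y • m) + y ^ 2 • (x • n + y • m) + (2 : A) • ((x ^ 2 * y + x * y ^ 2) • (m + n)) := by
      intro m n
      module
    rw [map_add δ x y, e2, h3, add_zero]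
  · intro a b
    rw [← cl_smul, ← cl_smul, ← map_add]
    congr 1
    rw [map_mul, hδ.leib, frobenius_def, frobenius_def, map_pow, map_pow, D.hF, D.hF, smul_smul, smul_smul, smul_add,
      smul_smul, smul_smul]
    congr 2 <;> ring
  · intro a t hat
    rw [hsS, hR a t hat, smul_zero, map_zero, add_zero]
    have e1 := hδ.rel a t hat
    rw [hR a t hat, add_zero] at e1
    have e2 : D.α a ^ 3 • δ (D.α a) = D.α a ^ 2 • (D.α a ^ (2 - 1) • δ (D.α a)) := by
      rw [smul_smul, ← pow_add]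
    rw [e2, e1, smul_zero, map_zero]
  · rw [lift_br]
  · rw [lift_io, hsS]

include h hR in
/-- **The formula for `ψ`**. -/
theorem psi_formula (hp2 : p = 2) {l : T D →ₗ[A1] (J → A1)} {s : T D →ₗ[A1] Fr D} (hls : IsDec D xt l s) (c : P) :
    ∃ u : A, D.α c ^ 3 • δ (D.α c) = (toFr D).symm (s (br D c)) • δ ((toFr D).symm (s (br D c))) +
      ∑ j, D.F (l (br D c) j) ^ 2 • (D.α (xt j) ^ 3 • e j) + δ u := by
  subst hp2
  have := h.char
  obtain ⟨ψ, h1, h2⟩ := exists_ψ hR rfl h.der
  have e1 := congrArg ψ (hls.eq (br D c))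
  rw [h1, map_add, map_sum] at e1
  obtain ⟨y, hy⟩ := (toFr D).surjective (s (br D c))
  rw [← hy, AddEquiv.symm_apply_apply]
  rw [← hy, h2] at e1
  have e2 : ∀ j, ψ (l (br D c) j • br D (xt j)) = cl h.der (D.F (l (br D c) j) ^ 2 • (D.α (xt j) ^ 3 • e j)) := by
    intro j
    rw [LinearMap.map_smulₛₗ, h1, ← cl_smul, frobenius_def, map_pow, h.chart.ex]
  simp only [e2] at e1
  rw [← map_sum, ← map_add, ← sub_eq_zero, ← map_sub, cl_eq_zero] at e1
  obtain ⟨u, hu⟩ := e1
  refine ⟨u, ?_⟩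
  rw [← hu]
  abel

end K224.TwoL
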