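import Groth.Agent.DelIll.K224.TwoI

/-!
# The extension in characteristic two: the map to the de Rham complex
-/

set_option autoImplicit false
set_option linter.unusedSectionVars false
set_option linter.style.haveILetI false

open K904 K905 Module K224.RelM K224.RelPhi K224.RelCartier K224.RelLocal K224.TwoT K224.TwoE K224.TwoL K224.TwoI
open K905.TotM (PZ)
open K905.TotPhi (IsDR)
open ExteriorAlgebra (ιMulti)

namespace K224.TwoM

section gW

variable {A : Type*} [CommRing A] {L : Type*} [AddCommGroup L] [Module A L]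

/-- Words to forms. -/
noncomputable def gW (δ : A →+ L) (k : ℕ) : FreeAbelianGroup (Fin (k + 1) → A) →+ ExteriorAlgebra A L :=
  FreeAbelianGroup.lift (fun b => b 0 • ιMulti A k (fun i => δ (b i.succ)))

theorem gW_of (δ : A →+ L) (k : ℕ) (b : Fin (k + 1) → A) :
    gW δ k (FreeAbelianGroup.of b) = b 0 • ιMulti A k (fun i => δ (b i.succ)) :=
  FreeAbelianGroup.lift_apply_of _ _

theorem gW_mem (δ : A →+ L) (k : ℕ) (b : FreeAbelianGroup (Fin (k + 1) → A)) : gW δ k b ∈ ⋀[A]^k L := by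
  induction b using FreeAbelianGroup.induction_on with
  | zero => rw [map_zero]; exact Submodule.zero_mem _
  | of b =>
    rw [gW_of]
    exact Submodule.smul_mem _ _ (ExteriorAlgebra.ιMulti_range _ _ ⟨_, rfl⟩)
  | neg b hb => rw [map_neg]; exact Submodule.neg_mem _ hb
  | add a b ha hb => rw [map_add]; exact Submodule.add_mem _ ha hb

theorem d_gW {δ : A →+ L} {d : ExteriorAlgebra A L →+ ExteriorAlgebra A L} (hd : IsDR δ d) (k : ℕ)
    (b : FreeAbelianGroup (Fin (k + 1) → A)) : d (gW δ k b) = bd δ k b := by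
  induction b using FreeAbelianGroup.induction_on with
  | zero => rw [map_zero, map_zero, map_zero]
  | of b =>
    rw [gW_of, bd_of, hd.rule]
    congr 1
    funext i
    refine Fin.cases ?_ (fun i => ?_) i <;> rfl
  | neg b hb => rw [map_neg, map_neg, hb, map_neg]
  | add a b ha hb => rw [map_add, map_add, ha, hb, map_add]

theorem gW_surj {δ : A →+ L} (k : ℕ) {y : ExteriorAlgebra A L}
    (hspan : ∀ m : L, m ∈ Submodule.span A (Set.range δ)) (hy : y ∈ ⋀[A]^k L) : ∃ b, gW δ k b = y := by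
  have e5 := GeoPhi.mem_closure δ hspan k y hy
  clear hy
  induction e5 using AddSubgroup.closure_induction with
  | mem y hy =>
    obtain ⟨b₀, b, rfl⟩ := hy
    exact ⟨FreeAbelianGroup.of (Fin.cons b₀ b), by rw [gW_of]; rfl⟩
  | zero => exact ⟨0, by rw [map_zero]⟩
  | add x y _ _ hx hy =>
    obtain ⟨b, hb⟩ := hx
    obtain ⟨b', hb'⟩ := hy
    exact ⟨b + b', by rw [map_add, hb, hb']⟩
  | neg x _ hx =>
    obtain ⟨b, hb⟩ := hx
    exact ⟨-b, by rw [map_neg, hb]⟩

end gW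

variable {p : ℕ} [hp : Fact p.Prime] {P A1 A : Type*} [CommRing P] [CommRing A1] [CommRing A]
  {D : Dat p P A1 A} [PZ p A] {L : Type*} [AddCommGroup L] [Module A L] {δ : A →+ L}
  (h2 : (2 : A) = 0) (hδ : IsDer D δ)
  {d : ExteriorAlgebra A L →+ ExteriorAlgebra A L} (hd : IsDR δ d) (k : ℕ)

/-- The map to forms. -/
noncomputable def Θt : TT D hδ k →+ ExteriorAlgebra A L :=
  AddMonoidHom.mk' (fun z => gW δ k z.1 + z.2.1 + ΘE h2 hδ hd k z.2.2) (fun a b => by
    rw [Prod.fst_add, Prod.snd_add, Prod.fst_add, Prod.snd_add, map_add, map_add]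
    abel)

theorem Θt_apply (z : TT D hδ k) : Θt h2 hδ hd k z = gW δ k z.1 + z.2.1 + ΘE h2 hδ hd k z.2.2 := rfl

theorem ΘE_mem (hdm : ∀ n, ∀ y ∈ ⋀[A]^n L, d y ∈ ⋀[A]^(n + 1) L) {x : E D hδ k} (hx : x ∈ P2 D hδ k) :
    ΘE h2 hδ hd k x ∈ ⋀[A]^(k + 2) L := by
  obtain ⟨w, hw, ω, hω, rfl⟩ := hx
  rw [ΘE_mk]
  exact Submodule.add_mem _ (FT_mem D hδ hw) (hdm _ _ hω)

theorem Θt_mem (hdm : ∀ n, ∀ y ∈ ⋀[A]^n L, d y ∈ ⋀[A]^(n + 1) L) {i : ℕ} {z : TT D hδ k} (hz : z ∈ PT D hδ k i) :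
    Θt h2 hδ hd k z ∈ ⋀[A]^i L := by
  obtain ⟨g1, ⟨g2, g3⟩, ⟨g4, g5⟩⟩ := hz
  rw [Θt_apply]
  refine Submodule.add_mem _ (Submodule.add_mem _ ?_ ?_) ?_
  · rcases g1 with g | g
    · rw [g]; exact gW_mem δ k _
    · rw [g, map_zero]; exact Submodule.zero_mem _
  · rcases g3 with g | g
    · rw [g]; exact g2
    · rw [g]; exact Submodule.zero_mem _
  · rcases g5 with g | g
    · rw [g]; exact ΘE_mem h2 hδ hd k hdm g4
    · rw [g, map_zero]; exact Submodule.zero_mem _

theorem d_Θt (dd : ∀ y, d (d y) = 0) (z : TT D hδ k) : d (Θt h2 hδ hd k z) = Θt h2 hδ hd k (dT D hδ k z) := by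
  obtain ⟨z1, z2, z3⟩ := z
  obtain ⟨w, rfl⟩ := mk_surjective D hδ k z3
  rw [dT_apply, Θt_apply, Θt_apply, κ_apply, ΘE_mk, ΘE_mk]
  dsimp only
  have e1 : d (FT D hδ w.1) = 0 := d_FF D hδ hd _
  rw [map_add, map_add, d_gW hd, map_add d (FT D hδ w.1), e1, dd, map_zero, map_zero, zero_add, zero_add, add_zero,
    zero_add]

section nat

variable {Q B1 B : Type*} [CommRing Q] [CommRing B1] [CommRing B] {G : Dat p Q B1 B} [PZ p B] (m : Mor D G)
  {L' : Type*} [AddCommGroup L'] [Module B L'] {δ' : B →+ L'}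
  (hδ' : IsDer G δ') (fL : L →+ L') (hfL : ∀ (a : A) (x : L), fL (a • x) = m.f a • fL x)
  (hfδ : ∀ a, fL (δ a) = δ' (m.f a)) (h2' : (2 : B) = 0)
  {d' : ExteriorAlgebra B L' →+ ExteriorAlgebra B L'} (hd' : IsDR δ' d')

include hfδ h2 h2' hd hd' in
omit [PZ p A] [PZ p B] in
theorem extR_d (hspan : ∀ m : L, m ∈ Submodule.span A (Set.range δ)) (y : ExteriorAlgebra A L) :
    Semi.extR m.f fL hfL (d y) = d' (Semi.extR m.f fL hfL y) := by
  induction y using ExteriorAlgebra.induction with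
  | algebraMap r => rw [hd.alg, Semi.extR_ι, Semi.extR_algebraMap, hd'.alg, hfδ]
  | ι x =>
    induction hspan x using Submodule.closure_induction with
    | zero => rw [map_zero, map_zero, map_zero, map_zero]
    | add x y _ _ hx hy => rw [map_add, map_add, map_add, hx, hy, map_add, map_add]
    | smul_mem r y hy =>
      obtain ⟨a, rfl⟩ := hy
      rw [map_smul, hd.smul, hd.dd, smul_zero, add_zero, map_mul, Semi.extR_ι, Semi.extR_ι, Semi.extR_smul,
        Semi.extR_ι, hfδ, hfδ, hd'.smul, hd'.dd, smul_zero, add_zero]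
  | mul a b ha hb => rw [TwoL.d_mul h2 hd, map_add, map_mul, map_mul, map_mul, TwoL.d_mul h2' hd', ha, hb]
  | add a b ha hb => rw [map_add, map_add, ha, hb, map_add, map_add]

include hfδ in
omit [PZ p A] [PZ p B] in
theorem extR_gW (b : FreeAbelianGroup (Fin (k + 1) → A)) :
    Semi.extR m.f fL hfL (gW δ k b) =
      gW δ' k (FreeAbelianGroup.map (fun b : Fin (k + 1) → A => fun i => m.f (b i)) b) := by
  induction b using FreeAbelianGroup.induction_on with
  | zero => rw [map_zero, map_zero, map_zero, map_zero]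
  | of b =>
    rw [gW_of, FreeAbelianGroup.map_of_apply, gW_of, Semi.extR_smul, Semi.extR_ιMulti]
    simp only [hfδ]
  | neg b hb => rw [map_neg, map_neg, hb, map_neg, map_neg]
  | add a b ha hb => rw [map_add, map_add, ha, hb, map_add, map_add]

include hfδ in
/-- Naturality. -/
theorem extR_Θt (hspan : ∀ m : L, m ∈ Submodule.span A (Set.range δ)) (z : TT D hδ k) :
    Semi.extR m.f fL hfL (Θt h2 hδ hd k z) = Θt h2' hδ' hd' k (mTT D hδ m hδ' fL hfL hfδ k z) := by
  obtain ⟨z1, z2, z3⟩ := z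
  obtain ⟨w, rfl⟩ := mk_surjective D hδ k z3
  rw [mTT_apply, Θt_apply, Θt_apply, ΘE_mk]
  dsimp only
  rw [mE_mk, ΘE_mk, mPr_apply]
  dsimp only
  rw [map_add, map_add, map_add, extR_gW k m fL hfL hfδ, extR_FT D hδ m hδ' fL hfL hfδ,
    extR_d h2 hd m fL hfL hfδ h2' hd' hspan]

end nat

end K224.TwoM
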