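import Groth.Agent.DelIll.K224.TwoM

/-!
# The extension in characteristic two: packaged local statements
-/

set_option autoImplicit false
set_option linter.unusedSectionVars false
set_option linter.style.haveILetI false

open K904 K905 Module K224.RelM K224.RelPhi K224.RelCartier K224.RelLocal K224.TwoT K224.TwoE K224.TwoL K224.TwoI
  K224.TwoM
open K905.TotM (PZ)
open K905.TotPhi (IsDR)
open ExteriorAlgebra (ιMulti)

namespace K224.TwoP

variable {p : ℕ} [hp : Fact p.Prime] {P A1 A : Type*} [CommRing P] [CommRing A1] [CommRing A]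
  {D : Dat p P A1 A} [PZ p A] {L : Type*} [AddCommGroup L] [Module A L] {δ : A →+ L}
  {J : Type*} [LinearOrder J] [Fintype J] {e : Basis J A L} {xt : J → P} {lam : P → A}
  (h : Chart D δ e xt lam) (hp2 : p = 2) (h2 : (2 : A) = 0) (hR : ∀ a t, (a, t) ∈ D.Rel → δ t = 0)
  (hδ : IsDer D δ) {d : ExteriorAlgebra A L →+ ExteriorAlgebra A L} (hdd : d = LocalCartier.d δ e) (hd : IsDR δ d)

include h in
theorem span_of (m : L) : m ∈ Submodule.span A (Set.range δ) := by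
  refine Submodule.span_mono ?_ (e.mem_span m)
  rintro _ ⟨l, rfl⟩
  exact ⟨_, h.chart.ex l⟩

include h hp2 h2 hR in
/-- Exactness in degree `k + 1`. -/
theorem loc_exact {k : ℕ} (x : TT D hδ k) (hx : x ∈ PT D hδ k (k + 1)) (hdx : dT D hδ k x = 0) :
    ∃ y ∈ PT D hδ k k, dT D hδ k y = x := by
  have hchar := h.char
  obtain ⟨l, s, hls⟩ := TwoL.exists_dec h
  obtain ⟨Hh, r, m1, m2, m3, m4, m5, m6, m7, m8, m9⟩ := RelCartier.main h.chart
  obtain ⟨g1, ⟨g2, g3⟩, ⟨g4, g5⟩⟩ := hx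
  have e1 : x.1 = 0 := g1.resolve_left (by omega)
  have e2 : x.2.2 = 0 := g5.resolve_left (by omega)
  have e3 : κ D hδ k x.2.1 = 0 := congrArg (fun z => z.2.2) hdx
  obtain ⟨b, hb⟩ := TwoI.exact1 h hp2 h2 hR hls (RelCartier.isDR h.chart) m4 m1 m3
    (RelCartier.d_d h.chart) m7 (span_of h) g2 e3
  refine ⟨(b, 0, 0), ⟨Or.inl rfl, ⟨Submodule.zero_mem _, Or.inr rfl⟩, ⟨AddSubgroup.zero_mem _, Or.inr rfl⟩⟩, ?_⟩
  rw [dT_apply]
  exact Prod.ext e1.symm (Prod.ext hb ((map_zero _).trans e2.symm))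

include h hdd in
/-- Surjectivity in degree `k + 2`. -/
theorem loc_surj {k : ℕ} {y : ExteriorAlgebra A L} (hy : y ∈ ⋀[A]^(k + 2) L) (hdy : d y = 0) :
    ∃ x ∈ PT D hδ k (k + 2), ∃ b ∈ ⋀[A]^(k + 1) L, dT D hδ k x = 0 ∧ y = Θt h2 hδ hd k x + d b := by
  subst hdd
  have hchar := h.char
  obtain ⟨Hh, r, m1, m2, m3, m4, m5, m6, m7, m8, m9⟩ := RelCartier.main h.chart
  obtain ⟨x, hx, b, hb, hyb⟩ := TwoI.top_surj h h2 hd m1 m7 m9 hy hdy
  refine ⟨(0, 0, x), ⟨Or.inr rfl, ⟨Submodule.zero_mem _, Or.inr rfl⟩, ⟨hx, Or.inl rfl⟩⟩, b, hb, ?_, ?_⟩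
  · rw [dT_apply]
    exact Prod.ext rfl (Prod.ext (map_zero _) (map_zero _))
  · rw [Θt_apply]
    dsimp only
    rw [map_zero, zero_add, zero_add]
    exact hyb

include h hdd in
/-- Injectivity in degree `k + 2`. -/
theorem loc_inj {k : ℕ} {x : TT D hδ k} (hx : x ∈ PT D hδ k (k + 2)) {b : ExteriorAlgebra A L}
    (hb : Θt h2 hδ hd k x = d b) : ∃ y ∈ PT D hδ k (k + 1), dT D hδ k y = x := by
  subst hdd
  have hchar := h.char
  obtain ⟨l, s, hls⟩ := TwoL.exists_dec h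
  obtain ⟨Hh, r, m1, m2, m3, m4, m5, m6, m7, m8, m9⟩ := RelCartier.main h.chart
  obtain ⟨g1, ⟨g2, g3⟩, ⟨g4, g5⟩⟩ := hx
  have e1 : x.1 = 0 := g1.resolve_left (by omega)
  have e2 : x.2.1 = 0 := g3.resolve_left (by omega)
  rw [Θt_apply, e1, e2, map_zero, zero_add, zero_add] at hb
  obtain ⟨ω, hω, hκ⟩ := TwoI.top_inj h h2 hls hd m4 m2 m3 g4 hb
  refine ⟨(0, ω, 0), ⟨Or.inr rfl, ⟨hω, Or.inl rfl⟩, ⟨AddSubgroup.zero_mem _, Or.inr rfl⟩⟩, ?_⟩
  rw [dT_apply]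
  exact Prod.ext e1.symm (Prod.ext ((map_zero _).trans e2.symm) hκ)

end K224.TwoP
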