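import Groth.Agent.DelIll.K224.TwoS
import Groth.Agent.DelIll.K224.RelThm

/-!
# Characteristic two: the two-term windows
-/

set_option autoImplicit false
set_option linter.style.haveILetI false
set_option linter.unusedSectionVars false
universe u

open CategoryTheory CategoryTheory.Limits AlgebraicGeometry Opposite TopologicalSpace K904 K905
open K905.GeoUp K905.GeoPhi K905.SheafKos K224.RelM K224.RelPhi K224.RelGeom K224.RelSys K224.RelGD K224.RelCov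
open K224.RelMain K224.TwoE K224.TwoM K224.TwoS
open K905.TotM (PZ)
open K905.TotPhi (IsDR)

namespace K224.TwoQ

variable {X X1 S Xt St : Scheme.{u}} {p : ℕ} [hp : Fact p.Prime] [FrobSch.IsCharP S p] [FrobSch.IsCharP X p]
    {f : X ⟶ S} {pr : X1 ⟶ X}
    {f1 : X1 ⟶ S} {F : X ⟶ X1} {iX : X1 ⟶ Xt} {gt : Xt ⟶ St} {iS : S ⟶ St}
    {Ω' : X.Modules} {δ : OmegaSh.Der f Ω'} (D : DeRhamSh.Cx f Ω' δ)
    {H : IsGeo p f pr f1 F iX gt iS} (hp2 : p = 2)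

set_option maxHeartbeats 1000000 in
theorem local_surj {V : X.Opens} (hV : IsCh H δ V) (k : ℕ) (y : ↥(⋀[Γ(X, V)]^(k + 2) Γ(Ω', V)))
    (hy : dV hV y.1 = 0) : ∃ (x : PT (dat (gd H V)) (der_all δ H V) k (k + 2)) (b : ↥(⋀[Γ(X, V)]^(k + 1) Γ(Ω', V))),
      dT (dat (gd H V)) (der_all δ H V) k x.1 = 0 ∧ y.1 = (ThV hp2 hV k (k + 2) x).1 + dV hV b.1 := by
  obtain ⟨xt, lam, hc⟩ := chart_spec hV
  obtain ⟨x, hx, b, hb, h1, h2⟩ := TwoP.loc_surj (d := dV hV) hc (two_zero hp2 V) (der_all δ H V) rfl (dV_isDR hV) y.2 hy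
  exact ⟨⟨x, hx⟩, ⟨b, hb⟩, h1, h2⟩

set_option maxHeartbeats 1000000 in
theorem local_inj {V : X.Opens} (hV : IsCh H δ V) (k : ℕ) (x : PT (dat (gd H V)) (der_all δ H V) k (k + 2))
    (b : ↥(⋀[Γ(X, V)]^(k + 1) Γ(Ω', V))) (hb : (ThV hp2 hV k (k + 2) x).1 = dV hV b.1) :
    ∃ y : PT (dat (gd H V)) (der_all δ H V) k (k + 1), dT (dat (gd H V)) (der_all δ H V) k y.1 = x.1 := by
  obtain ⟨xt, lam, hc⟩ := chart_spec hV
  obtain ⟨y, hy, h1⟩ := TwoP.loc_inj (d := dV hV) hc (two_zero hp2 V) (der_all δ H V) rfl (dV_isDR hV) x.2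
    ((ThV_val hp2 hV k (k + 2) x).symm.trans hb)
  exact ⟨⟨y, hy⟩, h1⟩

set_option maxHeartbeats 1000000 in
theorem sec_surj {V : X.Opens} (hV : IsCh H δ V) (k : ℕ) (y : (D.K.X (k + 2)).obj.obj (op V))
    (hy : (D.K.d (k + 2) (k + 3)).hom.app (op V) y = 0) :
    ∃ x : PT (dat (gd H V)) (der_all δ H V) k (k + 2),
      dT (dat (gd H V)) (der_all δ H V) k x.1 = 0 ∧ ∃ b : (D.K.X (k + 1)).obj.obj (op V),
        y = sec D (k + 2) ⟨V, hV.aff⟩ (ThV hp2 hV k (k + 2) x) + (D.K.d (k + 1) (k + 2)).hom.app (op V) b := by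
  obtain ⟨Y, rfl⟩ := (sec D (k + 2) ⟨V, hV.aff⟩).surjective y
  have h1 := sec_d D (k + 2) ⟨V, hV.aff⟩ (dV_isDR hV) (dV_span hV) Y
  have h3 := (sec D (k + 3) ⟨V, hV.aff⟩).map_eq_zero_iff.1 (h1.symm.trans hy)
  have h2 : dV hV Y.1 = 0 := congrArg Subtype.val h3
  obtain ⟨x, w, hx, hyw⟩ := local_surj hp2 hV k Y h2
  refine ⟨x, hx, sec D (k + 1) ⟨V, hV.aff⟩ w, ?_⟩
  have h4 := sec_d D (k + 1) ⟨V, hV.aff⟩ (dV_isDR hV) (dV_span hV) w
  refine Eq.trans ?_ (congrArg₂ (· + ·) rfl h4.symm)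
  refine Eq.trans ?_ (map_add (sec D (k + 2) ⟨V, hV.aff⟩) _ _)
  exact congrArg (sec D (k + 2) ⟨V, hV.aff⟩) (Subtype.ext hyw)

set_option maxHeartbeats 1000000 in
theorem sec_inj {V : X.Opens} (hV : IsCh H δ V) (k : ℕ) (x : PT (dat (gd H V)) (der_all δ H V) k (k + 2))
    (b : (D.K.X (k + 1)).obj.obj (op V))
    (hb : sec D (k + 2) ⟨V, hV.aff⟩ (ThV hp2 hV k (k + 2) x) = (D.K.d (k + 1) (k + 2)).hom.app (op V) b) :
    ∃ y : PT (dat (gd H V)) (der_all δ H V) k (k + 1), dT (dat (gd H V)) (der_all δ H V) k y.1 = x.1 := by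
  obtain ⟨B, rfl⟩ := (sec D (k + 1) ⟨V, hV.aff⟩).surjective b
  have h3 := hb.trans (sec_d D (k + 1) ⟨V, hV.aff⟩ (dV_isDR hV) (dV_span hV) B)
  have h4 := (sec D (k + 2) ⟨V, hV.aff⟩).injective h3
  exact local_inj hp2 hV k x B (congrArg Subtype.val h4)

set_option maxHeartbeats 1000000 in
/-- Quasi-isomorphism in degree `k + 2`. -/
theorem quasiIsoAt2 (hcov : ∀ (U : Opens X) (x : X), x ∈ U → ∃ V ∈ chs H δ, x ∈ V ∧ V ≤ U) (k : ℕ) :
    QuasiIsoAt (shHom hcov (bm2 D hp2 k)) (k + 2) := by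
  have hprev : (ComplexShape.up ℕ).prev (k + 2) = k + 1 := CochainComplex.prev_nat_succ (k + 1)
  refine SheafKos.quasiIsoAt hcov (bm2 D hp2 k) (k + 2) ?_ ?_
  · intro V y hy
    rw [hprev]
    obtain ⟨x, hx, b, hb⟩ := sec_surj D hp2 V.2 k y hy
    refine ⟨x, ?_, b, hb⟩
    rw [PC2_d]
    exact Subtype.ext hx
  · intro V x hx b hb
    generalize (ComplexShape.up ℕ).prev (k + 2) = q at b hb hprev ⊢
    subst hprev
    obtain ⟨y, hy⟩ := sec_inj D hp2 V.2 k x b hb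
    refine ⟨y, ?_⟩
    rw [PC2_d]
    exact Subtype.ext hy

end K224.TwoQ
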