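import Groth.Agent.DelIll.K224.TwoL

/-!
# The extension in characteristic two: the operator representation
-/

set_option autoImplicit false
set_option linter.unusedSectionVars false
set_option linter.style.haveILetI false

open K904 K905 Module K224.RelM K224.RelPhi K224.RelCartier K224.RelLocal K224.TwoT K224.TwoE K224.TwoL
open K905.TotM (PZ)
open K905.TotPhi (IsDR)
open ExteriorAlgebra (ιMulti)

namespace K224.TwoR

variable {p : ℕ} [hp : Fact p.Prime] {P A1 A : Type*} [CommRing P] [CommRing A1] [CommRing A]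
  (D : Dat p P A1 A) [PZ p A] {L : Type*} [AddCommGroup L] [Module A L] {δ : A →+ L} (hδ : IsDer D δ)
  {J : Type*} [LinearOrder J] [Fintype J] (e : Basis J A L) (xt : J → P)
  (l : T D →ₗ[A1] (J → A1)) (s : T D →ₗ[A1] Fr D)

theorem End_mul {M : Type*} [AddCommGroup M] (f g : AddMonoid.End M) (x : M) : (f * g) x = f (g x) := rfl
theorem End_add {M : Type*} [AddCommGroup M] (f g : AddMonoid.End M) (x : M) : (f + g) x = f x + g x := rfl

/-- The model. -/
abbrev Q (A1 A L J : Type*) [CommRing A1] [CommRing A] [AddCommGroup L] [Module A L] : Type _ :=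
  ExteriorAlgebra A1 (J → A1) × ExteriorAlgebra A L

/-- The action of constants. -/
noncomputable def act : A1 →+* AddMonoid.End (Q A1 A L J) where
  toFun c := (DistribSMul.toAddMonoidHom (ExteriorAlgebra A1 (J → A1)) c).prodMap
    (DistribSMul.toAddMonoidHom (ExteriorAlgebra A L) (D.F c))
  map_one' := by
    refine AddMonoidHom.ext fun z => Prod.ext ?_ ?_
    · change (1 : A1) • z.1 = z.1
      rw [one_smul]
    · change D.F 1 • z.2 = z.2
      rw [map_one, one_smul]
  map_mul' a b := by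
    refine AddMonoidHom.ext fun z => Prod.ext ?_ ?_
    · change (a * b) • z.1 = a • b • z.1
      rw [mul_smul]
    · change D.F (a * b) • z.2 = D.F a • D.F b • z.2
      rw [map_mul, mul_smul]
  map_zero' := by
    refine AddMonoidHom.ext fun z => Prod.ext ?_ ?_
    · change (0 : A1) • z.1 = 0
      rw [zero_smul]
    · change D.F 0 • z.2 = 0
      rw [map_zero, zero_smul]
  map_add' a b := by
    refine AddMonoidHom.ext fun z => Prod.ext ?_ ?_
    · change (a + b) • z.1 = a • z.1 + b • z.1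
      rw [add_smul]
    · change D.F (a + b) • z.2 = D.F a • z.2 + D.F b • z.2
      rw [map_add, add_smul]

theorem act_apply (c : A1) (z : Q A1 A L J) : act D c z = (c • z.1, D.F c • z.2) := rfl

/-- The lift of inverse Cartier. -/
noncomputable abbrev c₀ : ExteriorAlgebra A1 (J → A1) →+* ExteriorAlgebra A L := c0 p D.F (fun j => D.α (xt j)) e

/-- The forms `ψ_j`. -/
noncomputable def ψj (j : J) : ExteriorAlgebra A L := D.α (xt j) ^ 3 • ExteriorAlgebra.ι A (e j)

/-- The correction operator. -/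
noncomputable def Ct (v : J → A1) : ExteriorAlgebra A1 (J → A1) →+ ExteriorAlgebra A L :=
  AddMonoidHom.mk' (fun z => ∑ j, D.F (v j) • (ψj D e xt j * c₀ D e xt (Ext.C (LinearMap.proj j) z))) (fun a b => by
    rw [← Finset.sum_add_distrib]
    refine Finset.sum_congr rfl fun j _ => ?_
    rw [map_add, map_add, mul_add, smul_add])

theorem Ct_apply (v : J → A1) (z : ExteriorAlgebra A1 (J → A1)) :
    Ct D e xt v z = ∑ j, D.F (v j) • (ψj D e xt j * c₀ D e xt (Ext.C (LinearMap.proj j) z)) := rfl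

theorem Ct_add (v w : J → A1) (z : ExteriorAlgebra A1 (J → A1)) :
    Ct D e xt (v + w) z = Ct D e xt v z + Ct D e xt w z := by
  rw [Ct_apply, Ct_apply, Ct_apply, ← Finset.sum_add_distrib]
  refine Finset.sum_congr rfl fun j _ => ?_
  rw [Pi.add_apply, map_add, add_smul]

theorem Ct_smul (c : A1) (v : J → A1) (z : ExteriorAlgebra A1 (J → A1)) :
    Ct D e xt (c • v) z = D.F c • Ct D e xt v z := by
  rw [Ct_apply, Ct_apply, Finset.smul_sum]
  refine Finset.sum_congr rfl fun j _ => ?_
  rw [Pi.smul_apply, smul_eq_mul, map_mul, mul_smul]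

theorem Ct_smul' (c : A1) (v : J → A1) (z : ExteriorAlgebra A1 (J → A1)) :
    Ct D e xt v (c • z) = D.F c • Ct D e xt v z := by
  rw [Ct_apply, Ct_apply, Finset.smul_sum]
  refine Finset.sum_congr rfl fun j _ => ?_
  rw [map_smul, c0_smul, mul_smul_comm, smul_comm]

/-- The operator. -/
noncomputable def op (t : T D) : AddMonoid.End (Q A1 A L J) :=
  AddMonoidHom.mk' (fun z => (ExteriorAlgebra.ι A1 (l t) * z.1,
    ExteriorAlgebra.ι A (φ D hδ t) * z.2 + ((toFr D).symm (s t) • c₀ D e xt z.1 + Ct D e xt (l t) z.1)))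
    (fun a b => by
      refine Prod.ext ?_ ?_
      · change _ * (a.1 + b.1) = _ * a.1 + _ * b.1
        rw [mul_add]
      · change _ * (a.2 + b.2) + (_ • c₀ D e xt (a.1 + b.1) + Ct D e xt (l t) (a.1 + b.1)) =
          _ * a.2 + (_ • c₀ D e xt a.1 + Ct D e xt (l t) a.1) + (_ * b.2 + (_ • c₀ D e xt b.1 + Ct D e xt (l t) b.1))
        rw [mul_add, map_add, map_add, smul_add]
        abel)

theorem op_apply (t : T D) (z : Q A1 A L J) : op D hδ e xt l s t z = (ExteriorAlgebra.ι A1 (l t) * z.1,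
    ExteriorAlgebra.ι A (φ D hδ t) * z.2 + ((toFr D).symm (s t) • c₀ D e xt z.1 + Ct D e xt (l t) z.1)) := rfl

theorem op_add (t t' : T D) : op D hδ e xt l s (t + t') = op D hδ e xt l s t + op D hδ e xt l s t' := by
  refine AddMonoidHom.ext fun z => ?_
  change op D hδ e xt l s (t + t') z = op D hδ e xt l s t z + op D hδ e xt l s t' z
  rw [op_apply, op_apply, op_apply]
  refine Prod.ext ?_ ?_
  · change ExteriorAlgebra.ι A1 (l (t + t')) * z.1 = ExteriorAlgebra.ι A1 (l t) * z.1 + ExteriorAlgebra.ι A1 (l t') * z.1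
    rw [map_add, map_add, add_mul]
  · change ExteriorAlgebra.ι A (φ D hδ (t + t')) * z.2 + ((toFr D).symm (s (t + t')) • c₀ D e xt z.1 +
      Ct D e xt (l (t + t')) z.1) = (ExteriorAlgebra.ι A (φ D hδ t) * z.2 + ((toFr D).symm (s t) • c₀ D e xt z.1 +
      Ct D e xt (l t) z.1)) + (ExteriorAlgebra.ι A (φ D hδ t') * z.2 + ((toFr D).symm (s t') • c₀ D e xt z.1 +
      Ct D e xt (l t') z.1))
    rw [map_add, map_add, map_add, map_add, map_add, Ct_add, add_mul, add_smul]
    abel

theorem toFr_symm_smul (c : A1) (x : Fr D) : (toFr D).symm (c • x) = D.F c * (toFr D).symm x := by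
  obtain ⟨y, rfl⟩ := (toFr D).surjective x
  rw [smul_toFr, AddEquiv.symm_apply_apply, AddEquiv.symm_apply_apply]

theorem op_smul (c : A1) (t : T D) : op D hδ e xt l s (c • t) = act D c * op D hδ e xt l s t := by
  refine AddMonoidHom.ext fun z => ?_
  change op D hδ e xt l s (c • t) z = act D c (op D hδ e xt l s t z)
  rw [op_apply, op_apply, act_apply]
  refine Prod.ext ?_ ?_
  · change ExteriorAlgebra.ι A1 (l (c • t)) * z.1 = c • (ExteriorAlgebra.ι A1 (l t) * z.1)
    rw [map_smul, map_smul, smul_mul_assoc]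
  · change ExteriorAlgebra.ι A (φ D hδ (c • t)) * z.2 + ((toFr D).symm (s (c • t)) • c₀ D e xt z.1 +
      Ct D e xt (l (c • t)) z.1) = D.F c • (ExteriorAlgebra.ι A (φ D hδ t) * z.2 +
      ((toFr D).symm (s t) • c₀ D e xt z.1 + Ct D e xt (l t) z.1))
    rw [φ_smul, LinearMap.map_smul (ExteriorAlgebra.ι A), LinearMap.map_smul s, LinearMap.map_smul l, Ct_smul,
      toFr_symm_smul, smul_add, smul_add, smul_mul_assoc, mul_smul]

theorem op_act (c : A1) (t : T D) : op D hδ e xt l s t * act D c = act D c * op D hδ e xt l s t := by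
  refine AddMonoidHom.ext fun z => ?_
  change op D hδ e xt l s t (act D c z) = act D c (op D hδ e xt l s t z)
  rw [op_apply, op_apply, act_apply, act_apply]
  refine Prod.ext ?_ ?_
  · change ExteriorAlgebra.ι A1 (l t) * (c • z.1) = c • (ExteriorAlgebra.ι A1 (l t) * z.1)
    rw [mul_smul_comm]
  · change ExteriorAlgebra.ι A (φ D hδ t) * (D.F c • z.2) + ((toFr D).symm (s t) • c₀ D e xt (c • z.1) +
      Ct D e xt (l t) (c • z.1)) = D.F c • (ExteriorAlgebra.ι A (φ D hδ t) * z.2 +
      ((toFr D).symm (s t) • c₀ D e xt z.1 + Ct D e xt (l t) z.1))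
    rw [c0_smul, Ct_smul', mul_smul_comm, smul_add, smul_add, smul_comm ((toFr D).symm (s t))]

/-- The centralizer. -/
noncomputable abbrev Cz : Subring (AddMonoid.End (Q A1 A L J)) :=
  Subring.centralizer (Set.range (act D : A1 →+* AddMonoid.End (Q A1 A L J)))

theorem act_mem (c : A1) : act D c ∈ (Cz D : Subring (AddMonoid.End (Q A1 A L J))) := by
  rw [Subring.mem_centralizer_iff]
  rintro _ ⟨c', rfl⟩
  rw [← map_mul, ← map_mul, mul_comm]

theorem op_mem (t : T D) : op D hδ e xt l s t ∈ (Cz D : Subring (AddMonoid.End (Q A1 A L J))) := by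
  rw [Subring.mem_centralizer_iff]
  rintro _ ⟨c', rfl⟩
  exact (op_act D hδ e xt l s c' t).symm

/-- The representation, in the centralizer. -/
noncomputable def R₀ : TensorAlgebra A1 (T D) →+* (Cz D : Subring (AddMonoid.End (Q A1 A L J))) :=
  liftR ((act D).codRestrict _ (act_mem D)) (fun c b => Subtype.ext
      ((Subring.mem_centralizer_iff.1 b.2) _ ⟨c, rfl⟩))
    (AddMonoidHom.mk' (fun t => ⟨op D hδ e xt l s t, op_mem D hδ e xt l s t⟩)
      (fun t t' => Subtype.ext (op_add D hδ e xt l s t t')))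
    (fun c t => Subtype.ext (op_smul D hδ e xt l s c t))

/-- The representation. -/
noncomputable def R : TensorAlgebra A1 (T D) →+* AddMonoid.End (Q A1 A L J) :=
  (Cz D).subtype.comp (R₀ D hδ e xt l s)

theorem R_ι (t : T D) : R D hδ e xt l s (TensorAlgebra.ι A1 t) = op D hδ e xt l s t := by
  change (R₀ D hδ e xt l s (TensorAlgebra.ι A1 t)).1 = _
  rw [R₀, liftR_ι]
  rfl

theorem R_algebraMap (c : A1) : R D hδ e xt l s (algebraMap A1 _ c) = act D c := by
  change (R₀ D hδ e xt l s (algebraMap A1 _ c)).1 = _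
  rw [R₀, liftR_algebraMap]
  rfl

/-! ### Properties on charts in characteristic two -/

section chart

variable {D e xt l s} {lam : P → A} (h : Chart D δ e xt lam) (h2 : (2 : A) = 0) (hls : IsDec D xt l s)

include h hls in
theorem ι_φ (t : T D) : ExteriorAlgebra.ι A (φ D h.der t) =
    c₀ D e xt (ExteriorAlgebra.ι A1 (l t)) + ExteriorAlgebra.ι A (δ ((toFr D).symm (s t))) := by
  have e1 := congrArg (φ D h.der) (hls.eq t)
  rw [← σ_apply, map_add, φ_σ h, φ_io] at e1
  rw [e1, map_add, c0_ι]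
  rfl

variable {d : ExteriorAlgebra A L →+ ExteriorAlgebra A L} (hd : IsDR δ d) (hc : ∀ z, d (c₀ D e xt z) = 0)

include h hd in
theorem d_F (c : A1) (y : ExteriorAlgebra A L) : d (D.F c • y) = D.F c • d y := by
  rw [hd.smul, h.der.const, map_zero, zero_mul, zero_add]

include h hd h2 in
theorem d_ψj (j : J) : d (ψj D e xt j) = 0 := by
  rw [ψj, ← h.chart.ex]
  exact d_cube h2 hd (D.α (xt j))

include h h2 hd hc in
theorem d_Ct (v : J → A1) (z : ExteriorAlgebra A1 (J → A1)) : d (Ct D e xt v z) = 0 := by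
  rw [Ct_apply, map_sum]
  refine Finset.sum_eq_zero fun j _ => ?_
  rw [d_F h hd, d_mul h2 hd, d_ψj h h2 hd, hc, zero_mul, mul_zero, add_zero, smul_zero]

include h2 in
theorem Ct_ι_mul (v w : J → A1) (z : ExteriorAlgebra A1 (J → A1)) :
    Ct D e xt v (ExteriorAlgebra.ι A1 w * z) = (∑ j, D.F (v j * w j) • ψj D e xt j) * c₀ D e xt z +
      c₀ D e xt (ExteriorAlgebra.ι A1 w) * Ct D e xt v z := by
  rw [Ct_apply, Ct_apply, Finset.sum_mul, Finset.mul_sum, ← Finset.sum_add_distrib]
  refine Finset.sum_congr rfl fun j _ => ?_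
  rw [Ext.C_ι_mul, map_sub, c0_smul, map_mul, LinearMap.proj_apply, sub_eq_add_neg, neg_eq h2, mul_add, smul_add,
    mul_smul_comm, smul_smul, ← map_mul, smul_mul_assoc, mul_smul_comm, ← mul_assoc, ← mul_assoc,
    comm h2 (ψj D e xt j) (c₀ D e xt (ExteriorAlgebra.ι A1 w))]

theorem op_io (hls : IsDec D xt l s) (y : A) (z : Q A1 A L J) : op D hδ e xt l s (io D (toFr D y)) z =
    (0, ExteriorAlgebra.ι A (δ y) * z.2 + y • c₀ D e xt z.1) := by
  have e1 : Ct D e xt (0 : J → A1) z.1 = 0 := by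
    rw [Ct_apply]
    exact Finset.sum_eq_zero fun j _ => by rw [Pi.zero_apply, map_zero, zero_smul]
  rw [op_apply, hls.l_io, hls.s_io, φ_io, δF_toFr, e1, map_zero, zero_mul, add_zero, AddEquiv.symm_apply_apply]

include h h2 hls in
/-- The composition of two operators. -/
theorem op_op (t t' : T D) (z : Q A1 A L J) : (op D h.der e xt l s t (op D h.der e xt l s t' z)).2 =
    ExteriorAlgebra.ι A (φ D h.der t) * (ExteriorAlgebra.ι A (φ D h.der t') * z.2) +
    ((toFr D).symm (s t') • ((c₀ D e xt (ExteriorAlgebra.ι A1 (l t)) +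
      ExteriorAlgebra.ι A (δ ((toFr D).symm (s t)))) * c₀ D e xt z.1) +
      (c₀ D e xt (ExteriorAlgebra.ι A1 (l t)) + ExteriorAlgebra.ι A (δ ((toFr D).symm (s t)))) *
        Ct D e xt (l t') z.1 +
      (toFr D).symm (s t) • (c₀ D e xt (ExteriorAlgebra.ι A1 (l t')) * c₀ D e xt z.1) +
      (∑ j, D.F (l t j * l t' j) • ψj D e xt j) * c₀ D e xt z.1 +
      c₀ D e xt (ExteriorAlgebra.ι A1 (l t')) * Ct D e xt (l t) z.1) := by
  rw [op_apply, op_apply]
  dsimp only
  rw [Ct_ι_mul h2, map_mul, mul_add, mul_add, ι_φ h hls, mul_smul_comm]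
  abel

include h h2 hls hd hc in
theorem op_sq (t : T D) (z : Q A1 A L J) : op D h.der e xt l s t (op D h.der e xt l s t z) =
    (0, ((toFr D).symm (s t) • ExteriorAlgebra.ι A (δ ((toFr D).symm (s t))) +
      ∑ j, D.F (l t j) ^ 2 • ψj D e xt j) * c₀ D e xt z.1 + d ((toFr D).symm (s t) • Ct D e xt (l t) z.1)) := by
  refine Prod.ext ?_ ?_
  · change ExteriorAlgebra.ι A1 (l t) * (ExteriorAlgebra.ι A1 (l t) * z.1) = 0
    rw [← mul_assoc, ExteriorAlgebra.ι_sq_zero, zero_mul]
  · refine (op_op h h2 hls t t z).trans ?_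
    have e1 : ∑ j, D.F (l t j * l t j) • ψj D e xt j = ∑ j, D.F (l t j) ^ 2 • ψj D e xt j :=
      Finset.sum_congr rfl fun j _ => by rw [map_mul, pow_two]
    have e2 : d ((toFr D).symm (s t) • Ct D e xt (l t) z.1) =
        ExteriorAlgebra.ι A (δ ((toFr D).symm (s t))) * Ct D e xt (l t) z.1 := by
      rw [hd.smul, d_Ct h h2 hd hc, smul_zero, add_zero]
    rw [e1, e2, ← mul_assoc, ExteriorAlgebra.ι_sq_zero, zero_mul, zero_add]
    dsimp only
    generalize (toFr D).symm (s t) = r
    generalize c₀ D e xt (ExteriorAlgebra.ι A1 (l t)) = a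
    generalize ExteriorAlgebra.ι A (δ r) = b
    generalize c₀ D e xt z.1 = y
    generalize Ct D e xt (l t) z.1 = K
    generalize (∑ j, D.F (l t j) ^ 2 • ψj D e xt j) = S
    have e3 : r • ((a + b) * y) + (a + b) * K + r • (a * y) + S * y + a * K =
        (r • b + S) * y + b * K + ((r • (a * y) + a * K) + (r • (a * y) + a * K)) := by
      rw [add_mul, add_mul, add_mul, smul_add, smul_mul_assoc]
      abel
    rw [e3, add_self h2, add_zero]

include h h2 hls hd hc in
theorem op_comm (t t' : T D) (z : Q A1 A L J) :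
    op D h.der e xt l s t (op D h.der e xt l s t' z) + op D h.der e xt l s t' (op D h.der e xt l s t z) =
    (0, d (((toFr D).symm (s t) * (toFr D).symm (s t')) • c₀ D e xt z.1 +
      (toFr D).symm (s t) • Ct D e xt (l t') z.1 + (toFr D).symm (s t') • Ct D e xt (l t) z.1)) := by
  refine Prod.ext ?_ ?_
  · change ExteriorAlgebra.ι A1 (l t) * (ExteriorAlgebra.ι A1 (l t') * z.1) +
      ExteriorAlgebra.ι A1 (l t') * (ExteriorAlgebra.ι A1 (l t) * z.1) = 0
    rw [← mul_assoc, ← mul_assoc, ← add_mul, ExteriorAlgebra.ι_add_mul_swap, zero_mul]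
  · refine (congrArg₂ (· + ·) (op_op h h2 hls t t' z) (op_op h h2 hls t' t z)).trans ?_
    have e1 : ∑ j, D.F (l t' j * l t j) • ψj D e xt j = ∑ j, D.F (l t j * l t' j) • ψj D e xt j :=
      Finset.sum_congr rfl fun j _ => by rw [mul_comm]
    have e2 : ∀ (r : A) (K : ExteriorAlgebra A L), d K = 0 → d (r • K) = ExteriorAlgebra.ι A (δ r) * K := by
      intro r K hK
      rw [hd.smul, hK, smul_zero, add_zero]
    have e4 : ExteriorAlgebra.ι A (φ D h.der t) * (ExteriorAlgebra.ι A (φ D h.der t') * z.2) +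
        ExteriorAlgebra.ι A (φ D h.der t') * (ExteriorAlgebra.ι A (φ D h.der t) * z.2) = 0 := by
      rw [← mul_assoc, ← mul_assoc, ← add_mul, ExteriorAlgebra.ι_add_mul_swap, zero_mul]
    rw [map_add, map_add, e2 _ _ (hc _), e2 _ _ (d_Ct h h2 hd hc _ _), e2 _ _ (d_Ct h h2 hd hc _ _), h.der.leib,
      map_add, map_smul, map_smul]
    dsimp only
    rw [e1]
    generalize ExteriorAlgebra.ι A (φ D h.der t) * (ExteriorAlgebra.ι A (φ D h.der t') * z.2) = u1 at e4 ⊢
    generalize ExteriorAlgebra.ι A (φ D h.der t') * (ExteriorAlgebra.ι A (φ D h.der t) * z.2) = u2 at e4 ⊢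
    generalize (toFr D).symm (s t) = r
    generalize (toFr D).symm (s t') = r'
    generalize c₀ D e xt (ExteriorAlgebra.ι A1 (l t)) = a
    generalize c₀ D e xt (ExteriorAlgebra.ι A1 (l t')) = a'
    generalize ExteriorAlgebra.ι A (δ r) = b
    generalize ExteriorAlgebra.ι A (δ r') = b'
    generalize c₀ D e xt z.1 = y
    generalize Ct D e xt (l t) z.1 = K
    generalize Ct D e xt (l t') z.1 = K'
    generalize (∑ j, D.F (l t j * l t' j) • ψj D e xt j) = S
    have e3 : u1 + (r' • ((a + b) * y) + (a + b) * K' + r • (a' * y) + S * y + a' * K) +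
        (u2 + (r • ((a' + b') * y) + (a' + b') * K + r' • (a * y) + S * y + a * K')) =
        (r • b' + r' • b) * y + b * K' + b' * K + (u1 + u2) +
          ((r' • (a * y) + a * K' + r • (a' * y) + S * y + a' * K) +
           (r' • (a * y) + a * K' + r • (a' * y) + S * y + a' * K)) := by
      rw [add_mul, add_mul, add_mul, add_mul, add_mul, smul_add, smul_add, smul_mul_assoc, smul_mul_assoc]
      abel
    rw [e3, e4, add_self h2, add_zero, add_zero]

/-! ### The invariants -/

include h h2 hls hd hc in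
theorem inv_op (t : T D) (z : Q A1 A L J) :
    c₀ D e xt (op D h.der e xt l s t z).1 + d (op D h.der e xt l s t z).2 =
      ExteriorAlgebra.ι A (φ D h.der t) * (c₀ D e xt z.1 + d z.2) := by
  rw [op_apply]
  dsimp only
  rw [map_add, map_add, d_mul h2 hd, d_φ D h.der hd, zero_mul, zero_add, hd.smul, hc, smul_zero, add_zero,
    d_Ct h h2 hd hc, add_zero, map_mul, mul_add, ι_φ h hls, add_mul, add_mul]
  abel

include h h2 hls hd hc in
theorem inv_R (w : TensorAlgebra A1 (T D)) (z : Q A1 A L J) :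
    c₀ D e xt (R D h.der e xt l s w z).1 + d (R D h.der e xt l s w z).2 =
      FT D h.der w * (c₀ D e xt z.1 + d z.2) := by
  induction w using TensorAlgebra.induction generalizing z with
  | algebraMap c =>
    rw [R_algebraMap, act_apply, FT_algebraMap, ← Algebra.smul_def]
    dsimp only
    rw [c0_smul, d_F h hd, smul_add]
  | ι t => rw [R_ι, FT_ι, inv_op h h2 hls hd hc]
  | mul a b ha hb =>
    rw [map_mul, map_mul]
    change c₀ D e xt (R D h.der e xt l s a (R D h.der e xt l s b z)).1 +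
      d (R D h.der e xt l s a (R D h.der e xt l s b z)).2 = _
    rw [ha, hb, mul_assoc]
  | add a b ha hb =>
    rw [map_add, map_add]
    change c₀ D e xt ((R D h.der e xt l s a z).1 + (R D h.der e xt l s b z).1) +
      d ((R D h.der e xt l s a z).2 + (R D h.der e xt l s b z).2) = _
    rw [map_add, map_add, add_mul, ← ha, ← hb]
    abel

theorem R_snd (hδ : IsDer D δ) (w : TensorAlgebra A1 (T D)) (u : ExteriorAlgebra A L) :
    R D hδ e xt l s w (0, u) = (0, FT D hδ w * u) := by
  induction w using TensorAlgebra.induction generalizing u with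
  | algebraMap c =>
    rw [R_algebraMap, act_apply, FT_algebraMap, ← Algebra.smul_def]
    dsimp only
    rw [smul_zero]
  | ι t =>
    rw [R_ι, FT_ι, op_apply]
    dsimp only
    rw [mul_zero, map_zero, map_zero, smul_zero, add_zero, add_zero]
  | mul a b ha hb =>
    rw [map_mul, map_mul]
    change R D hδ e xt l s a (R D hδ e xt l s b (0, u)) = _
    rw [hb, ha, mul_assoc]
  | add a b ha hb =>
    rw [map_add, map_add]
    change R D hδ e xt l s a (0, u) + R D hδ e xt l s b (0, u) = _
    rw [ha, hb, Prod.mk_add_mk, add_zero, add_mul]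

include h hd in
theorem d_FT (w : TensorAlgebra A1 (T D)) : d (FT D h.der w) = 0 := d_FF D h.der hd _

end chart

end K224.TwoR
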