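import Groth.Agent.DelIll.K224.TwoP
import Groth.Agent.DelIll.K224.RelMain

/-!
# The extension in characteristic two: sheaves
-/

set_option autoImplicit false
set_option linter.style.haveILetI false
set_option linter.unusedSectionVars false
universe u

open CategoryTheory CategoryTheory.Limits AlgebraicGeometry Opposite TopologicalSpace K904 K905
open K905.GeoUp K905.GeoPhi K905.SheafKos K224.RelM K224.RelPhi K224.RelGeom K224.RelSys K224.RelGD K224.RelCov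
open K224.RelMain K224.TwoE K224.TwoM
open K905.TotM (PZ)
open K905.TotPhi (IsDR)
open Groth.Agent.Sga67.Sec

namespace K224.TwoS

variable {X X1 S Xt St : Scheme.{u}} {p : ℕ} [hp : Fact p.Prime] [FrobSch.IsCharP S p] [FrobSch.IsCharP X p]
    {f : X ⟶ S} {pr : X1 ⟶ X}
    {f1 : X1 ⟶ S} {F : X ⟶ X1} {iX : X1 ⟶ Xt} {gt : Xt ⟶ St} {iS : S ⟶ St}
    {Ω' : X.Modules} (δ : OmegaSh.Der f Ω') (D : DeRhamSh.Cx f Ω' δ)
    (H : IsGeo p f pr f1 F iX gt iS)

instance pzU (U : X.Opens) : PZ p Γ(X, U) := ⟨FrobSch.natCast_eq_zero_app X p U⟩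

theorem const_all (U : X.Opens) (c : Γ(X1, pr ⁻¹ᵁ U)) : δ.app U (gF H U c) = 0 := by
  change K922.DSec.dS δ U (gF H U c) = 0
  apply eq_of_locally
  intro x hx
  obtain ⟨U', V, hxU', hU'U, e⟩ := K922.Coord.exists_affine_pair f hx
  have hyV : Nonempty V.1 := ⟨⟨f x, e hxU'⟩⟩
  have hchV : CharP Γ(S, V.1) p := charP_of V.1
  refine ⟨U'.1, hU'U, hxU', ?_⟩
  rw [K922.DSec.dS_res, map_zero]
  have e1 : resO X hU'U (gF H U c) = gF H U'.1 ((gm H hU'U).f1 c) := ((gm H hU'U).F c).symm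
  rw [e1]
  exact const H U'.2 V.2 e _

theorem der_all (U : X.Opens) : IsDer (dat (gd H U)) (δ.app U) :=
  isDer (gd H U) (δ_mul U) (const_all δ H U) (by
    rintro c ⟨W, h1, h2, r, rfl⟩
    exact K922.DSec.dS_appLE (d := δ) h2 _)

theorem rel_all (U : X.Opens) (a : P (gd H U)) (t : Γ(X, U)) (h : (a, t) ∈ (dat (gd H U)).Rel) : δ.app U t = 0 := by
  rcases h with ⟨c, -, h2⟩ | ⟨c, -, -, h2⟩
  · have h3 : t = gF H U ((gd H U).θ c) := h2
    rw [h3, const_all]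
  · have h3 : t = 0 := h2
    rw [h3, map_zero]

/-- The restriction. -/
noncomputable def rT (k : ℕ) {U V : X.Opens} (h : V ≤ U) :
    TT (dat (gd H U)) (der_all δ H U) k →+ TT (dat (gd H V)) (der_all δ H V) k :=
  mTT (dat (gd H U)) (der_all δ H U) (mor (gm H h)) (der_all δ H V) (rM Ω' h) (rM_smul Ω' h) (rM_δ h) k

theorem rT_id (k : ℕ) {U : X.Opens} (h : U ≤ U) (z : TT (dat (gd H U)) (der_all δ H U) k) : rT δ H k h z = z :=
  mTT_id (dat (gd H U)) (der_all δ H U) (mor (gm H h)) ((sys H).id0 (op U)) ((sys H).id1 (op U)) ((sys H).id2 (op U))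
    (rM Ω' h) (rM_smul Ω' h) (rM_δ h) (fun x => res_self Ω' h x) k z

theorem rT_comp (k : ℕ) {U V W : X.Opens} (h : V ≤ U) (h' : W ≤ V) (h'' : W ≤ U)
    (z : TT (dat (gd H U)) (der_all δ H U) k) : rT δ H k h' (rT δ H k h z) = rT δ H k h'' z :=
  mTT_comp (dat (gd H U)) (der_all δ H U) (mor (gm H h)) (der_all δ H V) (rM Ω' h) (rM_smul Ω' h) (rM_δ h)
    (mor (gm H h')) (der_all δ H W) (rM Ω' h') (rM_smul Ω' h') (rM_δ h') (mor (gm H h''))
    ((sys H).comp0 (homOfLE h).op (homOfLE h').op) ((sys H).comp1 (homOfLE h).op (homOfLE h').op)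
    ((sys H).comp2 (homOfLE h).op (homOfLE h').op)
    (rM Ω' h'') (rM_smul Ω' h'') (rM_δ h'') (fun x => res_res Ω' h h' x) k z

/-- The presheaves. -/
noncomputable def PP2 (k i : ℕ) : (X.Opens)ᵒᵖ ⥤ AddCommGrpCat.{u} where
  obj U := AddCommGrpCat.of (PT (dat (gd H U.unop)) (der_all δ H U.unop) k i)
  map {U V} g := AddCommGrpCat.ofHom (AddMonoidHom.mk'
    (fun z => (⟨rT δ H k g.unop.le z.1, mTT_mem _ _ _ _ _ _ _ z.2⟩ : PT (dat (gd H V.unop)) (der_all δ H V.unop) k i))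
    (fun a b => Subtype.ext (map_add (rT δ H k g.unop.le) a.1 b.1)))
  map_id U := AddCommGrpCat.hom_ext (AddMonoidHom.ext fun z => Subtype.ext (rT_id δ H k le_rfl z.1))
  map_comp g h := AddCommGrpCat.hom_ext (AddMonoidHom.ext fun z => Subtype.ext
    (rT_comp δ H k g.unop.le h.unop.le (g ≫ h).unop.le z.1).symm)

/-- The differential. -/
noncomputable def dd2 (k i : ℕ) : PP2 δ H k i ⟶ PP2 δ H k (i + 1) where
  app U := AddCommGrpCat.ofHom (AddMonoidHom.mk'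
    (fun z => (⟨dT (dat (gd H U.unop)) (der_all δ H U.unop) k z.1, dT_mem _ _ z.2⟩ :
      PT (dat (gd H U.unop)) (der_all δ H U.unop) k (i + 1)))
    (fun a b => Subtype.ext (map_add (dT (dat (gd H U.unop)) (der_all δ H U.unop) k) a.1 b.1)))
  naturality U V g := by
    ext z
    exact Subtype.ext (mTT_dT _ _ _ _ _ _ _ _ _).symm

theorem dd2_dd2 (k i : ℕ) : dd2 δ H k i ≫ dd2 δ H k (i + 1) = 0 := by
  ext U z
  exact Subtype.ext (dT_dT _ _ _ _)

/-- The complex. -/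
noncomputable def PC2 (k : ℕ) : CochainComplex ((X.Opens)ᵒᵖ ⥤ AddCommGrpCat.{u}) ℕ :=
  CochainComplex.of (fun i => PP2 δ H k i) (dd2 δ H k) (dd2_dd2 δ H k)

theorem PC2_d (k i : ℕ) : (PC2 δ H k).d i (i + 1) = dd2 δ H k i := CochainComplex.of_d _ _ _

/-! ### The map to the de Rham complex -/

section map

variable (hp2 : p = 2)

omit [FrobSch.IsCharP S p] in
include hp2 in
theorem two_zero (V : X.Opens) : (2 : Γ(X, V)) = 0 := by
  have h := FrobSch.natCast_eq_zero_app X p V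
  have h3 : ((p : ℕ) : Γ(X, V)) = ((2 : ℕ) : Γ(X, V)) := by rw [hp2]
  exact_mod_cast h3.symm.trans h

variable {δ H}

/-- The de Rham differential of a chart. -/
noncomputable def dV {V : X.Opens} (hV : IsCh H δ V) :
    ExteriorAlgebra Γ(X, V) Γ(Ω', V) →+ ExteriorAlgebra Γ(X, V) Γ(Ω', V) :=
  LocalCartier.d (δ.app V) hV.chart.choose_spec.choose

theorem chart_spec {V : X.Opens} (hV : IsCh H δ V) :
    ∃ (xt : Fin hV.chart.choose → P (gd H V)) (lam : P (gd H V) → Γ(X, V)),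
      RelLocal.Chart (dat (gd H V)) (δ.app V) hV.chart.choose_spec.choose xt lam :=
  hV.chart.choose_spec.choose_spec

theorem dV_isDR {V : X.Opens} (hV : IsCh H δ V) : IsDR (δ.app V) (dV hV) := by
  obtain ⟨xt, lam, hc⟩ := chart_spec hV
  have hchar := hc.char
  exact RelCartier.isDR hc.chart

theorem dV_dV {V : X.Opens} (hV : IsCh H δ V) (y : ExteriorAlgebra Γ(X, V) Γ(Ω', V)) : dV hV (dV hV y) = 0 := by
  obtain ⟨xt, lam, hc⟩ := chart_spec hV
  have hchar := hc.char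
  exact RelCartier.d_d hc.chart y

theorem dV_span {V : X.Opens} (hV : IsCh H δ V) (m : Γ(Ω', V)) :
    m ∈ Submodule.span Γ(X, V) (Set.range (δ.app V)) := by
  obtain ⟨xt, lam, hc⟩ := chart_spec hV
  exact span_of hc.chart.ex m

theorem dV_mem {V : X.Opens} (hV : IsCh H δ V) (n : ℕ) (y : ExteriorAlgebra Γ(X, V) Γ(Ω', V))
    (hy : y ∈ ⋀[Γ(X, V)]^n Γ(Ω', V)) : dV hV y ∈ ⋀[Γ(X, V)]^(n + 1) Γ(Ω', V) :=
  dd_mem (dV_span hV) (dV_isDR hV) n y hy

/-- The map to forms. -/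
noncomputable def ThV {V : X.Opens} (hV : IsCh H δ V) (k i : ℕ) :
    PT (dat (gd H V)) (der_all δ H V) k i →+ ↥(⋀[Γ(X, V)]^i Γ(Ω', V)) :=
  AddMonoidHom.mk' (fun z => ⟨Θt (two_zero hp2 V) (der_all δ H V) (dV_isDR hV) k z.1,
    Θt_mem _ _ _ _ (dV_mem hV) z.2⟩) (fun a b => Subtype.ext (map_add (Θt (two_zero hp2 V) (der_all δ H V)
      (dV_isDR hV) k) a.1 b.1))

theorem ThV_val {V : X.Opens} (hV : IsCh H δ V) (k i : ℕ) (z : PT (dat (gd H V)) (der_all δ H V) k i) :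
    (ThV hp2 hV k i z).1 = Θt (two_zero hp2 V) (der_all δ H V) (dV_isDR hV) k z.1 := rfl

theorem ThV_res {V W : X.Opens} (hV : IsCh H δ V) (hW : IsCh H δ W) (h : W ≤ V) (k i : ℕ)
    (z : PT (dat (gd H V)) (der_all δ H V) k i) (z' : PT (dat (gd H W)) (der_all δ H W) k i)
    (hz : z'.1 = rT δ H k h z.1) :
    (ThV hp2 hW k i z').1 = Semi.extR (rO h) (rM Ω' h) (rM_smul Ω' h) (ThV hp2 hV k i z).1 := by
  have e2 := ThV_val hp2 hV k i z
  have e3 := ThV_val hp2 hW k i z'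
  have e1 := (extR_Θt (two_zero hp2 V) (der_all δ H V) (dV_isDR hV) k (mor (gm H h)) (der_all δ H W)
      (rM Ω' h) (rM_smul Ω' h) (rM_δ h) (two_zero hp2 W) (dV_isDR hW) (dV_span hV) z.1)
  have e4 := e3.trans (congrArg (Θt (two_zero hp2 W) (der_all δ H W) (dV_isDR hW) k) hz)
  refine e4.trans (e1.symm.trans ?_)
  exact congrArg (Semi.extR (rO h) (rM Ω' h) (rM_smul Ω' h)) e2.symm

theorem ThV_d {V : X.Opens} (hV : IsCh H δ V) (k i : ℕ)
    (z : PT (dat (gd H V)) (der_all δ H V) k i) (z' : PT (dat (gd H V)) (der_all δ H V) k (i + 1))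
    (hz : z'.1 = dT (dat (gd H V)) (der_all δ H V) k z.1) :
    (ThV hp2 hV k (i + 1) z').1 = dV hV (ThV hp2 hV k i z).1 := by
  have e2 := ThV_val hp2 hV k i z
  have e3 := ThV_val hp2 hV k (i + 1) z'
  have e1 := d_Θt (two_zero hp2 V) (der_all δ H V) (dV_isDR hV) k (dV_dV hV) z.1
  have e4 := e3.trans (congrArg (Θt (two_zero hp2 V) (der_all δ H V) (dV_isDR hV) k) hz)
  exact e4.trans (e1.symm.trans (congrArg (dV hV) e2.symm))

theorem bm2_comm (k i : ℕ) {V : X.Opens} (hV : IsCh H δ V) (z : PT (dat (gd H V)) (der_all δ H V) k i) :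
    sec D (i + 1) ⟨V, hV.aff⟩ (ThV hp2 hV k (i + 1) (((dd2 δ H k i).app (op V)) z)) =
    (D.K.d i (i + 1)).hom.app (op V) (sec D i ⟨V, hV.aff⟩ (ThV hp2 hV k i z)) := by
  refine Eq.trans ?_ (sec_d D i ⟨V, hV.aff⟩ (dV_isDR hV) (dV_span hV) (ThV hp2 hV k i z)).symm
  refine congrArg (sec D (i + 1) ⟨V, hV.aff⟩) ?_
  exact Subtype.ext (ThV_d hp2 hV k i z _ rfl)

theorem bm2_nat (k i : ℕ) {V W : X.Opens} (hV : IsCh H δ V) (hW : IsCh H δ W) (h : W ≤ V)
    (z : PT (dat (gd H V)) (der_all δ H V) k i) :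
    sec D i ⟨W, hW.aff⟩ (ThV hp2 hW k i (((PP2 δ H k i).map (homOfLE h).op) z)) =
    (D.K.X i).obj.map (homOfLE h).op (sec D i ⟨V, hV.aff⟩ (ThV hp2 hV k i z)) := by
  refine Eq.trans ?_ (sec_res D i ⟨V, hV.aff⟩ ⟨W, hW.aff⟩ h (ThV hp2 hV k i z)).symm
  refine congrArg (sec D i ⟨W, hW.aff⟩) ?_
  exact Subtype.ext (ThV_res hp2 hV hW h k i z _ rfl)

/-- The data on the basis. -/
noncomputable def bm2 (k : ℕ) : BasisMap (chs H δ) (PC2 δ H k) D.K where
  φ i V := (sec D i ⟨V.1, V.2.aff⟩).toAddMonoidHom.comp (ThV hp2 V.2 k i)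
  nat i V W g z := by
    have h : W.1 ≤ V.1 := g.le
    have hg : g = homOfLE h := Subsingleton.elim _ _
    subst hg
    exact bm2_nat D hp2 k i V.2 W.2 h z
  comm i V z := by
    have h1 : (PC2 δ H k).d i (i + 1) = dd2 δ H k i := PC2_d _ _ _ _
    exact (congrArg (fun t : PP2 δ H k i ⟶ PP2 δ H k (i + 1) =>
      sec D (i + 1) ⟨V.1, V.2.aff⟩ (ThV hp2 V.2 k (i + 1) ((t.app (op V.1)) z))) h1).trans (bm2_comm D hp2 k i V.2 z)

include hp2 in
theorem local_exact {V : X.Opens} (hV : IsCh H δ V) (k : ℕ) (x : TT (dat (gd H V)) (der_all δ H V) k)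
    (hx : x ∈ PT (dat (gd H V)) (der_all δ H V) k (k + 1))
    (hdx : dT (dat (gd H V)) (der_all δ H V) k x = 0) :
    ∃ y ∈ PT (dat (gd H V)) (der_all δ H V) k k, dT (dat (gd H V)) (der_all δ H V) k y = x := by
  obtain ⟨xt, lam, hc⟩ := chart_spec hV
  exact TwoP.loc_exact hc hp2 (two_zero hp2 V) (rel_all δ H V) (der_all δ H V) x hx hdx

include hp2 in
/-- Exactness in degree `k + 1`. -/
theorem exactAt_one (hcov : ∀ (U : Opens X) (x : X), x ∈ U → ∃ V ∈ chs H δ, x ∈ V ∧ V ≤ U) (k : ℕ) :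
    (shC (PC2 δ H k)).ExactAt (k + 1) := by
  refine SheafKos.exactAt (k + 1) hcov ?_
  intro V hV x hx
  rw [PC2_d] at hx
  have hprev : (ComplexShape.up ℕ).prev (k + 1) = k := CochainComplex.prev_nat_succ k
  rw [hprev, PC2_d]
  obtain ⟨y, hy, hyx⟩ := local_exact hp2 hV k x.1 x.2 (congrArg Subtype.val hx)
  exact ⟨⟨y, hy⟩, Subtype.ext hyx⟩

/-- Exactness above degree `k + 2`. -/
theorem exactAt_high (hcov : ∀ (U : Opens X) (x : X), x ∈ U → ∃ V ∈ chs H δ, x ∈ V ∧ V ≤ U) (k m : ℕ)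
    (hm : k + 2 < m) : (shC (PC2 δ H k)).ExactAt m := by
  refine SheafKos.exactAt m hcov ?_
  intro V hV x hx
  refine ⟨0, ?_⟩
  rw [map_zero]
  exact Subtype.ext (eq_zero_of_lt _ _ hm x.2).symm

end map

end K224.TwoS
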